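import Mathlib.CategoryTheory.FiberedCategory.Grothendieck
import Mathlib.CategoryTheory.Sites.Descent.DescentData

/-!
# Descent data along a morphism, in the Grothendieck construction
-/

set_option autoImplicit false
set_option backward.isDefEq.respectTransparency.types false
set_option linter.style.haveILetI false

open CategoryTheory Bicategory Opposite
open Pseudofunctor LocallyDiscreteOpToCat

namespace Groth.Agent.ThetaLib

universe v' u' v u

variable {𝒮 : Type u} [Category.{v} 𝒮] {F : LocallyDiscrete 𝒮ᵒᵖ ⥤ᵖ Cat.{v', u'}}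

variable {S X : 𝒮} (f : X ⟶ S)

/-- The morphism `(X, f^* M) ⟶ (S, N)` over `f` with component `α`. -/
abbrev homOver {M N : F.obj ⟨op S⟩}
    (α : (F.map f.op.toLoc).toFunctor.obj M ⟶ (F.map f.op.toLoc).toFunctor.obj N) :
    CoGrothendieck.domainCartesianLift M f ⟶ (⟨S, N⟩ : CoGrothendieck F) := ⟨f, α⟩

set_option backward.defeqAttrib.useBackward true in
set_option backward.isDefEq.respectTransparency false in
/-- A morphism over `f` which does not distinguish morphisms with equal composite to `(S, M)` is a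
morphism of canonical descent data. -/
theorem comm_of_homOver {M N : F.obj ⟨op S⟩}
    (α : (F.map f.op.toLoc).toFunctor.obj M ⟶ (F.map f.op.toLoc).toFunctor.obj N)
    (H : ∀ (e : CoGrothendieck F) (π₁ π₂ : e ⟶ CoGrothendieck.domainCartesianLift M f),
      π₁ ≫ CoGrothendieck.cartesianLift M f = π₂ ≫ CoGrothendieck.cartesianLift M f →
        π₁ ≫ homOver f α = π₂ ≫ homOver f α)
    {Y : 𝒮} (q : Y ⟶ S) (f₁ f₂ : Y ⟶ X) (h₁ : f₁ ≫ f = q) (h₂ : f₂ ≫ f = q) :
    (F.map f₁.op.toLoc).toFunctor.map α ≫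
        (F.mapComp' f.op.toLoc f₁.op.toLoc q.op.toLoc (by rw [← h₁]; rfl)).inv.toNatTrans.app N ≫
          (F.mapComp' f.op.toLoc f₂.op.toLoc q.op.toLoc (by rw [← h₂]; rfl)).hom.toNatTrans.app N =
      ((F.mapComp' f.op.toLoc f₁.op.toLoc q.op.toLoc (by rw [← h₁]; rfl)).inv.toNatTrans.app M ≫
          (F.mapComp' f.op.toLoc f₂.op.toLoc q.op.toLoc (by rw [← h₂]; rfl)).hom.toNatTrans.app M) ≫
        (F.map f₂.op.toLoc).toFunctor.map α := by
  subst h₁
  let e : CoGrothendieck F := ⟨Y, (F.map f₁.op.toLoc).toFunctor.obj ((F.map f.op.toLoc).toFunctor.obj M)⟩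
  let π₁ : e ⟶ CoGrothendieck.domainCartesianLift M f := ⟨f₁, 𝟙 _⟩
  let π₂ : e ⟶ CoGrothendieck.domainCartesianLift M f :=
    ⟨f₂, (F.mapComp' f.op.toLoc f₁.op.toLoc (f₁ ≫ f).op.toLoc rfl).inv.toNatTrans.app M ≫
      (F.mapComp' f.op.toLoc f₂.op.toLoc (f₁ ≫ f).op.toLoc (by rw [← h₂]; rfl)).hom.toNatTrans.app M⟩
  have h := H e π₁ π₂ (CoGrothendieck.Hom.ext _ _ h₂.symm (by
    simp [π₁, π₂, e, Pseudofunctor.mapComp', PrelaxFunctor.map₂_eqToHom, ← Cat.Hom.toNatIso_hom, ← Cat.Hom.toNatIso_inv]))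
  have h' := CoGrothendieck.Hom.congr h
  simp [π₁, π₂, e, Pseudofunctor.mapComp', PrelaxFunctor.map₂_eqToHom] at h' ⊢
  rw [reassoc_of% h']
  simp [← Cat.Hom.toNatIso_hom, ← Cat.Hom.toNatIso_inv]

end Groth.Agent.ThetaLib

namespace Groth.Agent.ThetaLib

universe v₁ u₁ v₂ u₂ t

variable {𝒮 : Type u₂} [Category.{v₂} 𝒮] {F : LocallyDiscrete 𝒮ᵒᵖ ⥤ᵖ Cat.{v₁, u₁}} {S X : 𝒮} (f : X ⟶ S)

set_option backward.defeqAttrib.useBackward true in
set_option backward.isDefEq.respectTransparency false in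
/-- A cartesian lift followed by a vertical morphism. -/
theorem cartesianLift_comp_ι {M N : F.obj ⟨op S⟩} (ψ : M ⟶ N) :
    CoGrothendieck.cartesianLift M f ≫ (CoGrothendieck.ι F S).map ψ =
      homOver f ((F.map f.op.toLoc).toFunctor.map ψ) := by
  ext <;> simp [F.mapComp_id_left_inv_app, Strict.leftUnitor_eqToIso, PrelaxFunctor.map₂_eqToHom]
  rw [← Functor.map_comp_assoc, ← Functor.map_comp_assoc, Category.assoc]
  erw [← Cat.Hom₂.comp_app, Iso.inv_hom_id, Cat.Hom₂.id_app, Category.comp_id]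

/-- If morphisms of descent data descend along `f`, so do morphisms over `f`. -/
theorem exists_map_eq {M N : F.obj ⟨op S⟩}
    (hsurj : Function.Surjective ((F.toDescentData (fun _ : PUnit.{t + 1} => f)).map : (M ⟶ N) → _))
    (α : (F.map f.op.toLoc).toFunctor.obj M ⟶ (F.map f.op.toLoc).toFunctor.obj N)
    (H : ∀ (e : CoGrothendieck F) (π₁ π₂ : e ⟶ CoGrothendieck.domainCartesianLift M f),
      π₁ ≫ CoGrothendieck.cartesianLift M f = π₂ ≫ CoGrothendieck.cartesianLift M f →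
        π₁ ≫ homOver f α = π₂ ≫ homOver f α) :
    ∃ ψ : M ⟶ N, (F.map f.op.toLoc).toFunctor.map ψ = α := by
  obtain ⟨ψ, hψ⟩ := hsurj
    { hom := fun _ => α
      comm := fun Y q i₁ i₂ f₁ f₂ h₁ h₂ => comm_of_homOver f α H q f₁ f₂ h₁ h₂ }
  exact ⟨ψ, congrArg (fun φ => φ.hom PUnit.unit) hψ⟩

end Groth.Agent.ThetaLib
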