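import Groth.Agent.ThetaLib.Cartesian
import Groth.Agent.ThetaLib.CartDescent
import Groth.Agent.Desc19b.QDesc.FF
import Groth.Agent.AmpleLib.Ample

/-!
# Morphisms out of pullbacks of invertible modules descend along fppf morphisms
-/

set_option autoImplicit false
set_option backward.isDefEq.respectTransparency.types false
set_option linter.style.haveILetI false
set_option linter.unusedSectionVars false

universe u

open CategoryTheory CategoryTheory.Limits AlgebraicGeometry
open Pseudofunctor Bicategory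

namespace Groth.Agent.ThetaLib

theorem comp_ι_eq' {𝒮 : Type*} [Category 𝒮] {F : LocallyDiscrete 𝒮ᵒᵖ ⥤ᵖ Cat} {a b : CoGrothendieck F} (f : a ⟶ b)
    (ψ : b.fiber ⟶ b.fiber) (ψ' : a.fiber ⟶ a.fiber)
    (h : f.fiber ≫ (F.map f.base.op.toLoc).toFunctor.map ψ = ψ' ≫ f.fiber) :
    f ≫ (CoGrothendieck.ι F b.base).map ψ = (CoGrothendieck.ι F a.base).map ψ' ≫ f := by
  have e1 : CoGrothendieck.cartesianLift b.fiber f.base ≫ (CoGrothendieck.ι F b.base).map ψ =
      (CoGrothendieck.ι F a.base).map ((F.map f.base.op.toLoc).toFunctor.map ψ) ≫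
        CoGrothendieck.cartesianLift b.fiber f.base :=
    (cartesianLift_comp_ι f.base ψ).trans (factor (homOver f.base _)).symm
  refine (congrArg (· ≫ (CoGrothendieck.ι F b.base).map ψ) (factor f).symm).trans ?_
  refine ((Category.assoc _ _ _).trans ((congrArg (_ ≫ ·) e1).trans ((Category.assoc _ _ _).symm.trans
    (congrArg (· ≫ _) (Functor.map_comp _ _ _).symm)))).trans ?_
  refine (congrArg (fun t => (CoGrothendieck.ι F a.base).map t ≫ CoGrothendieck.cartesianLift b.fiber f.base) h).trans ?_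
  exact (congrArg (· ≫ _) (Functor.map_comp _ _ _)).trans
    ((Category.assoc _ _ _).trans (congrArg (_ ≫ ·) (factor f)))

theorem mem_fpqc_single {X S : Scheme.{u}} (f : X ⟶ S) [Flat f] [Surjective f] [LocallyOfFinitePresentation f] :
    Presieve.ofArrows _ (fun _ : PUnit.{u+1} => f) ∈ Scheme.fpqcPrecoverage S := by
  rw [Presieve.ofArrows_pUnit]
  exact Scheme.fppfPrecoverage_le_fpqcPrecoverage _ f.singleton_mem_fppfPrecoverage

/-- Vertical endomorphisms compatible with a morphism. -/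
theorem comp_ι_eq {a b : CoGrothendieck ThetaGrp.modPF.{u}} (f : a ⟶ b) (ψ : b.fiber ⟶ b.fiber) (ψ' : a.fiber ⟶ a.fiber)
    (h : f.fiber ≫ (ThetaGrp.modPF.map f.base.op.toLoc).toFunctor.map ψ = ψ' ≫ f.fiber) :
    f ≫ (CoGrothendieck.ι ThetaGrp.modPF b.base).map ψ = (CoGrothendieck.ι ThetaGrp.modPF a.base).map ψ' ≫ f :=
  comp_ι_eq' f ψ ψ' h

/-- A morphism out of a cartesian arrow over an fppf morphism, which does not distinguish morphisms with equal
composite downstairs, descends. -/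
theorem exists_descend {a b c : CoGrothendieck ThetaGrp.modPF.{u}} (F : a ⟶ b) [IsIso F.fiber] [Flat F.base]
    [Surjective F.base] [LocallyOfFinitePresentation F.base] (hb : PicF.IsInvertible b.fiber)
    (hc : PicF.IsInvertible c.fiber) (φ : a ⟶ c) (h : b.base ⟶ c.base) (hh : φ.base = F.base ≫ h)
    (hinv : ∀ (e : CoGrothendieck ThetaGrp.modPF.{u}) (π₁ π₂ : e ⟶ a), π₁ ≫ F = π₂ ≫ F → π₁ ≫ φ = π₂ ≫ φ) :
    ∃ ψ : b ⟶ c, ψ.base = h ∧ F ≫ ψ = φ := by
  let cM : CoGrothendieck.domainCartesianLift b.fiber F.base ⟶ b := CoGrothendieck.cartesianLift b.fiber F.base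
  let v : a ⟶ CoGrothendieck.domainCartesianLift b.fiber F.base :=
    (CoGrothendieck.ι ThetaGrp.modPF a.base).map F.fiber
  haveI : IsIso v := Functor.map_isIso _ _
  have hv : v ≫ cM = F := factor F
  have hinvF : inv v ≫ F = cM := by rw [IsIso.inv_comp_eq, hv]
  have hvb : (inv v).base = 𝟙 a.base := by
    have h1 : (inv v ≫ v).base = 𝟙 a.base := by rw [IsIso.inv_hom_id]; rfl
    rw [CoGrothendieck.categoryStruct_comp_base] at h1
    have h2 : v.base = 𝟙 a.base := rfl
    rw [h2] at h1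
    exact (Category.comp_id _).symm.trans h1
  let cN : CoGrothendieck.domainCartesianLift c.fiber h ⟶ c := CoGrothendieck.cartesianLift c.fiber h
  haveI : IsIso cN.fiber := inferInstanceAs (IsIso (𝟙 _))
  obtain ⟨χ, hχb, hχ⟩ := exists_lift_of_fiber cN (inv v ≫ φ) F.base (by
    rw [CoGrothendieck.categoryStruct_comp_base, hvb, hh]; exact Category.id_comp _)
  obtain ⟨χb, α⟩ := χ
  subst hχb
  have H : ∀ (e : CoGrothendieck ThetaGrp.modPF.{u}) (π₁ π₂ : e ⟶ CoGrothendieck.domainCartesianLift b.fiber F.base),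
      π₁ ≫ cM = π₂ ≫ cM → π₁ ≫ homOver F.base α = π₂ ≫ homOver F.base α := by
    intro e π₁ π₂ hπ
    haveI : IsIso (CoGrothendieck.cartesianLift c.fiber h).fiber := inferInstanceAs (IsIso (𝟙 _))
    refine hom_ext_of_fiber cN (congrArg (fun t => t.base) hπ) ?_
    rw [Category.assoc, Category.assoc, hχ, ← Category.assoc, ← Category.assoc]
    exact hinv e _ _ (by rw [Category.assoc, Category.assoc, hinvF, hπ])
  haveI : Coh.IsQCoh b.fiber := AmpleLib.isQCoh_of_isInvertible hb
  haveI : Coh.IsQCoh (X := b.base) (CoGrothendieck.domainCartesianLift c.fiber h).fiber :=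
    AmpleLib.isQCoh_of_isInvertible (PicLoc.isInvertible_pullback h hc)
  obtain ⟨ψ, hψ⟩ := exists_map_eq (F := ThetaGrp.modPF.{u}) F.base
    (fun x => (Desc19b.QDesc.toDescentData_map_bijective
      (Desc19b.QDesc.cov_of_fpqc _ (mem_fpqc_single F.base))).2 x) α H
  refine ⟨(CoGrothendieck.ι ThetaGrp.modPF b.base).map ψ ≫ cN, ?_, ?_⟩
  · exact Category.id_comp _
  · have h3 : cM ≫ (CoGrothendieck.ι ThetaGrp.modPF b.base).map ψ = homOver F.base α :=
      (cartesianLift_comp_ι F.base ψ).trans (congrArg (homOver F.base) hψ)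
    calc F ≫ (CoGrothendieck.ι ThetaGrp.modPF b.base).map ψ ≫ cN
        = v ≫ (cM ≫ (CoGrothendieck.ι ThetaGrp.modPF b.base).map ψ) ≫ cN :=
          (congrArg (fun t => t ≫ (CoGrothendieck.ι ThetaGrp.modPF b.base).map ψ ≫ cN) hv.symm).trans
            ((Category.assoc _ _ _).trans (congrArg (v ≫ ·) (Category.assoc _ _ _).symm))
      _ = v ≫ inv v ≫ φ := congrArg (v ≫ ·) ((congrArg (· ≫ cN) h3).trans hχ)
      _ = φ := IsIso.hom_inv_id_assoc v φ

end Groth.Agent.ThetaLib
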