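import Groth.Agent.ThetaLib.CartData
import Groth.Agent.ThetaLib.Descend
import Groth.Agent.Desc19b.QDesc.EffectiveIso
import Groth.Agent.Desc19b.FamilyDescent
import Groth.Agent.VarietyLib.DegBasic
import Groth.Agent.PicLib.FiniteSetTriv
import Groth.Agent.KRRPBLib.Basic

/-!
# Invertible modules descend along fppf morphisms
-/

set_option autoImplicit false
set_option backward.isDefEq.respectTransparency.types false
set_option linter.style.haveILetI false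
set_option linter.unusedSectionVars false

universe u

open CategoryTheory CategoryTheory.Limits AlgebraicGeometry Opposite TensorProduct
open Pseudofunctor Bicategory

namespace Groth.Agent.ThetaLib

/-- Invertibility descends along faithfully flat quasi-compact morphisms. -/
theorem isInvertible_of_fpqc {X' X : Scheme.{u}} (f : X' ⟶ X) [Flat f] [Surjective f] [QuasiCompact f]
    (M : X.Modules) [Coh.IsQCoh M] (h : PicF.IsInvertible ((Scheme.Modules.pullback f).obj M)) :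
    PicF.IsInvertible M := by
  have h1 := PicLib.isFinLocFreeOfRank_one h
  have hM := Desc19b.isFinLocFree_of_fpqc f M (VarietyLib.isFinLocFree_of_rank h1)
  refine KRRPBLib.isInvertible_of_rankOne fun y => ?_
  obtain ⟨U, n, hy, ⟨e⟩⟩ := hM y
  suffices n = 1 by subst this; exact ⟨U, hy, ⟨e⟩⟩
  obtain ⟨x, rfl⟩ := f.surjective y
  letI := (f.stalkMap x).hom.toAlgebra
  let E : ((Scheme.Modules.pullback f).obj M).presheaf.stalk x ≃ₗ[X'.presheaf.stalk x]
      (X'.presheaf.stalk x) ⊗[X.presheaf.stalk (f x)] (M.presheaf.stalk (f x)) :=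
    ((ModStalk.pullbackStalkIso f x).app M).toLinearEquiv
  haveI : Module.Free (X.presheaf.stalk (f x)) (M.presheaf.stalk (f x)) :=
    Props12.free_stalk_of_isFinLocFree M hM (f x)
  have h2 := E.finrank_eq
  rw [VarietyLib.finrank_stalk_of_rank h1 x, Module.finrank_baseChange,
    Coherent.CohBC.finrank_stalk_of_free M hy e] at h2
  exact h2.symm

/-- A compatible family of morphisms `(Y, f₁^* L) ⟶ (X, L)` over `f₂` descends `L`. -/
theorem exists_invertible_descent {X S : Scheme.{u}} (f : X ⟶ S) [Flat f] [Surjective f] [QuasiCompact f]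
    [LocallyOfFinitePresentation f] {L : X.Modules} (hL : PicF.IsInvertible L)
    (Θ : ∀ ⦃Y : Scheme.{u}⦄ (f₁ f₂ : Y ⟶ X), f₁ ≫ f = f₂ ≫ f →
      (dom (F := ThetaGrp.modPF.{u}) L f₁ ⟶ (⟨X, L⟩ : CoGrothendieck ThetaGrp.modPF.{u})))
    (hb : ∀ ⦃Y : Scheme.{u}⦄ (f₁ f₂ : Y ⟶ X) h, (Θ f₁ f₂ h).base = f₂)
    (hnat : ∀ ⦃Y Y' : Scheme.{u}⦄ (g : Y' ⟶ Y) (f₁ f₂ : Y ⟶ X) h h',
      pullMap (F := ThetaGrp.modPF.{u}) L f₁ g ≫ Θ f₁ f₂ h = Θ (g ≫ f₁) (g ≫ f₂) h')
    (hself : ∀ ⦃Y : Scheme.{u}⦄ (p : Y ⟶ X) h, Θ p p h = CoGrothendieck.cartesianLift (F := ThetaGrp.modPF.{u}) L p)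
    (hcomp : ∀ ⦃Y : Scheme.{u}⦄ (f₁ f₂ f₃ : Y ⟶ X) h₁₂ h₂₃ h₁₃
      (ψ : (ThetaGrp.modPF.{u}.map f₁.op.toLoc).toFunctor.obj L ⟶ (ThetaGrp.modPF.{u}.map f₂.op.toLoc).toFunctor.obj L),
      (CoGrothendieck.ι ThetaGrp.modPF.{u} Y).map ψ ≫ CoGrothendieck.cartesianLift (F := ThetaGrp.modPF.{u}) L f₂ = Θ f₁ f₂ h₁₂ →
        (CoGrothendieck.ι ThetaGrp.modPF.{u} Y).map ψ ≫ Θ f₂ f₃ h₂₃ = Θ f₁ f₃ h₁₃) :
    ∃ M : S.Modules, PicF.IsInvertible M ∧ Nonempty ((Scheme.Modules.pullback f).obj M ≅ L) := by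
  obtain ⟨D, hD⟩ := exists_descentData.{_, _, _, _, u} (F := ThetaGrp.modPF.{u}) f L Θ hb hnat hself hcomp
  haveI : ∀ i, Coh.IsQCoh (Desc19b.QDesc.ob (ι := PUnit.{u + 1}) D i) := fun _ => by
    show Coh.IsQCoh (X := X) (D.obj PUnit.unit)
    rw [hD]
    exact AmpleLib.isQCoh_of_isInvertible hL
  have hcov := Desc19b.QDesc.cov_of_fpqc _ (mem_fpqc_single f)
  haveI hQ := Desc19b.QDesc.isQCoh_descended D hcov
  obtain ⟨e⟩ := Desc19b.QDesc.nonempty_toDescentData_iso D hcov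
  let e' : (Scheme.Modules.pullback f).obj (Desc19b.QDesc.descended D) ≅ L :=
    ⟨e.hom.hom PUnit.unit, e.inv.hom PUnit.unit,
      congrArg (fun φ => φ.hom PUnit.unit) e.hom_inv_id, congrArg (fun φ => φ.hom PUnit.unit) e.inv_hom_id⟩ ≪≫
      eqToIso hD
  exact ⟨_, isInvertible_of_fpqc f _ (KLLib.isInvertible_of_iso e'.symm hL), ⟨e'⟩⟩

end Groth.Agent.ThetaLib
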