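import Groth.Agent.ThetaLib.Descend
import Groth.Agent.EulerLib.Scalar
import Groth.Agent.AbSchLib.RigidityGeneral
import Groth.Agent.AbSchLib.RigidityOver

/-!
# Scalars: endomorphisms of invertible modules, functions on `A × T`, vertical morphisms
-/

set_option autoImplicit false
set_option backward.isDefEq.respectTransparency false
set_option backward.isDefEq.respectTransparency.types false
set_option linter.style.haveILetI false
set_option linter.unusedSectionVars false

universe u

open CategoryTheory CategoryTheory.Limits MonoidalCategory CartesianMonoidalCategory MonObj AlgebraicGeometry Opposite TopologicalSpace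
open Pseudofunctor Bicategory
open Groth.Agent.Coherent Groth.Agent.PicLib Groth.Agent.EulerLib

namespace Groth.Agent.ThetaLib

variable {X Y : Scheme.{u}}

theorem smulMod_app' (M : X.Modules) (r : Γ(X, ⊤)) (V : X.Opens) (s : Γ(M, V)) :
    (smulMod M r).app V s = PicLib.res (le_top : V ≤ ⊤) r • s := smulMod_app M r V s

theorem smulMod_comm {M N : X.Modules} (φ : M ⟶ N) (r : Γ(X, ⊤)) : φ ≫ smulMod N r = smulMod M r ≫ φ := by
  refine Scheme.Modules.hom_ext _ _ fun V => ConcreteCategory.hom_ext _ _ fun x => ?_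
  show (smulMod N r).app V (φ.app V x) = φ.app V ((smulMod M r).app V x)
  rw [smulMod_app', smulMod_app', Scheme.Modules.Hom.app_smul]

theorem pullback_map_smulMod (f : Y ⟶ X) (M : X.Modules) (r : Γ(X, ⊤)) :
    (Scheme.Modules.pullback f).map (smulMod M r) = smulMod ((Scheme.Modules.pullback f).obj M) (f.appTop r) := by
  refine Desc19b.QDesc.pullback_hom_ext f fun U m => ?_
  rw [← Desc19b.QDesc.pl_self, Desc19b.QDesc.app_pl, smulMod_app', Desc19b.QDesc.pl_smul, smulMod_app']
  refine congrArg (· • _) ?_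
  show (X.presheaf.map (homOfLE le_top).op ≫ f.appLE U (f ⁻¹ᵁ U) le_rfl) r =
    (f.appTop ≫ Y.presheaf.map (homOfLE le_top).op) r
  have h : X.presheaf.map (homOfLE (le_top : U ≤ ⊤)).op ≫ f.appLE U (f ⁻¹ᵁ U) le_rfl =
      f.appTop ≫ Y.presheaf.map (homOfLE (le_top : f ⁻¹ᵁ U ≤ ⊤)).op := by
    rw [Scheme.Hom.map_appLE, Scheme.Hom.appTop, Scheme.Hom.app_eq_appLE, Scheme.Hom.appLE_map]
  exact congr($h r)

/-- Endomorphisms of invertible modules are scalars. -/
theorem exists_eq_smulMod {L : X.Modules} (hL : PicF.IsInvertible L) (φ : L ⟶ L) :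
    ∃ r : Γ(X, ⊤), φ = smulMod L r := by
  obtain ⟨U, s, hy, hs⟩ := exists_cover hL
  have hU : iSup U = ⊤ := top_le_iff.1 fun y _ => Opens.mem_iSup.2 ⟨y, hy y⟩
  let c : ∀ y, Γ(X, U y) := fun y => (hs y).coef le_rfl (φ.app (U y) (s y))
  have hc : ∀ y, φ.app (U y) (s y) = c y • s y := fun y => by
    have h := (hs y).coef_spec le_rfl (φ.app (U y) (s y))
    rw [resM_self] at h
    exact h.symm
  have hglue : TopCat.Presheaf.IsCompatible X.presheaf U c := by
    intro y z
    refine (hs y (U y ⊓ U z) inf_le_left).1 ?_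
    show PicLib.res inf_le_left (c y) • resM L inf_le_left (s y) = PicLib.res inf_le_right (c z) • resM L inf_le_left (s y)
    obtain ⟨a, ha⟩ := (hs z (U y ⊓ U z) inf_le_right).2 (resM L inf_le_left (s y))
    have h1 := congrArg (resM L (inf_le_left : U y ⊓ U z ≤ U y)) (hc y)
    rw [← app_resM, resM_smul] at h1
    have h2 := congrArg (resM L (inf_le_right : U y ⊓ U z ≤ U z)) (hc z)
    rw [← app_resM, resM_smul] at h2
    dsimp only at ha
    rw [← h1, ← ha, Scheme.Modules.Hom.app_smul, h2, smul_comm]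
  obtain ⟨r, hr, -⟩ := TopCat.Sheaf.existsUnique_gluing' X.sheaf U ⊤ (fun y => homOfLE le_top) hU.ge c hglue
  refine ⟨r, hom_ext_gen U hU s hs _ _ fun y => ?_⟩
  rw [hc, smulMod_app']
  exact congrArg (· • s y) (hr y).symm

/-- Vertical scalar endomorphism. -/
noncomputable def scal (a : CoGrothendieck ThetaGrp.modPF.{u}) (r : Γ(a.base, ⊤)) : a ⟶ a :=
  (CoGrothendieck.ι ThetaGrp.modPF a.base).map (smulMod a.fiber r)

theorem scal_base (a : CoGrothendieck ThetaGrp.modPF.{u}) (r : Γ(a.base, ⊤)) : (scal a r).base = 𝟙 a.base := rfl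

/-- Scalars commute with all morphisms. -/
theorem comp_scal {a b : CoGrothendieck ThetaGrp.modPF.{u}} (f : a ⟶ b) (r : Γ(b.base, ⊤)) :
    f ≫ scal b r = scal a (f.base.appTop r) ≫ f :=
  comp_ι_eq f (smulMod b.fiber r) (smulMod a.fiber (f.base.appTop r))
    ((congrArg (f.fiber ≫ ·) (pullback_map_smulMod f.base b.fiber r)).trans (smulMod_comm f.fiber _))

/-- A vertical endomorphism of an invertible module is a scalar. -/
theorem exists_eq_scal {a : CoGrothendieck ThetaGrp.modPF.{u}} (ha : PicF.IsInvertible a.fiber) (c : a ⟶ a)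
    (hc : c.base = 𝟙 a.base) : ∃ r, c = scal a r := by
  obtain ⟨b, φ⟩ := c
  subst hc
  obtain ⟨r, hr⟩ := exists_eq_smulMod ha (φ ≫ (ThetaGrp.modPF.mapId ⟨op a.base⟩).hom.toNatTrans.app a.fiber)
  refine ⟨r, CoGrothendieck.Hom.ext _ _ rfl ?_⟩
  show φ = (smulMod a.fiber r ≫ (ThetaGrp.modPF.mapId ⟨op a.base⟩).inv.toNatTrans.app a.fiber) ≫ eqToHom _
  rw [← hr]
  simp
  erw [Category.id_comp, Iso.hom_inv_id_app, Category.comp_id]

section functions

variable {k : Type u} [Field k] {A T : Over (Spec (CommRingCat.of k))} [GrpObj A] [IsProper A.hom]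
  [GeometricallyIntegral A.hom]

/-- Functions on `A × T` come from `T`. -/
theorem appTop_snd_eq (r : Γ((A ⊗ T).left, ⊤)) :
    (snd A T).left.appTop ((lift (1 : T ⟶ A) (𝟙 T)).left.appTop r) = r := by
  have hq : (snd A T).left = pullback.snd A.hom T.hom := rfl
  haveI : Flat (snd A T).left := hq ▸ inferInstance
  haveI : LocallyOfFinitePresentation (snd A T).left := hq ▸ inferInstance
  haveI : UniversallyClosed (snd A T).left := hq ▸ inferInstance
  haveI : IsSeparated (snd A T).left := hq ▸ inferInstance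
  haveI := AbSchLib.geometricallyConnected_of_irreducible A.hom
  haveI : GeometricallyConnected (snd A T).left := hq ▸ inferInstance
  haveI : GeometricallyReduced (snd A T).left := hq ▸ inferInstance
  have he : (lift (1 : T ⟶ A) (𝟙 T)).left ≫ (snd A T).left = 𝟙 T.left := by
    rw [← Over.comp_left, lift_snd]; rfl
  have he' : ∀ x, (lift (1 : T ⟶ A) (𝟙 T)).left.appTop ((snd A T).left.appTop x) = x := fun x => by
    rw [← CommRingCat.comp_apply, ← Scheme.Hom.comp_appTop, he, Scheme.Hom.id_appTop]; rfl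
  rw [← sub_eq_zero]
  refine TopCat.Presheaf.section_ext (A ⊗ T).left.sheaf ⊤ _ _ fun x hx => ?_
  rw [map_zero]
  refine AbSchLib.germ_eq_zero_of_sectionG (snd A T).left _ he ⊤ le_top _ ?_ x trivial
  rw [map_sub]
  have e : ∀ z, (lift (1 : T ⟶ A) (𝟙 T)).left.appLE ((snd A T).left ⁻¹ᵁ ⊤) ⊤ le_top z =
      (lift (1 : T ⟶ A) (𝟙 T)).left.appTop z := fun z => by
    rw [Scheme.Hom.appTop, Scheme.Hom.app_eq_appLE]; rfl
  rw [e, e, he', sub_self]

end functions

end Groth.Agent.ThetaLib
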