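import Groth.Agent.ThetaLib.Hom

/-!
# Commutators in the theta group as functions on the base
-/

set_option autoImplicit false
set_option backward.isDefEq.respectTransparency.types false
set_option linter.style.haveILetI false
set_option linter.unusedSectionVars false

universe u

open CategoryTheory CategoryTheory.Limits MonoidalCategory CartesianMonoidalCategory MonObj AlgebraicGeometry Opposite
open Pseudofunctor Bicategory
open Groth.Agent.Coherent Groth.Agent.PicLib Groth.Agent.EulerLib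

namespace Groth.Agent.ThetaLib

theorem smulMod_injective {X : Scheme.{u}} {L : X.Modules} (hL : PicF.IsInvertible L) {r r' : Γ(X, ⊤)}
    (h : smulMod L r = smulMod L r') : r = r' := by
  obtain ⟨U, s, hy, hs⟩ := exists_cover hL
  have hU : iSup U = ⊤ := top_le_iff.1 fun y _ => TopologicalSpace.Opens.mem_iSup.2 ⟨y, hy y⟩
  refine TopCat.Sheaf.eq_of_locally_eq' X.sheaf U ⊤ (fun y => homOfLE le_top) hU.ge r r' fun y => ?_
  have h1 := congr(($h).app (U y) (s y))
  rw [smulMod_app', smulMod_app', ← resM_self L le_rfl (s y)] at h1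
  exact (hs y (U y) le_rfl).1 h1

theorem scal_injective {a : CoGrothendieck ThetaGrp.modPF.{u}} (ha : PicF.IsInvertible a.fiber) {r r' : Γ(a.base, ⊤)}
    (h : scal a r = scal a r') : r = r' := by
  refine smulMod_injective ha ?_
  have h1 := CoGrothendieck.Hom.congr h
  have h2 : smulMod a.fiber r ≫ (ThetaGrp.modPF.mapId ⟨op a.base⟩).inv.toNatTrans.app a.fiber =
      smulMod a.fiber r' ≫ (ThetaGrp.modPF.mapId ⟨op a.base⟩).inv.toNatTrans.app a.fiber := by
    exact h1.trans (Category.comp_id _)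
  haveI := ((Cat.Hom.toNatIso (ThetaGrp.modPF.mapId ⟨op a.base⟩)).symm.app a.fiber).isIso_hom
  exact (cancel_mono ((Cat.Hom.toNatIso (ThetaGrp.modPF.mapId ⟨op a.base⟩)).symm.app a.fiber).hom).1 h2

theorem scal_one (a : CoGrothendieck ThetaGrp.modPF.{u}) : scal a 1 = 𝟙 a := by
  have h : smulMod a.fiber (1 : Γ(a.base, ⊤)) = 𝟙 a.fiber := by
    refine Scheme.Modules.hom_ext _ _ fun V => ConcreteCategory.hom_ext _ _ fun x => ?_
    show (smulMod a.fiber 1).app V x = x
    rw [smulMod_app', map_one]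
    exact one_smul _ _
  exact (congrArg (CoGrothendieck.ι ThetaGrp.modPF a.base).map h).trans (CategoryTheory.Functor.map_id _ _)

variable {k : Type u} [Field k] {A T W : Over (Spec (CommRingCat.of k))} [GrpObj A]
  {L : A.left.Modules}

/-- The scalar of a function on the base. -/
noncomputable def scalT (L : A.left.Modules) (T : Over (Spec (CommRingCat.of k))) (r : Γ(T.left, ⊤)) :
    ThetaGrp.thetaObj A L T ⟶ ThetaGrp.thetaObj A L T :=
  scal _ ((snd A T).left.appTop r)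

theorem scalT_injective (hL : PicF.IsInvertible L) {r r' : Γ(T.left, ⊤)} (h : scalT L T r = scalT L T r') :
    r = r' := by
  have h1 := scal_injective (PicLoc.isInvertible_pullback _ hL) h
  have he : (lift (1 : T ⟶ A) (𝟙 T)).left ≫ (snd A T).left = 𝟙 T.left := by
    rw [← Over.comp_left, lift_snd]; rfl
  have h2 : ∀ z, (lift (1 : T ⟶ A) (𝟙 T)).left.appTop ((snd A T).left.appTop z) = z := fun z => by
    rw [← CommRingCat.comp_apply, ← Scheme.Hom.comp_appTop, he, Scheme.Hom.id_appTop]; rfl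
  rw [← h2 r, ← h2 r']
  exact congrArg _ h1

theorem scalT_one : scalT L T 1 = 𝟙 (ThetaGrp.thetaObj A L T) := by
  rw [scalT, map_one, scal_one]

theorem comp_scalT (g : ThetaGrp.thetaObj A L W ⟶ ThetaGrp.thetaObj A L T) (t : W ⟶ T)
    (hg : g.base ≫ (snd A T).left = (snd A W).left ≫ t.left) (r : Γ(T.left, ⊤)) :
    g ≫ scalT L T r = scalT L W (t.left.appTop r) ≫ g := by
  refine (comp_scal g _).trans ?_
  refine congrArg (fun z => scal _ z ≫ g) ?_
  rw [← CommRingCat.comp_apply, ← CommRingCat.comp_apply, ← Scheme.Hom.comp_appTop, ← Scheme.Hom.comp_appTop, hg]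

/-- `β ν = r ν β`. -/
def ComRel (β ν : ThetaGrp.thetaPts A L T) (r : Γ(T.left, ⊤)) : Prop :=
  (β * ν).1.hom = scalT L T r ≫ (ν * β).1.hom

theorem comRel_one_iff {β ν : ThetaGrp.thetaPts A L T} : ComRel β ν 1 ↔ Commute β ν := by
  rw [ComRel, scalT_one, Category.id_comp]
  exact ⟨fun h => pts_hom_ext h, fun h => congrArg (fun z => z.1.hom) h⟩

theorem comRel_unique (hL : PicF.IsInvertible L) {β ν : ThetaGrp.thetaPts A L T} {r r' : Γ(T.left, ⊤)}
    (h : ComRel β ν r) (h' : ComRel β ν r') : r = r' :=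
  scalT_injective hL ((cancel_mono (ν * β).1.hom).1 (h.symm.trans h'))

/-- Restriction of the relation. -/
theorem comRel_res (t : W ⟶ T) {β ν : ThetaGrp.thetaPts A L T} {βt νt : ThetaGrp.thetaPts A L W}
    {x y : T ⟶ A} (hβ : ThetaGrp.IsOverPt β x) (hν : ThetaGrp.IsOverPt ν y)
    (hβt : βt.1.hom ≫ ThetaGrp.bcLift A L t = ThetaGrp.bcLift A L t ≫ β.1.hom)
    (hνt : νt.1.hom ≫ ThetaGrp.bcLift A L t = ThetaGrp.bcLift A L t ≫ ν.1.hom)
    (hx : ThetaGrp.IsOverPt βt (t ≫ x)) (hy : ThetaGrp.IsOverPt νt (t ≫ y)) (hc : y * x = x * y)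
    {r : Γ(T.left, ⊤)} (h : ComRel β ν r) : ComRel βt νt (t.left.appTop r) := by
  refine hom_ext_of_fiber (ThetaGrp.bcLift A L t) ?_ ?_
  · have h1 := isOverPt_mul hx hy
    have h2 := isOverPt_mul hy hx
    rw [← MonObj.comp_mul, hc] at h1
    rw [← MonObj.comp_mul] at h2
    exact h1.trans (h2.symm.trans (Category.id_comp _).symm)
  · have e1 : ThetaGrp.bcLift A L t ≫ scalT L T r = scalT L W (t.left.appTop r) ≫ ThetaGrp.bcLift A L t :=
      comp_scalT _ t (congrArg (fun z => z.left) (whiskerLeft_snd A t)) r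
    calc (βt * νt).1.hom ≫ ThetaGrp.bcLift A L t
        = ThetaGrp.bcLift A L t ≫ (β * ν).1.hom := by
          rw [mul_hom, mul_hom, Category.assoc, hβt, reassoc_of% hνt]
      _ = ThetaGrp.bcLift A L t ≫ scalT L T r ≫ (ν * β).1.hom := congrArg (_ ≫ ·) h
      _ = (scalT L W (t.left.appTop r) ≫ (νt * βt).1.hom) ≫ ThetaGrp.bcLift A L t := by
          rw [mul_hom, mul_hom, reassoc_of% e1, Category.assoc, Category.assoc, hνt, reassoc_of% hβt]

section proper

variable [IsProper A.hom] [GeometricallyIntegral A.hom] [IsCommMonObj A]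

theorem exists_comRel (hL : PicF.IsInvertible L) (β ν : ThetaGrp.thetaPts A L T) : ∃ r, ComRel β ν r := by
  obtain ⟨x, hx⟩ := β.2
  obtain ⟨y, hy⟩ := ν.2
  let c := (ν * β)⁻¹ * (β * ν)
  have hc : ThetaGrp.IsOverPt c 1 := by
    have h := isOverPt_mul (isOverPt_inv (isOverPt_mul hy hx)) (isOverPt_mul hx hy)
    rwa [mul_comm y x, mul_inv_cancel] at h
  obtain ⟨r, hr⟩ := exists_eq_scal (PicLoc.isInvertible_pullback _ hL) c.1.hom (by rw [hc, ThetaGrp.transl_one]; rfl)
  refine ⟨(lift (1 : T ⟶ A) (𝟙 T)).left.appTop r, ?_⟩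
  have h1 : β * ν = (ν * β) * c := by simp only [c, mul_inv_cancel_left]
  rw [ComRel, scalT, appTop_snd_eq, ← hr, h1, mul_hom]

theorem comRel_congr (hL : PicF.IsInvertible L) {β β' ν ν' : ThetaGrp.thetaPts A L T} {x y : T ⟶ A}
    (hβ : ThetaGrp.IsOverPt β x) (hβ' : ThetaGrp.IsOverPt β' x) (hν : ThetaGrp.IsOverPt ν y)
    (hν' : ThetaGrp.IsOverPt ν' y) {r : Γ(T.left, ⊤)} (h : ComRel β ν r) : ComRel β' ν' r := by
  have hcx : ThetaGrp.IsOverPt (β⁻¹ * β') 1 := by
    have := isOverPt_mul (isOverPt_inv hβ) hβ'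
    rwa [mul_inv_cancel] at this
  have hcy : ThetaGrp.IsOverPt (ν⁻¹ * ν') 1 := by
    have := isOverPt_mul (isOverPt_inv hν) hν'
    rwa [mul_inv_cancel] at this
  have c1 := commute_of_overPt_one hL hcx ν
  have c2 := commute_of_overPt_one hL hcy β
  have c3 := commute_of_overPt_one hL hcx (ν⁻¹ * ν')
  have e1 : β' * ν' = (β * ν) * ((β⁻¹ * β') * (ν⁻¹ * ν')) := by
    calc β' * ν' = β * (β⁻¹ * β') * (ν * (ν⁻¹ * ν')) := by rw [mul_inv_cancel_left, mul_inv_cancel_left]
      _ = β * ((β⁻¹ * β') * ν) * (ν⁻¹ * ν') := by simp only [_root_.mul_assoc]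
      _ = β * (ν * (β⁻¹ * β')) * (ν⁻¹ * ν') := by rw [c1.eq]
      _ = (β * ν) * ((β⁻¹ * β') * (ν⁻¹ * ν')) := by simp only [_root_.mul_assoc]
  have e2 : ν' * β' = (ν * β) * ((β⁻¹ * β') * (ν⁻¹ * ν')) := by
    calc ν' * β' = ν * (ν⁻¹ * ν') * (β * (β⁻¹ * β')) := by rw [mul_inv_cancel_left, mul_inv_cancel_left]
      _ = ν * ((ν⁻¹ * ν') * β) * (β⁻¹ * β') := by simp only [_root_.mul_assoc]
      _ = ν * (β * (ν⁻¹ * ν')) * (β⁻¹ * β') := by rw [c2.eq]
      _ = (ν * β) * ((ν⁻¹ * ν') * (β⁻¹ * β')) := by simp only [_root_.mul_assoc]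
      _ = _ := by rw [c3.symm.eq]
  rw [ComRel, e1, e2, mul_hom, mul_hom _ ((β⁻¹ * β') * (ν⁻¹ * ν')), h]
  have e : ((β⁻¹ * β') * (ν⁻¹ * ν')).1.hom ≫ scalT L T r = scalT L T r ≫ ((β⁻¹ * β') * (ν⁻¹ * ν')).1.hom := by
    refine (comp_scalT _ (𝟙 T) (by
      obtain ⟨z, hz⟩ := ((β⁻¹ * β') * (ν⁻¹ * ν')).2
      rw [hz, ← Over.comp_left, ThetaGrp.transl_snd, Over.id_left, Category.comp_id]) r).trans ?_
    rw [Over.id_left, Scheme.Hom.id_appTop]
    rfl
  rw [reassoc_of% e]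

end proper

end Groth.Agent.ThetaLib
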