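import Groth.Agent.ThetaLib.Commutator
import Groth.Prelude.Def_AgPol

/-!
# Rigidified lifts of the translations by `K(L) × {1}` to the Mumford bundle
-/

set_option autoImplicit false
set_option backward.isDefEq.respectTransparency.types false
set_option linter.style.haveILetI false
set_option linter.unusedSectionVars false

universe u

open CategoryTheory CategoryTheory.Limits MonoidalCategory CartesianMonoidalCategory MonObj AlgebraicGeometry Opposite
open Pseudofunctor Bicategory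
open Groth.Agent.PicLib Groth.Agent.EulerLib

namespace Groth.Agent.ThetaLib

theorem scal_mul (a : CoGrothendieck ThetaGrp.modPF.{u}) (r r' : Γ(a.base, ⊤)) :
    scal a r ≫ scal a r' = scal a (r' * r) := by
  refine (Functor.map_comp _ _ _).symm.trans (congrArg (CoGrothendieck.ι ThetaGrp.modPF a.base).map ?_)
  refine Scheme.Modules.hom_ext _ _ fun V => ConcreteCategory.hom_ext _ _ fun x => ?_
  show (smulMod a.fiber r').app V ((smulMod a.fiber r).app V x) = (smulMod a.fiber (r' * r)).app V x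
  rw [smulMod_app', smulMod_app', smulMod_app', map_mul, mul_smul]

variable {k : Type u} [Field k] {A T W : Over (Spec (CommRingCat.of k))} [GrpObj A]

/-- A scalar unit as a point of the theta group. -/
noncomputable def scalPt (L : A.left.Modules) (T : Over (Spec (CommRingCat.of k))) (r : Γ(T.left, ⊤)ˣ) :
    ThetaGrp.thetaPts A L T :=
  ⟨⟨scalT L T r, scalT L T ↑r⁻¹,
    by rw [scalT, scalT, scal_mul, ← map_mul, Units.inv_mul, map_one, scal_one],
    by rw [scalT, scalT, scal_mul, ← map_mul, Units.mul_inv, map_one, scal_one]⟩,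
    1, by rw [ThetaGrp.transl_one]; rfl⟩

theorem isOverPt_scalPt (L : A.left.Modules) (r : Γ(T.left, ⊤)ˣ) : ThetaGrp.IsOverPt (scalPt L T r) 1 := by
  rw [ThetaGrp.IsOverPt, ThetaGrp.transl_one]; rfl

variable [IsProper A.hom] [GeometricallyIntegral A.hom]

theorem exists_eq_scalPt {L : A.left.Modules} (hL : PicF.IsInvertible L) {c : ThetaGrp.thetaPts A L T}
    (hc : ThetaGrp.IsOverPt c 1) : ∃ r : Γ(T.left, ⊤)ˣ, c = scalPt L T r := by
  have hex : ∀ d : ThetaGrp.thetaPts A L T, ThetaGrp.IsOverPt d 1 → ∃ r, d.1.hom = scalT L T r := by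
    intro d hd
    obtain ⟨r, hr⟩ := exists_eq_scal (PicLoc.isInvertible_pullback _ hL) d.1.hom (by rw [hd, ThetaGrp.transl_one]; rfl)
    exact ⟨(lift (1 : T ⟶ A) (𝟙 T)).left.appTop r, by rw [scalT, appTop_snd_eq]; exact hr⟩
  obtain ⟨r, hr⟩ := hex c hc
  have hci : ThetaGrp.IsOverPt c⁻¹ 1 := by
    have := isOverPt_inv hc
    rwa [inv_one] at this
  obtain ⟨r', hr'⟩ := hex c⁻¹ hci
  have e1 : r' * r = 1 := by
    refine scalT_injective hL ?_
    rw [scalT_one, ← show c.1.hom ≫ (c⁻¹).1.hom = 𝟙 _ from c.1.hom_inv_id, hr, hr', scalT, scalT, scalT, scal_mul,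
      map_mul]
  exact ⟨⟨r, r', (mul_comm r r').trans e1, e1⟩, pts_hom_ext hr⟩

variable (A)

/-- The unit module on `A`, as a pullback from the base. -/
noncomputable abbrev triv : A.left.Modules :=
  (Scheme.Modules.pullback (toUnit A).left).obj (Coh.structureModule (𝟙_ (Over (Spec (CommRingCat.of k)))).left)

theorem isInvertible_triv : PicF.IsInvertible (triv A) :=
  PicLoc.isInvertible_pullback _ (PicLoc.isInvertible_structureModule _)

variable {A}

/-- The canonical translation of the unit module. -/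
def IsCanon (τ : ThetaGrp.thetaPts A (triv A) T) (x : T ⟶ A) : Prop :=
  ThetaGrp.IsOverPt τ x ∧
    τ.1.hom ≫ homLift (toUnit A) (Coh.structureModule _) T = homLift (toUnit A) (Coh.structureModule _) T

theorem exists_isCanon (x : T ⟶ A) : ∃ τ : ThetaGrp.thetaPts A (triv A) T, IsCanon τ x :=
  haveI : IsMonHom (toUnit A) := ⟨toUnit_unique _ _, toUnit_unique _ _⟩
  exists_canonical (toUnit A) (Coh.structureModule _) (toUnit_unique _ _)

theorem IsCanon.unique {τ τ' : ThetaGrp.thetaPts A (triv A) T} {x : T ⟶ A} (h : IsCanon τ x) (h' : IsCanon τ' x) :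
    τ = τ' := pts_hom_ext (hom_ext_of_fiber (homLift (toUnit A) (Coh.structureModule _) T) (h.1.trans h'.1.symm)
      (h.2.trans h'.2.symm))

theorem IsCanon.mul {τ τ' : ThetaGrp.thetaPts A (triv A) T} {x y : T ⟶ A} (h : IsCanon τ x) (h' : IsCanon τ' y) :
    IsCanon (τ * τ') (y * x) :=
  ⟨isOverPt_mul h.1 h'.1, by rw [mul_hom, Category.assoc, h.2, h'.2]⟩

theorem IsCanon.res {τ : ThetaGrp.thetaPts A (triv A) T} {τ' : ThetaGrp.thetaPts A (triv A) W} {x : T ⟶ A}
    (t : W ⟶ T) (h : IsCanon τ x) (h' : IsCanon τ' (t ≫ x)) :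
    τ'.1.hom ≫ ThetaGrp.bcLift A (triv A) t = ThetaGrp.bcLift A (triv A) t ≫ τ.1.hom := by
  refine hom_ext_of_fiber (homLift (toUnit A) (Coh.structureModule _) T) ?_ ?_
  · rw [CoGrothendieck.categoryStruct_comp_base, CoGrothendieck.categoryStruct_comp_base, h.1, h'.1]
    exact congrArg (fun z => z.left) (transl_whisker t x)
  · rw [Category.assoc, Category.assoc, h.2, bcLift_homLift, reassoc_of% h'.2]

variable (A) in
/-- The section `a ↦ (a, 1)`. -/
noncomputable abbrev axis : A ⟶ A ⊗ A := lift (𝟙 A) 1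

variable {Λ : (A ⊗ A).left.Modules}

/-- A rigidification of `Λ` along the axis, spread out over `T`. -/
structure Rig (Λ : (A ⊗ A).left.Modules) where
  ρ : modObj (triv A) ⟶ modObj Λ
  base : ρ.base = (axis A).left
  iso : IsIso ρ.fiber

theorem exists_rigLift (R : Rig Λ) (T : Over (Spec (CommRingCat.of k))) :
    ∃ ρ : ThetaGrp.thetaObj A (triv A) T ⟶ ThetaGrp.thetaObj (A ⊗ A) Λ T,
      ρ.base = (axis A ▷ T).left ∧ ρ ≫ proj Λ T = proj (triv A) T ≫ R.ρ :=
  exists_lift_of_fiber (proj Λ T) (proj (triv A) T ≫ R.ρ) (axis A ▷ T).left (by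
    show (fst A T).left ≫ R.ρ.base = (axis A ▷ T).left ≫ (fst (A ⊗ A) T).left
    rw [R.base, ← Over.comp_left, ← Over.comp_left, whiskerRight_fst])

/-- The rigidification over `T`. -/
noncomputable def Rig.lift (R : Rig Λ) (T : Over (Spec (CommRingCat.of k))) :
    ThetaGrp.thetaObj A (triv A) T ⟶ ThetaGrp.thetaObj (A ⊗ A) Λ T := (exists_rigLift R T).choose

theorem Rig.lift_base (R : Rig Λ) : (R.lift T).base = (axis A ▷ T).left := (exists_rigLift R T).choose_spec.1

theorem Rig.lift_proj (R : Rig Λ) : R.lift T ≫ proj Λ T = proj (triv A) T ≫ R.ρ :=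
  (exists_rigLift R T).choose_spec.2

theorem Rig.isIso_lift_fiber (R : Rig Λ) : IsIso (R.lift T).fiber := by
  refine isIso_fiber_of_comp _ (proj Λ T) ?_
  rw [R.lift_proj]
  haveI := R.iso
  exact isIso_comp_fiber _ _

theorem Rig.bcLift_lift (R : Rig Λ) (t : W ⟶ T) :
    ThetaGrp.bcLift A (triv A) t ≫ R.lift T = R.lift W ≫ ThetaGrp.bcLift (A ⊗ A) Λ t := by
  refine hom_ext_proj ?_ ?_
  · rw [CoGrothendieck.categoryStruct_comp_base, CoGrothendieck.categoryStruct_comp_base, R.lift_base, R.lift_base]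
    show (A ◁ t).left ≫ _ = _ ≫ ((A ⊗ A) ◁ t).left
    rw [← Over.comp_left, ← Over.comp_left, MonoidalCategory.whisker_exchange]
  · rw [Category.assoc, Category.assoc, R.lift_proj, bcLift_proj, R.lift_proj, reassoc_of% bcLift_proj _ t]

theorem axis_transl (x : T ⟶ A) :
    (axis A ▷ T) ≫ ThetaGrp.transl (A ⊗ A) (lift x 1) = ThetaGrp.transl A x ≫ (axis A ▷ T) := by
  refine CartesianMonoidalCategory.hom_ext _ _ (CartesianMonoidalCategory.hom_ext _ _ ?_ ?_) ?_
  · simp [ThetaGrp.transl, MonObj.comp_mul, MonObj.mul_comp, comp_lift]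
  · simp [ThetaGrp.transl, MonObj.comp_mul, MonObj.mul_comp, comp_lift]
  · simp [ThetaGrp.transl]

variable (R : Rig Λ)

/-- The point is over `(x, 1)` and respects the rigidification. -/
def IsNorm (α : ThetaGrp.thetaPts (A ⊗ A) Λ T) (x : T ⟶ A) : Prop :=
  ThetaGrp.IsOverPt α (lift x 1) ∧ ∀ τ, IsCanon τ x → R.lift T ≫ α.1.hom = τ.1.hom ≫ R.lift T

variable [IsProper (A ⊗ A).hom] [GeometricallyIntegral (A ⊗ A).hom]

theorem scalPt_lift (r : Γ(T.left, ⊤)ˣ) :
    R.lift T ≫ (scalPt Λ T r).1.hom = (scalPt (triv A) T r).1.hom ≫ R.lift T := by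
  refine (comp_scal (R.lift T) _).trans (congrArg (fun z => scal _ z ≫ R.lift T) ?_)
  rw [← CommRingCat.comp_apply, ← Scheme.Hom.comp_appTop, R.lift_base, ← Over.comp_left, whiskerRight_snd]

theorem IsNorm.unique (hΛ : PicF.IsInvertible Λ) {α α' : ThetaGrp.thetaPts (A ⊗ A) Λ T} {x : T ⟶ A}
    (h : IsNorm R α x) (h' : IsNorm R α' x) : α = α' := by
  obtain ⟨τ, hτ⟩ := exists_isCanon x
  have hc : ThetaGrp.IsOverPt (α⁻¹ * α') 1 := by
    have := isOverPt_mul (isOverPt_inv h.1) h'.1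
    rwa [mul_inv_cancel] at this
  obtain ⟨r, hr⟩ := exists_eq_scalPt hΛ hc
  have e : α' = α * scalPt Λ T r := by rw [← hr, mul_inv_cancel_left]
  haveI := R.isIso_lift_fiber (T := T)
  have h1 : τ.1.hom ≫ R.lift T = (scalPt (triv A) T r).1.hom ≫ τ.1.hom ≫ R.lift T := by
    conv_lhs => rw [← h'.2 τ hτ, e, mul_hom, ← Category.assoc, scalPt_lift, Category.assoc, h.2 τ hτ]
  have h2 : τ = τ * scalPt (triv A) T r := by
    refine pts_hom_ext (hom_ext_of_fiber (R.lift T) ?_ ?_)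
    · exact hτ.1.trans ((by simpa using isOverPt_mul hτ.1 (isOverPt_scalPt (triv A) r) :
        ThetaGrp.IsOverPt (τ * scalPt (triv A) T r) x).symm)
    · rw [mul_hom, Category.assoc]; exact h1
  have hr1 : r = 1 := by
    have h3 : scalPt (triv A) T r = 1 := mul_eq_left.1 h2.symm
    refine Units.ext (scalT_injective (isInvertible_triv A) ?_)
    rw [Units.val_one, scalT_one]
    exact congrArg (fun z => z.1.hom) h3
  have h4 : scalPt Λ T (1 : Γ(T.left, ⊤)ˣ) = 1 := pts_hom_ext (scalT_one (L := Λ))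
  rw [e, hr1, h4, _root_.mul_one]

theorem IsNorm.mul {α β : ThetaGrp.thetaPts (A ⊗ A) Λ T} {x y : T ⟶ A} (h : IsNorm R α x) (h' : IsNorm R β y) :
    IsNorm R (α * β) (y * x) := by
  refine ⟨?_, fun τ hτ => ?_⟩
  · have := isOverPt_mul h.1 h'.1
    have e : lift (y * x) (1 : T ⟶ A) = lift y 1 * lift x 1 := by
      refine CartesianMonoidalCategory.hom_ext _ _ ?_ ?_ <;> simp [MonObj.mul_comp]
    rwa [← e] at this
  · obtain ⟨τx, hτx⟩ := exists_isCanon x
    obtain ⟨τy, hτy⟩ := exists_isCanon y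
    obtain rfl : τ = τx * τy := hτ.unique (hτx.mul hτy)
    rw [mul_hom, mul_hom, ← Category.assoc, h'.2 τy hτy, Category.assoc, h.2 τx hτx, Category.assoc]

theorem IsNorm.res {α : ThetaGrp.thetaPts (A ⊗ A) Λ T} {x : T ⟶ A} (h : IsNorm R α x) (t : W ⟶ T)
    {β : ThetaGrp.thetaPts (A ⊗ A) Λ W} (hb : ThetaGrp.IsOverPt β (lift (t ≫ x) 1))
    (e : β.1.hom ≫ ThetaGrp.bcLift (A ⊗ A) Λ t = ThetaGrp.bcLift (A ⊗ A) Λ t ≫ α.1.hom) :
    IsNorm R β (t ≫ x) := by
  refine ⟨hb, fun τ' hτ' => ?_⟩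
  obtain ⟨τ, hτ⟩ := exists_isCanon x
  refine hom_ext_of_fiber (ThetaGrp.bcLift (A ⊗ A) Λ t) ?_ ?_
  · rw [CoGrothendieck.categoryStruct_comp_base, CoGrothendieck.categoryStruct_comp_base, R.lift_base, hb, hτ'.1,
      ← Over.comp_left, ← Over.comp_left, axis_transl]
  · rw [Category.assoc, e, ← Category.assoc, ← R.bcLift_lift, Category.assoc, h.2 τ hτ,
      ← reassoc_of% (IsCanon.res t hτ hτ'), Category.assoc, R.bcLift_lift]

theorem exists_isNorm (hΛ : PicF.IsInvertible Λ) {x : T ⟶ A} {α : ThetaGrp.thetaPts (A ⊗ A) Λ T}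
    (hα : ThetaGrp.IsOverPt α (lift x 1)) : ∃ β : ThetaGrp.thetaPts (A ⊗ A) Λ T, IsNorm R β x := by
  haveI := R.isIso_lift_fiber (T := T)
  obtain ⟨χ, hχb, hχ⟩ := exists_aut_lift (R.lift T) ((Over.forget _).mapIso (asIso (ThetaGrp.transl A x))) α.1 (by
    rw [R.lift_base, hα]
    exact congrArg (fun z => z.left) (axis_transl x).symm)
  let χ' : ThetaGrp.thetaPts A (triv A) T := ⟨χ, x, hχb⟩
  obtain ⟨τ, hτ⟩ := exists_isCanon x
  have hc : ThetaGrp.IsOverPt (χ'⁻¹ * τ) 1 := by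
    have := isOverPt_mul (isOverPt_inv (β := χ') (x := x) hχb) hτ.1
    rwa [mul_inv_cancel] at this
  obtain ⟨r, hr⟩ := exists_eq_scalPt (isInvertible_triv A) hc
  have e : τ = χ' * scalPt (triv A) T r := by rw [← hr, mul_inv_cancel_left]
  have hover : ThetaGrp.IsOverPt (α * scalPt Λ T r) (lift x 1) := by
    simpa using isOverPt_mul hα (isOverPt_scalPt Λ r)
  refine ⟨α * scalPt Λ T r, hover, fun τ' hτ' => ?_⟩
  rw [hτ'.unique hτ, e, mul_hom, mul_hom, ← Category.assoc, scalPt_lift, Category.assoc, Category.assoc]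
  exact congrArg (_ ≫ ·) hχ.symm

end Groth.Agent.ThetaLib
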