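import Groth.Agent.KLLib.Basic
import Groth.Prelude.Def_ThetaGrp
import Mathlib.CategoryTheory.FiberedCategory.Grothendieck

/-!
# Points of the theta group over translations
-/

set_option autoImplicit false
set_option backward.isDefEq.respectTransparency.types false
set_option linter.style.haveILetI false

universe u v w

open CategoryTheory CategoryTheory.Limits MonoidalCategory CartesianMonoidalCategory MonObj AlgebraicGeometry
open Groth.Agent.PicLib Pseudofunctor Bicategory

namespace Groth.Agent.ThetaLib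

section CoGroth

variable {𝒮 : Type*} [Category 𝒮] {F : LocallyDiscrete 𝒮ᵒᵖ ⥤ᵖ Cat}

set_option backward.defeqAttrib.useBackward true in
set_option backward.isDefEq.respectTransparency false in
/-- Every morphism is a vertical one followed by a cartesian lift. -/
theorem factor {a b : CoGrothendieck F} (f : a ⟶ b) :
    (CoGrothendieck.ι F a.base).map f.fiber ≫ CoGrothendieck.cartesianLift b.fiber f.base = f := by
  ext <;> simp [F.mapComp_id_right_inv_app, Strict.rightUnitor_eqToIso, ← Cat.Hom₂.comp_app,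
    PrelaxFunctor.map₂_eqToHom]

/-- A morphism with invertible base and fibre is invertible. -/
theorem isIso_of_base_fiber {a b : CoGrothendieck F} (f : a ⟶ b) [IsIso f.base] [IsIso f.fiber] :
    IsIso f := by
  haveI : Functor.IsStronglyCartesian (CoGrothendieck.forget F) f.base
      (CoGrothendieck.cartesianLift b.fiber f.base) :=
    CoGrothendieck.isStronglyCartesian_homCartesianLift b.fiber f.base
  haveI : IsIso (CoGrothendieck.cartesianLift b.fiber f.base) :=
    Functor.IsStronglyCartesian.isIso_of_base_isIso (CoGrothendieck.forget F) f.base _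
  haveI : IsIso ((CoGrothendieck.ι F a.base).map f.fiber) := inferInstance
  have h : IsIso ((CoGrothendieck.ι F a.base).map f.fiber ≫ CoGrothendieck.cartesianLift b.fiber f.base) :=
    IsIso.comp_isIso' (Functor.map_isIso _ f.fiber) ‹_›
  exact (congrArg (fun g => IsIso g) (factor f)).mp h

theorem isIso_eqToHom' {C : Type*} [Category C] {X Y : C} (p : X = Y) : IsIso (eqToHom p) := by
  cases p
  exact IsIso.id X

/-- The fibre component of an isomorphism is invertible. -/
theorem isIso_fiber {a b : CoGrothendieck F} (e : a ≅ b) : IsIso e.hom.fiber := by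
  have key : ∀ {a b : CoGrothendieck F} (e : a ≅ b),
      IsSplitMono e.hom.fiber ∧ IsSplitEpi ((F.map e.hom.base.op.toLoc).toFunctor.map e.inv.fiber) := by
    intro a b e
    have h := CoGrothendieck.Hom.congr e.hom_inv_id
    rw [CoGrothendieck.categoryStruct_comp_fiber, CoGrothendieck.categoryStruct_id_fiber] at h
    haveI hiso : IsIso (e.hom.fiber ≫ (F.map e.hom.base.op.toLoc).toFunctor.map e.inv.fiber ≫
        (F.mapComp e.inv.base.op.toLoc e.hom.base.op.toLoc).inv.toNatTrans.app a.fiber) := by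
      rw [h]
      exact IsIso.comp_isIso' ((Cat.Hom.toNatIso (F.mapId ⟨Opposite.op a.base⟩)).symm.app a.fiber).isIso_hom
        (isIso_eqToHom' _)
    haveI : IsIso ((e.hom.fiber ≫ (F.map e.hom.base.op.toLoc).toFunctor.map e.inv.fiber) ≫
        (F.mapComp e.inv.base.op.toLoc e.hom.base.op.toLoc).inv.toNatTrans.app a.fiber) := by
      rw [Category.assoc]; exact hiso
    haveI h2 : IsIso (e.hom.fiber ≫ (F.map e.hom.base.op.toLoc).toFunctor.map e.inv.fiber) :=
      IsIso.of_isIso_comp_right _ ((F.mapComp e.inv.base.op.toLoc e.hom.base.op.toLoc).inv.toNatTrans.app a.fiber)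
    refine ⟨IsSplitMono.mk' ⟨(F.map e.hom.base.op.toLoc).toFunctor.map e.inv.fiber ≫
        inv (e.hom.fiber ≫ (F.map e.hom.base.op.toLoc).toFunctor.map e.inv.fiber), ?_⟩,
      IsSplitEpi.mk' ⟨inv (e.hom.fiber ≫ (F.map e.hom.base.op.toLoc).toFunctor.map e.inv.fiber) ≫ e.hom.fiber, ?_⟩⟩
    · rw [← Category.assoc, IsIso.hom_inv_id]
    · rw [Category.assoc, IsIso.inv_hom_id]
  obtain ⟨hm, he⟩ := key e
  haveI := hm
  haveI := he
  haveI := (key e.symm).1
  haveI : IsSplitMono ((F.map e.hom.base.op.toLoc).toFunctor.map e.inv.fiber) :=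
    inferInstanceAs (IsSplitMono ((F.map e.hom.base.op.toLoc).toFunctor.map e.symm.hom.fiber))
  haveI : IsIso ((F.map e.hom.base.op.toLoc).toFunctor.map e.inv.fiber) := isIso_of_mono_of_isSplitEpi _
  have h := CoGrothendieck.Hom.congr e.hom_inv_id
  rw [CoGrothendieck.categoryStruct_comp_fiber, CoGrothendieck.categoryStruct_id_fiber] at h
  haveI : IsIso (e.hom.fiber ≫ (F.map e.hom.base.op.toLoc).toFunctor.map e.inv.fiber ≫
      (F.mapComp e.inv.base.op.toLoc e.hom.base.op.toLoc).inv.toNatTrans.app a.fiber) := by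
    rw [h]
    exact IsIso.comp_isIso' ((Cat.Hom.toNatIso (F.mapId ⟨Opposite.op a.base⟩)).symm.app a.fiber).isIso_hom
      (isIso_eqToHom' _)
  exact IsIso.of_isIso_comp_right e.hom.fiber ((F.map e.hom.base.op.toLoc).toFunctor.map e.inv.fiber ≫
    (F.mapComp e.inv.base.op.toLoc e.hom.base.op.toLoc).inv.toNatTrans.app a.fiber)

end CoGroth

variable {k : Type u} [Field k] {A T : Over (Spec (CommRingCat.of k))} [GrpObj A] {L : A.left.Modules}

instance isIso_transl (x : T ⟶ A) : IsIso (ThetaGrp.transl A x) :=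
  ⟨⟨ThetaGrp.transl A x⁻¹, by rw [← ThetaGrp.transl_mul, mul_inv_cancel, ThetaGrp.transl_one],
    by rw [← ThetaGrp.transl_mul, inv_mul_cancel, ThetaGrp.transl_one]⟩⟩

/-- A point of the theta group lies over `t_x` iff `L_T` is isomorphic to its translate. -/
theorem exists_overPt_iff (hL : PicF.IsInvertible L) (x : T ⟶ A) :
    (∃ β : ThetaGrp.thetaPts A L T, ThetaGrp.IsOverPt β x) ↔ KLLib.Translates hL x 1 := by
  have hpull := PicLoc.isInvertible_pullback (fst A T).left hL
  rw [KLLib.Translates, map_one, _root_.mul_one, ← KLLib.transl_comp_fst, Over.comp_left, ← PicM.pull_pull]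
  constructor
  · rintro ⟨⟨α, hα⟩, hx⟩
    have hb : α.hom.base = (ThetaGrp.transl A x).left := hx
    refine ((PicM.of_eq_iff hpull (PicLoc.isInvertible_pullback _ hpull)).2 ?_).symm
    exact ⟨@asIso _ _ _ _ α.hom.fiber (isIso_fiber α) ≪≫ (Scheme.Modules.pullbackCongr hb).app _⟩
  · intro h
    obtain ⟨φ⟩ := (PicM.of_eq_iff hpull (PicLoc.isInvertible_pullback (ThetaGrp.transl A x).left hpull)).1 h.symm
    let f : ThetaGrp.thetaObj A L T ⟶ ThetaGrp.thetaObj A L T := ⟨(ThetaGrp.transl A x).left, φ.hom⟩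
    haveI : IsIso f.base := inferInstanceAs (IsIso ((Over.forget _).map (ThetaGrp.transl A x)))
    haveI : IsIso f.fiber := inferInstanceAs (IsIso φ.hom)
    haveI : IsIso f := isIso_of_base_fiber f
    exact ⟨⟨asIso f, x, rfl⟩, rfl⟩

end Groth.Agent.ThetaLib

namespace Groth.Agent.ThetaLib

variable {k : Type u} [Field k] {A T : Over (Spec (CommRingCat.of k))} [GrpObj A] {L : A.left.Modules}

/-- The translation relation is stable under base change. -/
theorem translates_comp {hL : PicF.IsInvertible L} {x : T ⟶ A} {m : PicM T.left} (h : KLLib.Translates hL x m)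
    {T' : Over (Spec (CommRingCat.of k))} (g : T' ⟶ T) :
    KLLib.Translates hL (g ≫ x) (PicM.pull g.left m) := by
  have h' := congrArg (PicM.pull (A ◁ g).left) h
  have e1 : (A ◁ g) ≫ (fst A T * (snd A T ≫ x)) = fst A T' * (snd A T' ≫ g ≫ x) := by
    rw [MonObj.comp_mul, whiskerLeft_fst, whiskerLeft_snd_assoc]
  rw [map_mul, PicM.pull_pull, PicM.pull_pull, PicM.pull_pull, ← Over.comp_left, ← Over.comp_left, ← Over.comp_left,
    e1, whiskerLeft_fst, whiskerLeft_snd] at h'
  rw [KLLib.Translates, h', PicM.pull_pull, ← Over.comp_left]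

/-- An invertible class is trivial near every point. -/
theorem exists_open_pull_eq_one {X : Scheme.{u}} (m : PicM X) (y : X) :
    ∃ U : X.Opens, y ∈ U ∧ PicM.pull U.ι m = 1 := by
  obtain ⟨M, hM, rfl⟩ := m.exists_eq_of
  obtain ⟨U, hy, ⟨e⟩⟩ := hM y
  refine ⟨U, hy, ?_⟩
  rw [PicM.pull_of U.ι hM]
  exact (PicM.of_eq_one_iff _).2 ⟨((Scheme.Modules.restrictFunctorIsoPullback U.ι).app M).symm ≪≫ e⟩

end Groth.Agent.ThetaLib
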