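import Groth.Agent.SeeSaw5.Locus
import Groth.Agent.KLLib.Basic
import Groth.Agent.ThetaLib.Points
import Groth.Agent.AbCubeLib.FiniteQuotient
import Groth.Agent.AbSchLib.RigidityGeneral
import Groth.Agent.AbVarLib.HomFlat

/-!
# Existence of `K(L)`

`K(L)` is the see-saw subscheme of the Mumford bundle on `A × A → A`.
-/

set_option autoImplicit false
set_option backward.isDefEq.respectTransparency false
set_option backward.isDefEq.respectTransparency.types false
set_option linter.style.haveILetI false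

universe u

open CategoryTheory CategoryTheory.Limits MonoidalCategory CartesianMonoidalCategory MonObj AlgebraicGeometry TopologicalSpace
open Groth.Agent.PicLib

namespace Groth.Agent.ThetaLib

/-- With geometrically connected and reduced fibres and a section, functions come from the base. -/
theorem bijective_app_of_section {X T : Scheme.{u}} (g : X ⟶ T) [Flat g] [LocallyOfFinitePresentation g]
    [UniversallyClosed g] [IsSeparated g] [GeometricallyConnected g] [GeometricallyReduced g]
    (e : T ⟶ X) (he : e ≫ g = 𝟙 T) (V : T.Opens) : Function.Bijective (g.app V) := by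
  have hle : V ≤ e ⁻¹ᵁ (g ⁻¹ᵁ V) := by rw [← Scheme.Hom.comp_preimage, he]; exact le_rfl
  have hinv : ∀ a, e.appLE (g ⁻¹ᵁ V) V hle (g.app V a) = a := fun a => by
    rw [← CommRingCat.comp_apply, Scheme.Hom.app_eq_appLE, Scheme.Hom.appLE_comp_appLE]
    have key : ∀ (φ : T ⟶ T) (_ : φ = 𝟙 T) (h : V ≤ φ ⁻¹ᵁ V), φ.appLE V V h a = a := by
      rintro φ rfl h
      simp only [Scheme.Hom.appLE, Scheme.Hom.id_app, Category.id_comp]
      exact congr($(T.presheaf.map_id (Opposite.op V)) a)
    exact key _ he _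
  refine ⟨fun a b h => by rw [← hinv a, ← hinv b, h], fun s => ⟨e.appLE (g ⁻¹ᵁ V) V hle s, ?_⟩⟩
  refine (sub_eq_zero.1 (TopCat.Presheaf.section_ext X.sheaf (g ⁻¹ᵁ V) _ _ fun x hx => ?_)).symm
  rw [map_zero]
  exact AbSchLib.germ_eq_zero_of_sectionG g e he V hle _ (by rw [map_sub, hinv, sub_self]) x hx

variable {k : Type u} [Field k] (A : Over (Spec (CommRingCat.of k))) [GrpObj A] [IsProper A.hom]
  [GeometricallyIntegral A.hom] {L : A.left.Modules}

/-- `K(L)` exists. -/
theorem exists_isKL (hL : PicF.IsInvertible L) :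
    ∃ (K : Over (Spec (CommRingCat.of k))) (iK : K ⟶ A), ThetaGrp.IsKL A L iK := by
  let f : (A ⊗ A).left ⟶ A.left := (snd A A).left
  have hf : f = pullback.snd A.hom A.hom := rfl
  haveI : IsProper f := hf ▸ inferInstance
  haveI : Flat f := hf ▸ inferInstance
  haveI : LocallyOfFinitePresentation f := hf ▸ inferInstance
  haveI : GeometricallyIntegral f := hf ▸ inferInstance
  haveI : IsLocallyNoetherian A.left := LocallyOfFiniteType.isLocallyNoetherian A.hom
  let aL := PicM.of hL
  obtain ⟨b, hb⟩ := PicM.exists_mul_eq_one (PicM.pull (fst A A).left aL * PicM.pull (snd A A).left aL)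
  obtain ⟨c, hc⟩ : ∃ c : PicM (A ⊗ A).left,
      c * (PicM.pull (fst A A).left aL * PicM.pull (snd A A).left aL) = PicM.pull μ[A].left aL :=
    ⟨PicM.pull μ[A].left aL * b, by rw [_root_.mul_assoc, _root_.mul_comm b, hb, _root_.mul_one]⟩
  obtain ⟨N, hN, hcN⟩ := PicM.exists_eq_of c
  obtain ⟨Z, j, hj, hZ⟩ := SeeSaw5.exists_seesaw (f := f) hN
  let K : Over (Spec (CommRingCat.of k)) := Over.mk (j ≫ A.hom)
  refine ⟨K, Over.homMk j, hj, fun T z => ?_⟩
  have hfac : (∃ y : T ⟶ K, y ≫ (Over.homMk j : K ⟶ A) = z) ↔ ∃ h : T.left ⟶ Z, h ≫ j = z.left :=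
    ⟨fun ⟨y, hy⟩ => ⟨y.left, congrArg (fun q : T ⟶ A => q.left) hy⟩, fun ⟨h, hh⟩ =>
      ⟨Over.homMk h (by show h ≫ j ≫ A.hom = T.hom; rw [reassoc_of% hh]; exact Over.w z), Over.OverMorphism.ext hh⟩⟩
  rw [hfac, ← hZ]
  let p : (A ⊗ T).left ⟶ T.left := (snd A T).left
  let w : (A ⊗ T).left ⟶ (A ⊗ A).left := (A ◁ z).left
  have hsq : IsPullback p w z.left f := AbCubeLib.isPullback_whiskerLeft z A
  have hmain : ThetaGrp.IsMumfordTriv A L z ↔ ∃ m : PicM T.left, PicM.pull w c = PicM.pull p m := by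
    have hw : PicM.pull w c * (PicM.pull (fst A T).left aL * PicM.pull (snd A T ≫ z).left aL) =
        PicM.pull (fst A T * (snd A T ≫ z)).left aL := by
      have h := congrArg (PicM.pull w) hc
      rw [map_mul, map_mul, PicM.pull_pull, PicM.pull_pull, PicM.pull_pull, ← Over.comp_left, ← Over.comp_left,
        ← Over.comp_left, whiskerLeft_fst, whiskerLeft_snd, KLLib.whisker_mul] at h
      exact h
    constructor
    · rintro ⟨M, hM, h⟩
      have h' := (KLLib.isLambdaSheaf_iff hL z (PicLoc.isInvertible_pullback (snd A T).left hM)).1 h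
      rw [← hw, _root_.mul_assoc] at h'
      exact ⟨PicM.of hM, (PicM.mul_right_cancel' h').symm⟩
    · rintro ⟨m, hm⟩
      obtain ⟨M, hM, rfl⟩ := m.exists_eq_of
      refine ⟨M, hM, (KLLib.isLambdaSheaf_iff hL z (PicLoc.isInvertible_pullback (snd A T).left hM)).2 ?_⟩
      rw [← hw, hm, _root_.mul_assoc]
      rfl
  rw [hmain, ← hcN]
  constructor
  · rintro ⟨m, hm⟩ t
    obtain ⟨W, htW, hW⟩ := exists_open_pull_eq_one m t
    refine ⟨W, htW, ?_⟩
    let g' := pullback.fst f (W.ι ≫ z.left)
    let f' := pullback.snd f (W.ι ≫ z.left)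
    let l := hsq.lift (f' ≫ W.ι) g' (by rw [Category.assoc]; exact pullback.condition.symm)
    rw [show pullback.fst f (W.ι ≫ z.left) = l ≫ w from (hsq.lift_snd _ _ _).symm, ← PicM.pull_pull, hm, PicM.pull_pull,
      show l ≫ p = f' ≫ W.ι from hsq.lift_fst _ _ _, ← PicM.pull_pull, hW, map_one]
  · intro h
    choose W htW hW using h
    have hp : p = pullback.snd A.hom T.hom := rfl
    haveI : IsProper p := hp ▸ inferInstance
    haveI : Flat p := hp ▸ inferInstance
    haveI : LocallyOfFinitePresentation p := hp ▸ inferInstance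
    haveI : GeometricallyReduced p := hp ▸ inferInstance
    haveI := AbSchLib.geometricallyConnected_of_irreducible A.hom
    haveI : GeometricallyConnected p := hp ▸ inferInstance
    have hstein := bijective_app_of_section p (lift (1 : T ⟶ A) (𝟙 T)).left (by
      rw [← Over.comp_left, lift_snd]; rfl)
    obtain ⟨N', hN', hN'e⟩ := PicM.exists_eq_of (PicM.pull w c)
    obtain ⟨hG, hiso⟩ := exists_descend_of_flat_cover p hstein hN' (fun t : T.left => (W t).toScheme)
      (fun t => (W t).ι) (fun y => ⟨y, by rw [Scheme.Opens.range_ι]; exact htW y⟩)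
      (fun Z hZo => by
        have : Z = ⋃ t, (W t).ι '' ((W t).ι ⁻¹' Z) := by
          ext y
          simp only [Set.mem_iUnion, Set.mem_image, Set.mem_preimage]
          exact ⟨fun hy => ⟨y, ⟨y, htW y⟩, hy, rfl⟩, fun ⟨t, x, hx, hxy⟩ => hxy ▸ hx⟩
        rw [this]
        exact isOpen_iUnion fun t => (W t).ι.isOpenEmbedding.isOpenMap _ (hZo t))
      (fun _ => 1) fun t => by
        rw [map_one, ← hN'e, PicM.pull_pull]
        refine SeeSaw5.pull_eq_one_of_comm (hW t) _ (pullback.snd p (W t).ι) (𝟙 _) ?_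
        rw [Category.id_comp, Category.assoc, ← hsq.w, reassoc_of% (pullback.condition (f := p) (g := (W t).ι))]
    rw [hN'e]
    exact ⟨PicM.of hG, ((PicM.pull_of _ _).trans ((PicM.of_eq_iff _ _).2
      ⟨asIso ((Scheme.Modules.pullbackPushforwardAdjunction p).counit.app N')⟩)).symm⟩

end Groth.Agent.ThetaLib
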