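import Groth.Agent.GrpQLib.FlatKernel
import Groth.Agent.SGA3cLib.MonoClosed
import Groth.Agent.AbCubeLib.RankTrans
import Groth.Agent.AbCubeLib.FiniteQuotient
import Groth.Agent.CubeLib.GlobalSec
import Groth.Agent.HopfQuot.SchemeQuot
import Groth.Agent.Misc15.AffinePoints

/-!
# Ranks of finite schemes and finite group schemes over a field
-/

set_option autoImplicit false
set_option backward.isDefEq.respectTransparency.types false
set_option linter.style.haveILetI false
set_option linter.unusedSectionVars false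
set_option maxHeartbeats 800000

universe u

open CategoryTheory CategoryTheory.Limits MonoidalCategory CartesianMonoidalCategory MonObj AlgebraicGeometry

namespace Groth.Agent.ThetaLib

variable {k : Type u} [Field k]

/-- The rank of a finite scheme over a field. -/
noncomputable def rk (X : Over (Spec (CommRingCat.of k))) : ℕ := Scheme.Hom.finrank X.hom (IsLocalRing.closedPoint k)

theorem finrank_hom_eq_rk (X : Over (Spec (CommRingCat.of k))) (s : Spec (CommRingCat.of k)) :
    Scheme.Hom.finrank X.hom s = rk X :=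
  congrArg _ (Subsingleton.elim (α := PrimeSpectrum k) _ _)

variable {X Y : Over (Spec (CommRingCat.of k))}

theorem rk_congr [IsFinite Y.hom] (e : X ≅ Y) : rk X = rk Y := by
  haveI : IsIso e.hom.left := inferInstanceAs (IsIso ((Over.forget _).mapIso e).hom)
  haveI : Flat Y.hom := CubeLib.flat_of_field _
  have h := congrFun (Scheme.Hom.finrank_comp_left_of_isIso e.hom.left Y.hom) (IsLocalRing.closedPoint k)
  rwa [Over.w e.hom] at h

theorem rk_spec (R : Type u) [CommRing R] [Algebra k R] [Module.Finite k R] :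
    rk ((Spec (CommRingCat.of R)).asOver (Spec (CommRingCat.of k))) = Module.finrank k R := by
  show Scheme.Hom.finrank (Spec.map (CommRingCat.ofHom (algebraMap k R))) _ = _
  rw [Scheme.Hom.finrank_SpecMap_algebraMap, Module.rankAtStalk_eq_finrank_of_free]
  rfl

theorem rk_comp (f : X ⟶ Y) [IsFinite f.left] [Flat f.left] [IsFinite Y.hom] {n : ℕ}
    (h : ∀ y, Scheme.Hom.finrank f.left y = n) : rk X = n * rk Y := by
  haveI : Flat Y.hom := CubeLib.flat_of_field _
  have e := AbCubeLib.finrank_comp_base f.left Y.hom h (IsLocalRing.closedPoint k)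
  rwa [Over.w f] at e

theorem exists_algebra_model (X : Over (Spec (CommRingCat.of k))) [IsFinite X.hom] :
    ∃ (R : Type u) (_ : CommRing R) (_ : Algebra k R),
      Module.Finite k R ∧ Nonempty (CoactBr.sp k R ≅ X) := by
  haveI : IsAffine X.left := isAffine_of_isAffineHom X.hom
  obtain ⟨R, _, _, ⟨e⟩⟩ := Groth.Agent.Misc15.AffinePoints.exists_sp (R := k) X
  haveI : IsIso e.hom.left := inferInstanceAs (IsIso ((Over.forget _).mapIso e).hom)
  haveI hfin : IsFinite (CoactBr.sp k R).hom := by rw [← Over.w e.hom]; infer_instance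
  exact ⟨R, inferInstance, inferInstance,
    RingHom.finite_algebraMap.1 ((IsFinite.SpecMap_iff (CommRingCat.ofHom (algebraMap k R))).1 hfin), ⟨e⟩⟩

/-- A closed subscheme has smaller rank. -/
theorem rk_le_of_closedImmersion (i : X ⟶ Y) [IsClosedImmersion i.left] [IsFinite Y.hom] : rk X ≤ rk Y := by
  haveI : IsFinite X.hom := by rw [← Over.w i]; infer_instance
  obtain ⟨R, _, _, _, ⟨e⟩⟩ := exists_algebra_model X
  obtain ⟨S, _, _, _, ⟨e'⟩⟩ := exists_algebra_model Y
  haveI : IsIso e.hom.left := inferInstanceAs (IsIso ((Over.forget _).mapIso e).hom)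
  haveI : IsIso e'.inv.left := inferInstanceAs (IsIso ((Over.forget _).mapIso e'.symm).hom)
  obtain ⟨φ, hφ⟩ := Groth.Agent.Misc15.AffinePoints.pt_surjective (e.hom ≫ i ≫ e'.inv)
  haveI hci : IsClosedImmersion (Spec.map (CommRingCat.ofHom φ.toRingHom)) := by
    rw [← CoactBr.pt_left, hφ, Over.comp_left, Over.comp_left]
    haveI h1 : IsClosedImmersion e.hom.left := inferInstance
    haveI h2 : IsClosedImmersion e'.inv.left := inferInstance
    exact @IsClosedImmersion.comp _ _ _ _ _ h1 (@IsClosedImmersion.comp _ _ _ _ _ ‹IsClosedImmersion i.left› h2)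
  have hs : Function.Surjective φ := by
    have h := Scheme.Hom.app_surjective (Spec.map (CommRingCat.ofHom φ.toRingHom)) ⊤ (isAffineOpen_top _)
    have e0 := Scheme.ΓSpecIso_inv_naturality (CommRingCat.ofHom φ.toRingHom)
    intro y
    obtain ⟨z, hz⟩ := h ((Scheme.ΓSpecIso (CommRingCat.of R)).inv y)
    obtain ⟨x, rfl⟩ := (ConcreteCategory.bijective_of_isIso (Scheme.ΓSpecIso (CommRingCat.of S)).inv).2 z
    refine ⟨x, (ConcreteCategory.bijective_of_isIso (Scheme.ΓSpecIso (CommRingCat.of R)).inv).1 ?_⟩
    exact (congrArg (fun f => f.hom x) e0).trans hz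
  rw [← rk_congr e, ← rk_congr e', rk_spec, rk_spec]
  exact φ.toLinearMap.finrank_le_finrank_of_surjective hs

/-- A closed subscheme of full rank is everything. -/
theorem isIso_of_rk_le (i : X ⟶ Y) [IsClosedImmersion i.left] [IsFinite Y.hom] (h : rk Y ≤ rk X) : IsIso i := by
  haveI : IsFinite X.hom := by rw [← Over.w i]; infer_instance
  obtain ⟨R, _, _, _, ⟨e⟩⟩ := exists_algebra_model X
  obtain ⟨S, _, _, _, ⟨e'⟩⟩ := exists_algebra_model Y
  haveI : IsIso e.hom.left := inferInstanceAs (IsIso ((Over.forget _).mapIso e).hom)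
  haveI : IsIso e'.inv.left := inferInstanceAs (IsIso ((Over.forget _).mapIso e'.symm).hom)
  obtain ⟨φ, hφ⟩ := Groth.Agent.Misc15.AffinePoints.pt_surjective (e.hom ≫ i ≫ e'.inv)
  haveI hci : IsClosedImmersion (Spec.map (CommRingCat.ofHom φ.toRingHom)) := by
    rw [← CoactBr.pt_left, hφ, Over.comp_left, Over.comp_left]
    haveI h1 : IsClosedImmersion e.hom.left := inferInstance
    haveI h2 : IsClosedImmersion e'.inv.left := inferInstance
    exact @IsClosedImmersion.comp _ _ _ _ _ h1 (@IsClosedImmersion.comp _ _ _ _ _ ‹IsClosedImmersion i.left› h2)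
  have hs : Function.Surjective φ := by
    have h := Scheme.Hom.app_surjective (Spec.map (CommRingCat.ofHom φ.toRingHom)) ⊤ (isAffineOpen_top _)
    have e0 := Scheme.ΓSpecIso_inv_naturality (CommRingCat.ofHom φ.toRingHom)
    intro y
    obtain ⟨z, hz⟩ := h ((Scheme.ΓSpecIso (CommRingCat.of R)).inv y)
    obtain ⟨x, rfl⟩ := (ConcreteCategory.bijective_of_isIso (Scheme.ΓSpecIso (CommRingCat.of S)).inv).2 z
    refine ⟨x, (ConcreteCategory.bijective_of_isIso (Scheme.ΓSpecIso (CommRingCat.of R)).inv).1 ?_⟩
    exact (congrArg (fun f => f.hom x) e0).trans hz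
  rw [← rk_congr e, ← rk_congr e', rk_spec, rk_spec] at h
  have heq : Module.finrank k S = Module.finrank k R :=
    le_antisymm h (φ.toLinearMap.finrank_le_finrank_of_surjective hs)
  have hb : Function.Bijective φ :=
    ⟨(LinearMap.injective_iff_surjective_of_finrank_eq_finrank (f := φ.toLinearMap) heq).2 hs, hs⟩
  haveI : IsIso (CommRingCat.ofHom φ.toRingHom) := (ConcreteCategory.isIso_iff_bijective _).2 hb
  haveI : IsIso (Spec.map (CommRingCat.ofHom φ.toRingHom)) :=
    inferInstanceAs (IsIso (Scheme.Spec.map (CommRingCat.ofHom φ.toRingHom).op))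
  haveI : IsIso (CoactBr.pt φ).left := by rw [CoactBr.pt_left]; exact ‹IsIso (Spec.map (CommRingCat.ofHom φ.toRingHom))›
  haveI : IsIso (CoactBr.pt φ) := by
    haveI : IsIso ((Over.forget _).map (CoactBr.pt φ)) := ‹IsIso (CoactBr.pt φ).left›
    exact isIso_of_reflects_iso (CoactBr.pt φ) (Over.forget _)
  haveI : IsIso (e.hom ≫ i ≫ e'.inv) := by rw [← hφ]; infer_instance
  haveI : IsIso (i ≫ e'.inv) := IsIso.of_isIso_comp_left e.hom (i ≫ e'.inv)
  exact IsIso.of_isIso_comp_right i e'.inv

theorem rk_pos [IsFinite X.hom] (x : X.left) : 1 ≤ rk X := by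
  haveI : Flat X.hom := CubeLib.flat_of_field _
  rw [← finrank_hom_eq_rk X (X.hom x)]
  exact Scheme.Hom.one_le_finrank_map X.hom x

/-- A group scheme of rank one is trivial. -/
theorem eq_one_of_rk_eq_one [IsFinite X.hom] [GrpObj X] (h : rk X = 1) {T : Over (Spec (CommRingCat.of k))}
    (a : T ⟶ X) : a = 1 := by
  obtain ⟨R, _, _, hR, ⟨e⟩⟩ := exists_algebra_model X
  rw [← rk_congr e, rk_spec] at h
  haveI : Nontrivial R := Module.nontrivial_of_finrank_eq_succ h
  have hbij : Function.Bijective (algebraMap k R) := by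
    refine ⟨(algebraMap k R).injective, fun r => ?_⟩
    obtain ⟨c, hc⟩ := (finrank_eq_one_iff_of_nonzero' (1 : R) one_ne_zero).1 h r
    exact ⟨c, by rw [Algebra.algebraMap_eq_smul_one, hc]⟩
  haveI : IsIso (CommRingCat.ofHom (algebraMap k R)) := (ConcreteCategory.isIso_iff_bijective _).2 hbij
  haveI : IsIso (CoactBr.sp k R).hom := inferInstanceAs (IsIso (Spec.map (CommRingCat.ofHom (algebraMap k R))))
  haveI : Mono (CoactBr.sp k R).hom := inferInstance
  have huniq : ∀ b c : T ⟶ CoactBr.sp k R, b = c := fun b c =>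
    Over.OverMorphism.ext ((cancel_mono (CoactBr.sp k R).hom).1 ((Over.w b).trans (Over.w c).symm))
  have := congrArg (· ≫ e.hom) (huniq (a ≫ e.inv) ((1 : T ⟶ X) ≫ e.inv))
  simpa using this

/-- Ranks multiply along a surjection with given kernel. -/
theorem rk_eq_mul_of_kernel {G Q P : Over (Spec (CommRingCat.of k))} [GrpObj G] [GrpObj Q] [IsFinite G.hom]
    [IsFinite Q.hom] (p : G ⟶ Q) [IsMonHom p] [Surjective p.left] [Flat p.left] (i : P ⟶ G)
    (hk : AlgGrp.IsKernel i p) : IsFinite P.hom ∧ rk G = rk P * rk Q := by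
  haveI : IsFinite p.left := by
    haveI : IsFinite (p.left ≫ Q.hom) := by rw [Over.w]; infer_instance
    exact IsFinite.of_comp p.left Q.hom
  haveI : IsFinite P.hom := by
    have := MorphismProperty.of_isPullback (P := @IsFinite) (IsPullback.map (Over.forget _) hk) ‹IsFinite p.left›
    simpa [Over.toUnit_left] using this
  let e : P ≅ pullback p η[Q] := hk.isoPullback
  haveI : IsIso e.inv.left := inferInstanceAs (IsIso ((Over.forget _).mapIso e.symm).hom)
  haveI : IsFinite (pullback p η[Q]).hom := by rw [← Over.w e.inv]; infer_instance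
  haveI : Flat (pullback p η[Q]).hom := CubeLib.flat_of_field _
  refine ⟨inferInstance, (rk_comp p (n := rk P) fun y => ?_)⟩
  obtain ⟨x, rfl⟩ := p.left.surjective y
  have sq := ((GrpQLib.isPullback_translate p).map (Over.forget _)).flip
  haveI : Flat ((Over.forget (Spec (CommRingCat.of k))).map p) := ‹Flat p.left›
  haveI : IsFinite ((Over.forget (Spec (CommRingCat.of k))).map p) := ‹IsFinite p.left›
  refine (Scheme.Hom.finrank_of_isPullback _ _ _ _ sq x).symm.trans ?_
  rw [rk_congr e, ← finrank_hom_eq_rk _ (G.hom x)]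
  exact Scheme.Hom.finrank_pullback_fst (pullback p η[Q]).hom G.hom x

/-- The rank of the source of a homomorphism of finite group schemes is at most the rank of its kernel times the
rank of the target. -/
theorem rk_le_mul_of_hom {G H P : Over (Spec (CommRingCat.of k))} [GrpObj G] [GrpObj H] [IsFinite G.hom]
    [IsFinite H.hom] (v : G ⟶ H) [IsMonHom v] (i : P ⟶ G) (hk : AlgGrp.IsKernel i v) : rk G ≤ rk P * rk H := by
  haveI : LocallyOfFinitePresentation G.hom := AbCubeLib.locallyOfFinitePresentation_of_noetherian_base G.hom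
  obtain ⟨Q, _, p, j, hp, hj, hpj, hps, hpf, hpp, hjm, hQ, hk'⟩ := GrpQLib.exists_image v (CubeLib.flat_of_field _)
  haveI : CompactSpace G.left := QuasiCompact.compactSpace_of_compactSpace G.hom
  haveI : CompactSpace Q.left := ⟨by
    have := isCompact_univ.image p.left.continuous
    rwa [Set.image_univ, Set.range_eq_univ.2 p.left.surjective] at this⟩
  haveI : QuasiCompact Q.hom := (quasiCompact_iff_compactSpace Q.hom).2 inferInstance
  haveI : QuasiCompact j.left := by
    haveI : QuasiCompact (j.left ≫ H.hom) := by rw [Over.w]; infer_instance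
    exact QuasiCompact.of_comp j.left H.hom
  haveI : IsClosedImmersion j.left := SGA3cLib.isClosedImmersion_of_mono j
  haveI : IsFinite Q.hom := by rw [← Over.w j]; infer_instance
  have hmono := AlgGrpLib.kernel_mono hk
  have hk2 : AlgGrp.IsKernel i p := AlgGrpLib.isKernel_of_points i p
    (by rw [← cancel_mono j, Category.assoc, hpj, AlgGrpLib.kernel_comp hk, MonObj.one_comp])
    fun T g hg => AlgGrpLib.exists_lift_kernel hk (by rw [← hpj, ← Category.assoc, hg, MonObj.one_comp])
  rw [(rk_eq_mul_of_kernel p i hk2).2]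
  exact Nat.mul_le_mul_left _ (rk_le_of_closedImmersion j)

end Groth.Agent.ThetaLib
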