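import Groth.Agent.ThetaLib.CartDescent
import Groth.Agent.ThetaLib.Points

/-!
# Descent data from morphisms in the Grothendieck construction
-/

set_option autoImplicit false
set_option backward.isDefEq.respectTransparency.types false
set_option linter.style.haveILetI false

open CategoryTheory Bicategory Opposite
open Pseudofunctor LocallyDiscreteOpToCat

namespace Groth.Agent.ThetaLib

universe v₁ u₁ v₂ u₂ t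

variable {𝒮 : Type u₂} [Category.{v₂} 𝒮] {F : LocallyDiscrete 𝒮ᵒᵖ ⥤ᵖ Cat.{v₁, u₁}} {S X : 𝒮}

/-- `(Y, p^* L)`. -/
abbrev dom (L : F.obj ⟨op X⟩) {Y : 𝒮} (p : Y ⟶ X) : CoGrothendieck F := CoGrothendieck.domainCartesianLift L p

/-- The map `(Y', (g p)^* L) ⟶ (Y, p^* L)` over `g`. -/
abbrev pullMap (L : F.obj ⟨op X⟩) {Y Y' : 𝒮} (p : Y ⟶ X) (g : Y' ⟶ Y) : dom L (g ≫ p) ⟶ dom L p :=
  ⟨g, (F.mapComp p.op.toLoc g.op.toLoc).hom.toNatTrans.app L⟩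

set_option backward.defeqAttrib.useBackward true in
set_option backward.isDefEq.respectTransparency false in
theorem pullMap_comp_cart (L : F.obj ⟨op X⟩) {Y Y' : 𝒮} (p : Y ⟶ X) (g : Y' ⟶ Y) :
    pullMap L p g ≫ CoGrothendieck.cartesianLift L p = CoGrothendieck.cartesianLift L (g ≫ p) := by
  ext <;> simp [pullMap, ← Cat.Hom.toNatIso_hom, ← Cat.Hom.toNatIso_inv]

set_option backward.defeqAttrib.useBackward true in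
set_option backward.isDefEq.respectTransparency false in
theorem pullMap_comp_hom (L : F.obj ⟨op X⟩) {Y Y' : 𝒮} {f₁ f₂ : Y ⟶ X} (g : Y' ⟶ Y)
    (φ : (F.map f₁.op.toLoc).toFunctor.obj L ⟶ (F.map f₂.op.toLoc).toFunctor.obj L) :
    pullMap L f₁ g ≫ (⟨f₂, φ⟩ : dom L f₁ ⟶ (⟨X, L⟩ : CoGrothendieck F)) =
      ⟨g ≫ f₂, pullHom φ g (g ≫ f₁) (g ≫ f₂) rfl rfl⟩ := by
  ext <;> simp [pullMap, pullHom, Pseudofunctor.mapComp', PrelaxFunctor.map₂_eqToHom]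

/-- A vertical morphism followed by a morphism. -/
theorem ι_comp_mk {a : F.obj ⟨op S⟩} {b : F.obj ⟨op S⟩} (ψ : a ⟶ b) {c : CoGrothendieck F} (p : S ⟶ c.base)
    (φ : b ⟶ (F.map p.op.toLoc).toFunctor.obj c.fiber) :
    (CoGrothendieck.ι F S).map ψ ≫ (⟨p, φ⟩ : (⟨S, b⟩ : CoGrothendieck F) ⟶ c) = ⟨p, ψ ≫ φ⟩ := by
  refine (congrArg ((CoGrothendieck.ι F S).map ψ ≫ ·) (factor (⟨p, φ⟩ : (⟨S, b⟩ : CoGrothendieck F) ⟶ c)).symm).trans ?_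
  refine ((Category.assoc _ _ _).symm.trans ?_).trans (factor (⟨p, ψ ≫ φ⟩ : (⟨S, a⟩ : CoGrothendieck F) ⟶ c))
  exact congrArg (· ≫ CoGrothendieck.cartesianLift c.fiber p) (Functor.map_comp _ _ _).symm

set_option backward.defeqAttrib.useBackward true in
set_option backward.isDefEq.respectTransparency false in
/-- A compatible family of morphisms `(Y, f₁^* L) ⟶ (X, L)` over `f₂` gives a descent datum on `L`. -/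
theorem exists_descentData (f : X ⟶ S) (L : F.obj ⟨op X⟩)
    (Θ : ∀ ⦃Y : 𝒮⦄ (f₁ f₂ : Y ⟶ X), f₁ ≫ f = f₂ ≫ f → (dom L f₁ ⟶ (⟨X, L⟩ : CoGrothendieck F)))
    (hb : ∀ ⦃Y : 𝒮⦄ (f₁ f₂ : Y ⟶ X) h, (Θ f₁ f₂ h).base = f₂)
    (hnat : ∀ ⦃Y Y' : 𝒮⦄ (g : Y' ⟶ Y) (f₁ f₂ : Y ⟶ X) h h',
      pullMap L f₁ g ≫ Θ f₁ f₂ h = Θ (g ≫ f₁) (g ≫ f₂) h')
    (hself : ∀ ⦃Y : 𝒮⦄ (p : Y ⟶ X) h, Θ p p h = CoGrothendieck.cartesianLift L p)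
    (hcomp : ∀ ⦃Y : 𝒮⦄ (f₁ f₂ f₃ : Y ⟶ X) h₁₂ h₂₃ h₁₃
      (ψ : (F.map f₁.op.toLoc).toFunctor.obj L ⟶ (F.map f₂.op.toLoc).toFunctor.obj L),
      (CoGrothendieck.ι F Y).map ψ ≫ CoGrothendieck.cartesianLift L f₂ = Θ f₁ f₂ h₁₂ →
        (CoGrothendieck.ι F Y).map ψ ≫ Θ f₂ f₃ h₂₃ = Θ f₁ f₃ h₁₃) :
    ∃ D : F.DescentData (fun _ : PUnit.{t + 1} => f), D.obj PUnit.unit = L := by
  have hex : ∀ ⦃Y : 𝒮⦄ (f₁ f₂ : Y ⟶ X) (h : f₁ ≫ f = f₂ ≫ f),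
      ∃ φ : (F.map f₁.op.toLoc).toFunctor.obj L ⟶ (F.map f₂.op.toLoc).toFunctor.obj L, Θ f₁ f₂ h = ⟨f₂, φ⟩ := by
    intro Y f₁ f₂ h
    refine ⟨(Θ f₁ f₂ h).fiber ≫ eqToHom (by rw [hb f₁ f₂ h]), CoGrothendieck.Hom.ext _ _ (hb f₁ f₂ h) ?_⟩
    simp
  choose θ hθ using hex
  have hinj : ∀ {Y : 𝒮} {f₁ f₂ : Y ⟶ X} {φ φ' : (F.map f₁.op.toLoc).toFunctor.obj L ⟶ (F.map f₂.op.toLoc).toFunctor.obj L},
      (⟨f₂, φ⟩ : dom L f₁ ⟶ (⟨X, L⟩ : CoGrothendieck F)) = ⟨f₂, φ'⟩ → φ = φ' := by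
    intro Y f₁ f₂ φ φ' h
    simpa using CoGrothendieck.Hom.congr h
  refine ⟨{ obj := fun _ => L
            hom := fun Y q i₁ i₂ f₁ f₂ h₁ h₂ => θ f₁ f₂ (h₁.trans h₂.symm)
            pullHom_hom := ?_
            hom_self := ?_
            hom_comp := ?_ }, rfl⟩
  · intro Y' Y g q q' hq i₁ i₂ f₁ f₂ h₁ h₂ gf₁ gf₂ e₁ e₂
    subst e₁ e₂
    have h' : (g ≫ f₁) ≫ f = (g ≫ f₂) ≫ f := by rw [Category.assoc, Category.assoc, h₁, h₂]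
    refine hinj ?_
    rw [← pullMap_comp_hom, ← hθ f₁ f₂ (h₁.trans h₂.symm), hnat g f₁ f₂ _ h', hθ]
  · intro Y q i p hp
    refine hinj ?_
    rw [← hθ, hself]
  · intro Y q i₁ i₂ i₃ f₁ f₂ f₃ h₁ h₂ h₃
    refine hinj ?_
    rw [← hθ f₁ f₃ (h₁.trans h₃.symm),
      ← hcomp f₁ f₂ f₃ (h₁.trans h₂.symm) (h₂.trans h₃.symm) (h₁.trans h₃.symm) (θ f₁ f₂ (h₁.trans h₂.symm)) ?_,
      hθ f₂ f₃ (h₂.trans h₃.symm)]
    · exact (ι_comp_mk (c := ⟨X, L⟩) _ f₃ _).symm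
    · rw [hθ]
      refine (ι_comp_mk (c := ⟨X, L⟩) _ f₂ _).trans ?_
      rw [Category.comp_id]

end Groth.Agent.ThetaLib
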