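import Groth.Agent.ThetaLib.Points

/-!
# Morphisms with invertible fibre component are cartesian; the projection of `(A × T, L_T)` to `(A, L)`
-/

set_option autoImplicit false
set_option backward.isDefEq.respectTransparency.types false
set_option linter.style.haveILetI false
set_option linter.unusedSectionVars false

universe u v w

open CategoryTheory CategoryTheory.Limits MonoidalCategory CartesianMonoidalCategory MonObj AlgebraicGeometry
open Pseudofunctor Bicategory

namespace Groth.Agent.ThetaLib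

section CoGroth

variable {𝒮 : Type*} [Category 𝒮] {F : LocallyDiscrete 𝒮ᵒᵖ ⥤ᵖ Cat}

/-- Morphisms with invertible fibre component are cartesian. -/
theorem isStronglyCartesian_of_fiber {a b : CoGrothendieck F} (f : a ⟶ b) [IsIso f.fiber] :
    Functor.IsStronglyCartesian (CoGrothendieck.forget F) f.base f := by
  haveI hc : Functor.IsStronglyCartesian (CoGrothendieck.forget F) f.base
      (CoGrothendieck.cartesianLift b.fiber f.base) :=
    CoGrothendieck.isStronglyCartesian_homCartesianLift b.fiber f.base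
  haveI : IsIso ((CoGrothendieck.ι F a.base).map f.fiber) := Functor.map_isIso _ _
  haveI hl : Functor.IsHomLift (CoGrothendieck.forget F) (𝟙 a.base) ((CoGrothendieck.ι F a.base).map f.fiber) :=
    CategoryTheory.IsHomLift.map (CoGrothendieck.forget F) ((CoGrothendieck.ι F a.base).map f.fiber)
  haveI hv : Functor.IsStronglyCartesian (CoGrothendieck.forget F) (𝟙 a.base)
      ((CoGrothendieck.ι F a.base).map f.fiber) :=
    Functor.IsStronglyCartesian.of_isIso _ _ _
  have h : Functor.IsStronglyCartesian (CoGrothendieck.forget F) (𝟙 a.base ≫ f.base)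
      ((CoGrothendieck.ι F a.base).map f.fiber ≫ CoGrothendieck.cartesianLift b.fiber f.base) :=
    @Functor.IsStronglyCartesian.comp _ _ _ _ (CoGrothendieck.forget F) a.base a.base b.base _ _ _
      (𝟙 a.base) f.base ((CoGrothendieck.ι F a.base).map f.fiber) (CoGrothendieck.cartesianLift b.fiber f.base) hv hc
  rw [Category.id_comp] at h
  exact (congrArg (fun g => Functor.IsStronglyCartesian (CoGrothendieck.forget F) f.base g) (factor f)).mp h

/-- A morphism into a cartesian one is determined by its base and the composite. -/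
theorem hom_ext_of_fiber {a b c : CoGrothendieck F} (f : a ⟶ b) [IsIso f.fiber] {χ χ' : c ⟶ a}
    (hb : χ.base = χ'.base) (hc : χ ≫ f = χ' ≫ f) : χ = χ' := by
  haveI := isStronglyCartesian_of_fiber f
  haveI h1 : Functor.IsHomLift (CoGrothendieck.forget F) χ.base χ :=
    CategoryTheory.IsHomLift.map (CoGrothendieck.forget F) χ
  haveI h2 : Functor.IsHomLift (CoGrothendieck.forget F) χ.base χ' := by
    rw [hb]
    exact CategoryTheory.IsHomLift.map (CoGrothendieck.forget F) χ'
  exact Functor.IsStronglyCartesian.ext (CoGrothendieck.forget F) f.base f χ.base hc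

/-- Lifting along a cartesian morphism. -/
theorem exists_lift_of_fiber {a b c : CoGrothendieck F} (f : a ⟶ b) [IsIso f.fiber] (φ : c ⟶ b)
    (g : c.base ⟶ a.base) (hg : φ.base = g ≫ f.base) : ∃ χ : c ⟶ a, χ.base = g ∧ χ ≫ f = φ := by
  haveI := isStronglyCartesian_of_fiber f
  haveI h1 : Functor.IsHomLift (CoGrothendieck.forget F) (g ≫ f.base) φ := by
    rw [← hg]
    exact CategoryTheory.IsHomLift.map (CoGrothendieck.forget F) φ
  obtain ⟨χ, ⟨hχ, hχf⟩, -⟩ :=
    Functor.IsStronglyCartesian.universal_property (p := CoGrothendieck.forget F) f.base f g (g ≫ f.base) rfl φ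
  refine ⟨χ, ?_, hχf⟩
  exact (@CategoryTheory.IsHomLift.eq_of_isHomLift _ _ _ _ (CoGrothendieck.forget F) _ _ g χ hχ).symm

/-- Lifting an automorphism along a cartesian morphism. -/
theorem exists_aut_lift {a b : CoGrothendieck F} (f : a ⟶ b) [IsIso f.fiber] (g : a.base ≅ a.base) (β : b ≅ b)
    (hg : g.hom ≫ f.base = f.base ≫ β.hom.base) : ∃ α : a ≅ a, α.hom.base = g.hom ∧ α.hom ≫ f = f ≫ β.hom := by
  have hb : β.hom.base ≫ β.inv.base = 𝟙 b.base := by
    rw [← CoGrothendieck.categoryStruct_comp_base, β.hom_inv_id]; rfl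
  obtain ⟨χ, hχb, hχ⟩ := exists_lift_of_fiber f (f ≫ β.hom) g.hom (by simp [hg])
  obtain ⟨χ', hχ'b, hχ'⟩ := exists_lift_of_fiber f (f ≫ β.inv) g.inv (by
    rw [CoGrothendieck.categoryStruct_comp_base, ← cancel_epi g.hom, Iso.hom_inv_id_assoc, ← Category.assoc, hg,
      Category.assoc, hb, Category.comp_id])
  refine ⟨⟨χ, χ', hom_ext_of_fiber f (by simp [hχb, hχ'b]) ?_, hom_ext_of_fiber f (by simp [hχb, hχ'b]) ?_⟩, hχb, hχ⟩
  · rw [Category.assoc, hχ', ← Category.assoc, hχ, Category.assoc, Iso.hom_inv_id, Category.comp_id, Category.id_comp]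
  · rw [Category.assoc, hχ, ← Category.assoc, hχ', Category.assoc, Iso.inv_hom_id, Category.comp_id, Category.id_comp]

/-- The fibre of a composite of morphisms with invertible fibres is invertible. -/
theorem isIso_comp_fiber {𝒮 : Type*} [Category 𝒮] {F : Pseudofunctor (LocallyDiscrete 𝒮ᵒᵖ) Cat}
    {a b c : CoGrothendieck F} (f : a ⟶ b) (g : b ⟶ c) [IsIso f.fiber] [IsIso g.fiber] :
    IsIso (f ≫ g).fiber := by
  rw [CoGrothendieck.categoryStruct_comp_fiber]
  haveI : IsIso ((F.map f.base.op.toLoc).toFunctor.map g.fiber) := Functor.map_isIso _ _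
  haveI := ((Cat.Hom.toNatIso (F.mapComp g.base.op.toLoc f.base.op.toLoc)).symm.app c.fiber).isIso_hom
  exact IsIso.comp_isIso' ‹_› (IsIso.comp_isIso' ‹_› this)

end CoGroth

variable {S : Scheme.{u}} {A B : Over S} [GrpObj A]

/-- `(Y, M)` as an object over schemes. -/
abbrev modObj {Y : Scheme.{u}} (M : Y.Modules) : CoGrothendieck ThetaGrp.modPF.{u} := ⟨Y, M⟩

/-- The projection `(A × T, L_T) ⟶ (A, L)`. -/
noncomputable def proj (L : A.left.Modules) (T : Over S) : ThetaGrp.thetaObj A L T ⟶ modObj L :=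
  CoGrothendieck.cartesianLift (F := ThetaGrp.modPF) L (fst A T).left

theorem proj_base (L : A.left.Modules) (T : Over S) : (proj L T).base = (fst A T).left := rfl

instance isIso_proj_fiber (L : A.left.Modules) (T : Over S) : IsIso (proj L T).fiber :=
  show IsIso (𝟙 _) from inferInstance

instance isIso_bcLift_fiber (L : A.left.Modules) {T G : Over S} (g : T ⟶ G) :
    IsIso (ThetaGrp.bcLift A L g).fiber := by
  unfold ThetaGrp.bcLift
  exact IsIso.comp_isIso' ((Scheme.Modules.pullbackCongr _).app L).isIso_hom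
    ((Scheme.Modules.pullbackComp _ _).symm.app L).isIso_hom

theorem bcLift_proj (L : A.left.Modules) {T G : Over S} (g : T ⟶ G) :
    ThetaGrp.bcLift A L g ≫ proj L G = proj L T := by
  refine CoGrothendieck.Hom.ext _ _ (show (A ◁ g).left ≫ (fst A G).left = (fst A T).left by
    rw [← Over.comp_left, whiskerLeft_fst]) ?_
  rw [CoGrothendieck.categoryStruct_comp_fiber]
  show ((Scheme.Modules.pullbackCongr _).hom.app L ≫ (Scheme.Modules.pullbackComp _ _).inv.app L) ≫
    (Scheme.Modules.pullback (A ◁ g).left).map (𝟙 _) ≫ (Scheme.Modules.pullbackComp _ _).hom.app L = _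
  erw [CategoryTheory.Functor.map_id, Category.id_comp]
  erw [Category.assoc, Iso.inv_hom_id_app, Category.comp_id]
  simp [proj, Scheme.Modules.pullbackCongr, eqToHom_app]
  rfl

/-- Morphisms to `(A × T, L_T)` are determined by the base and the projection. -/
theorem hom_ext_proj {L : A.left.Modules} {T : Over S} {c : CoGrothendieck ThetaGrp.modPF.{u}}
    {χ χ' : c ⟶ ThetaGrp.thetaObj A L T} (hb : χ.base = χ'.base) (hc : χ ≫ proj L T = χ' ≫ proj L T) : χ = χ' :=
  hom_ext_of_fiber (proj L T) hb hc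

theorem bcLift_comp (L : A.left.Modules) {T T' G : Over S} (t : T' ⟶ T) (g : T ⟶ G) :
    ThetaGrp.bcLift A L (t ≫ g) = ThetaGrp.bcLift A L t ≫ ThetaGrp.bcLift A L g := by
  refine hom_ext_proj ?_ (by rw [Category.assoc, bcLift_proj, bcLift_proj, bcLift_proj])
  show (A ◁ (t ≫ g)).left = (A ◁ t).left ≫ (A ◁ g).left
  rw [← Over.comp_left, MonoidalCategory.whiskerLeft_comp]

/-- A point is determined by its translation. -/
theorem transl_injective {T : Over S} {x y : T ⟶ A} (h : ThetaGrp.transl A x = ThetaGrp.transl A y) : x = y := by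
  have h' := congrArg (fun t => lift (1 : T ⟶ A) (𝟙 T) ≫ t ≫ fst A T) h
  simpa [MonObj.comp_mul] using h'

theorem isOverPt_unique {L : A.left.Modules} {T : Over S} {α : ThetaGrp.thetaPts A L T} {x y : T ⟶ A}
    (hx : ThetaGrp.IsOverPt α x) (hy : ThetaGrp.IsOverPt α y) : x = y :=
  transl_injective (Over.OverMorphism.ext (hx.symm.trans hy))

theorem transl_whisker {T G : Over S} (g : T ⟶ G) (x : G ⟶ A) :
    ThetaGrp.transl A (g ≫ x) ≫ (A ◁ g) = (A ◁ g) ≫ ThetaGrp.transl A x := by
  refine CartesianMonoidalCategory.hom_ext _ _ ?_ ?_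
  · simp [ThetaGrp.transl, MonObj.comp_mul]
  · simp [ThetaGrp.transl]

/-- The translation point of a base change. -/
theorem isOverPt_baseChange {L : A.left.Modules} {T G : Over S} {g : T ⟶ G} {u : ThetaGrp.thetaPts A L G}
    {β : ThetaGrp.thetaPts A L T} (hb : ThetaGrp.IsBaseChange β g u) {z : G ⟶ A} (hz : ThetaGrp.IsOverPt u z) :
    ThetaGrp.IsOverPt β (g ≫ z) := by
  obtain ⟨x, hx⟩ := β.2
  have h : (ThetaGrp.transl A x).left ≫ (A ◁ g).left = (A ◁ g).left ≫ (ThetaGrp.transl A z).left := by
    rw [← hx, ← hz]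
    exact congrArg (fun (φ : ThetaGrp.thetaObj A L T ⟶ ThetaGrp.thetaObj A L G) => φ.base) hb
  rw [← Over.comp_left, ← Over.comp_left] at h
  have h' : x = g ≫ z := by
    have := congrArg (fun t => lift (1 : T ⟶ A) (𝟙 T) ≫ t ≫ fst A G) (Over.OverMorphism.ext h)
    simpa [MonObj.comp_mul] using this
  subst h'
  exact hx

end Groth.Agent.ThetaLib
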