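import Groth.Agent.ThetaLib.Hom
import Groth.Agent.Desc19b.QCohFpqc

/-!
# Commutation with lifts of the kernel; commutators as scalars
-/

set_option autoImplicit false
set_option backward.isDefEq.respectTransparency.types false
set_option linter.style.haveILetI false
set_option linter.unusedSectionVars false

universe u

open CategoryTheory CategoryTheory.Limits MonoidalCategory CartesianMonoidalCategory MonObj AlgebraicGeometry
open Pseudofunctor Bicategory
open Groth.Agent.PicLib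

namespace Groth.Agent.ThetaLib

section bc

variable {S : Scheme.{u}} {A T W : Over S} [GrpObj A] {L : A.left.Modules}

/-- Restriction of a point of the theta group along `t`. -/
theorem exists_res (t : W ⟶ T) {β : ThetaGrp.thetaPts A L T} {x : T ⟶ A} (hx : ThetaGrp.IsOverPt β x) :
    ∃ βt : ThetaGrp.thetaPts A L W, ThetaGrp.IsOverPt βt (t ≫ x) ∧
      βt.1.hom ≫ ThetaGrp.bcLift A L t = ThetaGrp.bcLift A L t ≫ β.1.hom := by
  haveI : IsIso (ThetaGrp.transl A (t ≫ x)) := ⟨⟨ThetaGrp.transl A (t ≫ x)⁻¹,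
    by rw [← ThetaGrp.transl_mul, mul_inv_cancel, ThetaGrp.transl_one],
    by rw [← ThetaGrp.transl_mul, inv_mul_cancel, ThetaGrp.transl_one]⟩⟩
  obtain ⟨α, hb, h⟩ := exists_aut_lift (ThetaGrp.bcLift A L t)
    ((Over.forget _).mapIso (asIso (ThetaGrp.transl A (t ≫ x)))) β.1
    (by
      rw [hx]
      exact congrArg (fun z => z.left) (transl_whisker t x))
  exact ⟨⟨α, _, hb⟩, hb, h⟩

theorem pts_hom_ext_res (t : W ⟶ T) {β β' : ThetaGrp.thetaPts A L W} {x : W ⟶ A} (h : ThetaGrp.IsOverPt β x)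
    (h' : ThetaGrp.IsOverPt β' x) (e : β.1.hom ≫ ThetaGrp.bcLift A L t = β'.1.hom ≫ ThetaGrp.bcLift A L t) :
    β = β' := pts_hom_ext (hom_ext_of_fiber (ThetaGrp.bcLift A L t) (h.trans h'.symm) e)

end bc

variable {k : Type u} [Field k] {A B T N : Over (Spec (CommRingCat.of k))} [GrpObj A] [IsProper A.hom]
  [GeometricallyIntegral A.hom] [GrpObj B]

section hom

variable [IsCommMonObj A] (f : A ⟶ B) [IsMonHom f] {M : B.left.Modules} (hM : PicF.IsInvertible M)

include hM

/-- A point of `G(f^* M)` whose translation is in `K(M)` after `f` comes from a point of `G(M)`. -/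
theorem exists_pt_of_translates {x : T ⟶ A} {β : ThetaGrp.thetaPts A ((Scheme.Modules.pullback f.left).obj M) T}
    (hβ : ThetaGrp.IsOverPt β x) {m : PicM T.left} (hm : KLLib.Translates hM (x ≫ f) m) :
    ∃ b : ThetaGrp.thetaPts B M T, ThetaGrp.IsOverPt b (x ≫ f) := by
  have hL := PicLoc.isInvertible_pullback f.left hM
  obtain rfl : m = 1 := by
    have e := KLLib.eq_pull ((exists_overPt_iff hL x).1 ⟨β, hβ⟩)
    rw [KLLib.eq_pull hm, e, Over.comp_left _ _ _ x f, ← PicM.pull_pull, PicM.pull_of f.left hM]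
  exact (exists_overPt_iff hM _).2 hm

/-- If `f x` is in `K(M)` then lifts of `x` commute with lifts of points killed by `f`. -/
theorem commute_of_translates {x a : T ⟶ A} {β α : ThetaGrp.thetaPts A ((Scheme.Modules.pullback f.left).obj M) T}
    (hβ : ThetaGrp.IsOverPt β x) (hα : ThetaGrp.IsOverPt α a) (ha : a ≫ f = 1) {m : PicM T.left}
    (hm : KLLib.Translates hM (x ≫ f) m) : Commute β α := by
  have hL := PicLoc.isInvertible_pullback f.left hM
  obtain ⟨b, hb⟩ := exists_pt_of_translates f hM hβ hm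
  obtain ⟨β', hβ', hβ'F⟩ := exists_pullPt f M hb
  obtain ⟨α', hα', hα'F⟩ := exists_canonical f M ha
  have hc : Commute β' α' := by
    refine pts_hom_ext (hom_ext_of_fiber (homLift f M T) ?_ ?_)
    · have h1 := isOverPt_mul hβ' hα'
      rw [mul_comm] at h1
      exact h1.trans (isOverPt_mul hα' hβ').symm
    · rw [mul_hom, mul_hom, Category.assoc, Category.assoc, hβ'F, reassoc_of% hα'F, hα'F]
      exact hβ'F.symm
  exact commute_of_overPt hL hα' hα (commute_of_overPt hL hβ' hβ hc.symm).symm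

variable [IsCommMonObj B] [IsProper B.hom] [GeometricallyIntegral B.hom] [GrpObj N] (i : N ⟶ A) [IsMonHom i]

/-- A point commuting with all lifts of kernel points descends. -/
theorem exists_pt_of_commute (hf : Surjective f.left) (hN : AlgGrp.IsKernel i f) {x : T ⟶ A}
    {β : ThetaGrp.thetaPts A ((Scheme.Modules.pullback f.left).obj M) T} (hx : ThetaGrp.IsOverPt β x)
    (hcomm : ∀ (W : Over (Spec (CommRingCat.of k))) (t : W ⟶ T) (n : W ⟶ N)
      (βt α : ThetaGrp.thetaPts A ((Scheme.Modules.pullback f.left).obj M) W),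
      ThetaGrp.IsOverPt βt (t ≫ x) → ThetaGrp.IsOverPt α (n ≫ i) → Commute βt α) :
    ∃ b : ThetaGrp.thetaPts B M T, ThetaGrp.IsOverPt b (x ≫ f) := by
  obtain ⟨hFlat, hSurj, hLfp⟩ := fppf_whiskerRight f hf T
  let F := homLift f M T
  haveI : Flat F.base := by rw [homLift_base]; exact hFlat
  haveI : Surjective F.base := by rw [homLift_base]; exact hSurj
  haveI : LocallyOfFinitePresentation F.base := by rw [homLift_base]; exact hLfp
  have hinvM : PicF.IsInvertible (ThetaGrp.thetaObj B M T).fiber := PicLoc.isInvertible_pullback _ hM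
  have hhor : (β.1.hom ≫ F).base = F.base ≫ (ThetaGrp.transl B (x ≫ f)).left := by
    rw [CoGrothendieck.categoryStruct_comp_base, hx, homLift_base, ← Over.comp_left, ← Over.comp_left,
      transl_whiskerRight]
  have hinv : ∀ (e : CoGrothendieck ThetaGrp.modPF.{u}) (π₁ π₂ : e ⟶ ThetaGrp.thetaObj A _ T),
      π₁ ≫ F = π₂ ≫ F → π₁ ≫ β.1.hom ≫ F = π₂ ≫ β.1.hom ≫ F := by
    intro e π₁ π₂ hπ
    let W : Over (Spec (CommRingCat.of k)) := Over.mk (π₁.base ≫ (A ⊗ T).hom)
    have hb : π₁.base ≫ (f ▷ T).left = π₂.base ≫ (f ▷ T).left := by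
      have := congrArg (fun z => z.base) hπ
      simpa [F, homLift_base] using this
    have hw2 : π₂.base ≫ (A ⊗ T).hom = π₁.base ≫ (A ⊗ T).hom := by
      rw [← Over.w (f ▷ T), ← Category.assoc, ← Category.assoc, hb]
    let a₁ : W ⟶ A ⊗ T := Over.homMk π₁.base rfl
    let a₂ : W ⟶ A ⊗ T := Over.homMk π₂.base hw2
    have ha : a₁ ≫ (f ▷ T) = a₂ ≫ (f ▷ T) := Over.OverMorphism.ext hb
    have hs : a₁ ≫ snd A T = a₂ ≫ snd A T := by
      have := congrArg (· ≫ snd B T) ha
      simpa using this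
    have hf' : a₁ ≫ fst A T ≫ f = a₂ ≫ fst A T ≫ f := by
      have := congrArg (· ≫ fst B T) ha
      simpa using this
    let t := a₁ ≫ snd A T
    let a := (a₁ ≫ fst A T)⁻¹ * (a₂ ≫ fst A T)
    have haf : a ≫ f = 1 := by
      rw [MonObj.mul_comp, GrpObj.inv_comp, Category.assoc, Category.assoc, hf', inv_mul_cancel]
    let n : W ⟶ N := hN.lift a (toUnit W) (haf.trans Hom.one_def)
    have hn : n ≫ i = a := hN.lift_fst _ _ _
    let w : W ⟶ A ⊗ W := lift (a₁ ≫ fst A T) (𝟙 W)
    have hw1 : w ≫ (A ◁ t) = a₁ := by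
      refine CartesianMonoidalCategory.hom_ext _ _ ?_ ?_
      · simp [w]
      · simp [w, t]
    have hwa : w ≫ ThetaGrp.transl A a ≫ (A ◁ t) = a₂ := by
      refine CartesianMonoidalCategory.hom_ext _ _ ?_ ?_
      · simp [w, a, ThetaGrp.transl, MonObj.comp_mul, mul_inv_cancel_left]
      · simp [w, t, ThetaGrp.transl, hs]
    obtain ⟨α, hα, hαF⟩ := exists_canonical f M haf
    obtain ⟨βt, hover', hβbc⟩ := exists_res t hx
    have hcα : Commute βt α := hcomm W t n βt α hover' (hn.symm ▸ hα)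
    obtain ⟨ρ, hρb, hρ⟩ := exists_lift_of_fiber (ThetaGrp.bcLift A _ t) π₁ w.left
      (congrArg (fun z => z.left) hw1).symm
    have hπ₂ : ρ ≫ α.1.hom ≫ ThetaGrp.bcLift A _ t = π₂ := by
      refine hom_ext_of_fiber F ?_ ?_
      · rw [CoGrothendieck.categoryStruct_comp_base, CoGrothendieck.categoryStruct_comp_base, hρb, hα]
        exact congrArg (fun z => z.left) hwa
      · simp only [Category.assoc, F]
        rw [bcLift_homLift, reassoc_of% hαF, ← bcLift_homLift, reassoc_of% hρ]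
        exact hπ
    have hc : βt.1.hom ≫ α.1.hom = α.1.hom ≫ βt.1.hom := by
      rw [← mul_hom, ← mul_hom, hcα.eq]
    calc π₁ ≫ β.1.hom ≫ F = ρ ≫ βt.1.hom ≫ ThetaGrp.bcLift A _ t ≫ F := by
          rw [← hρ, Category.assoc, ← reassoc_of% hβbc]
      _ = ρ ≫ α.1.hom ≫ βt.1.hom ≫ ThetaGrp.bcLift A _ t ≫ F := by
          simp only [F, bcLift_homLift]
          rw [← reassoc_of% hc, reassoc_of% hαF]
      _ = π₂ ≫ β.1.hom ≫ F := by
          rw [← hπ₂, Category.assoc, Category.assoc, ← reassoc_of% hβbc]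
  obtain ⟨ψ, hψb, hψ⟩ := exists_descend F hinvM hinvM (β.1.hom ≫ F) _ hhor hinv
  haveI : IsIso β.1.hom.fiber := ThetaLib.isIso_fiber β.1
  haveI hF : IsIso ((ThetaGrp.modPF.map F.base.op.toLoc).toFunctor.map ψ.fiber) := by
    have h1 : IsIso (F ≫ ψ).fiber := by rw [hψ]; exact isIso_comp_fiber _ _
    rw [CoGrothendieck.categoryStruct_comp_fiber] at h1
    haveI := h1
    haveI := ((Cat.Hom.toNatIso (ThetaGrp.modPF.mapComp ψ.base.op.toLoc F.base.op.toLoc)).symm.app
      (ThetaGrp.thetaObj B M T).fiber).isIso_hom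
    exact @IsIso.of_isIso_comp_right _ _ _ _ _ _ _ this
      (@IsIso.of_isIso_comp_left _ _ _ _ _ F.fiber _ inferInstance h1)
  haveI : IsIso ψ.fiber := @Desc19b.QFpqc.isIso_of_isIso_pullback _ _ F.base _ _ _ _ ψ.fiber hF
  haveI : IsIso ψ.base := by rw [hψb]; exact Functor.map_isIso (Over.forget _) (ThetaGrp.transl B (x ≫ f))
  haveI := ThetaLib.isIso_of_base_fiber ψ
  exact ⟨⟨asIso ψ, x ≫ f, hψb⟩, hψb⟩

end hom

section glue

/-- Membership in a closed subobject is local. -/
theorem exists_factor_of_opens {S : Scheme.{u}} {X K T : Over S} (i : K ⟶ X) [IsClosedImmersion i.left] (x : T ⟶ X)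
    (h : ∀ p : T.left, ∃ U : T.left.Opens, p ∈ U ∧ ∃ y : Over.mk (U.ι ≫ T.hom) ⟶ K, y ≫ i = Over.homMk U.ι ≫ x) :
    ∃ y : T ⟶ K, y ≫ i = x := by
  choose U hU y hy using h
  have hcov : iSup U = ⊤ := top_le_iff.1 fun p _ => TopologicalSpace.Opens.mem_iSup.2 ⟨p, hU p⟩
  let 𝒰 := T.left.openCoverOfIsOpenCover U hcov
  have hy' : ∀ p, (y p).left ≫ i.left = (U p).ι ≫ x.left := fun p => congrArg (fun z => z.left) (hy p)
  have hcomp : ∀ a b, pullback.fst (𝒰.f a) (𝒰.f b) ≫ (y a).left = pullback.snd (𝒰.f a) (𝒰.f b) ≫ (y b).left := by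
    intro a b
    rw [← cancel_mono i.left, Category.assoc, Category.assoc]
    refine (congrArg (_ ≫ ·) (hy' a)).trans (Eq.trans ?_ (congrArg (_ ≫ ·) (hy' b)).symm)
    exact pullback.condition_assoc _
  have hl : 𝒰.glueMorphisms (fun a => (y a).left) hcomp ≫ i.left = x.left := by
    refine 𝒰.hom_ext _ _ fun a => ?_
    exact (Category.assoc _ _ _).symm.trans ((congrArg (· ≫ i.left) (𝒰.ι_glueMorphisms _ hcomp a)).trans (hy' a))
  refine ⟨Over.homMk (𝒰.glueMorphisms (fun a => (y a).left) hcomp) ?_, Over.OverMorphism.ext hl⟩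
  rw [← Over.w i, ← Category.assoc, hl, Over.w x]

end glue

end Groth.Agent.ThetaLib
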