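import Groth.Agent.HopfQuot.Basic
import Mathlib.LinearAlgebra.Eigenspace.Triangularizable
import Mathlib.RingTheory.TensorProduct.Maps
import Mathlib.LinearAlgebra.Basis.VectorSpace
import Mathlib.RingTheory.Artinian.Module

/-!
# Symmetric two-cocycles with values in units split over algebraically closed fields

For a finite commutative group scheme `Spec R` over an algebraically closed field, a normalised
symmetric two-cocycle with values in `𝔾_m` is a coboundary: a common eigenvector of the twisted
translation operators on `R` gives the cochain.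
-/

set_option autoImplicit false
set_option linter.style.haveILetI false

noncomputable section

universe u

open TensorProduct WithConv

namespace Groth.Agent.ThetaLib

/-- A commuting family of endomorphisms of a nonzero finite-dimensional space over an algebraically closed
field has a common eigenvector. -/
theorem exists_common_eigenvector {K V ι : Type*} [Field K] [IsAlgClosed K] [AddCommGroup V] [Module K V]
    [FiniteDimensional K V] [Nontrivial V] (L : ι → Module.End K V) (hL : ∀ i j, Commute (L i) (L j)) :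
    ∃ v : V, v ≠ 0 ∧ ∃ c : ι → K, ∀ i, L i v = c i • v := by
  let S : Set (Submodule K V) := {W | W ≠ ⊥ ∧ ∀ i, ∀ w ∈ W, L i w ∈ W}
  obtain ⟨W, ⟨hW0, hWs⟩, hmin⟩ := wellFounded_lt.has_min S ⟨⊤, top_ne_bot, fun _ _ _ => trivial⟩
  have key : ∀ i, ∃ c : K, ∀ w ∈ W, L i w = c • w := by
    intro i
    haveI : Nontrivial W := Submodule.nontrivial_iff_ne_bot.2 hW0
    obtain ⟨c, hc⟩ := Module.End.exists_eigenvalue ((L i).restrict (hWs i))
    obtain ⟨⟨w, hw⟩, hw'⟩ := hc.exists_hasEigenvector
    let W' : Submodule K V := W ⊓ LinearMap.ker (L i - c • LinearMap.id)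
    have hW' : W' ∈ S := by
      refine ⟨?_, fun j z hz => ?_⟩
      · refine (Submodule.ne_bot_iff _).2 ⟨w, ⟨hw, ?_⟩, fun e => hw'.2 (Subtype.ext e)⟩
        rw [SetLike.mem_coe, LinearMap.mem_ker, LinearMap.sub_apply, LinearMap.smul_apply, LinearMap.id_apply,
          sub_eq_zero]
        exact congrArg Subtype.val hw'.apply_eq_smul
      · refine ⟨hWs j z hz.1, ?_⟩
        have h2 := hz.2
        rw [SetLike.mem_coe, LinearMap.mem_ker, LinearMap.sub_apply, LinearMap.smul_apply, LinearMap.id_apply,
          sub_eq_zero] at h2 ⊢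
        calc L i (L j z) = (L i * L j) z := rfl
          _ = (L j * L i) z := by rw [(hL i j).eq]
          _ = c • L j z := by rw [Module.End.mul_apply, h2, map_smul]
    have hle : W' = W := by
      by_contra hne
      exact hmin W' hW' (lt_of_le_of_ne inf_le_left hne)
    refine ⟨c, fun z hz => ?_⟩
    have h : z ∈ W' := hle.symm ▸ hz
    have h2 := h.2
    rwa [SetLike.mem_coe, LinearMap.mem_ker, LinearMap.sub_apply, LinearMap.smul_apply, LinearMap.id_apply,
      sub_eq_zero] at h2
  choose c hc using key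
  obtain ⟨v, hv, hv0⟩ := (Submodule.ne_bot_iff _).1 hW0
  exact ⟨v, hv0, c, fun i => hc i v hv⟩

variable {k : Type u} [Field k] {R : Type u} [CommRing R] [HopfAlgebra k R]

open Groth.Agent.HopfQuot

/-- The pair of two points, as a point of `Spec (R ⊗ R)`. -/
abbrev pairPt {T : Type u} [CommRing T] [Algebra k T] (g h : Pt k R T) : R ⊗[k] R →ₐ[k] T :=
  Algebra.TensorProduct.lift g.ofConv h.ofConv fun _ _ => .all ..

theorem comp_pairPt {T T' : Type u} [CommRing T] [Algebra k T] [CommRing T'] [Algebra k T'] (φ : T →ₐ[k] T')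
    (g h : Pt k R T) : φ.comp (pairPt g h) = pairPt (push φ g) (push φ h) := by
  refine Algebra.TensorProduct.ext' fun a b => ?_
  simp

/-- `φ ⊗ id`. -/
def evFst {M : Type u} [AddCommGroup M] [Module k M] (φ : Module.Dual k R) : R ⊗[k] M →ₗ[k] M :=
  (TensorProduct.lid k M).toLinearMap ∘ₗ TensorProduct.map φ LinearMap.id

theorem evFst_tmul {M : Type u} [AddCommGroup M] [Module k M] (φ : Module.Dual k R) (a : R) (m : M) :
    evFst φ (a ⊗ₜ[k] m) = φ a • m := by
  simp [evFst]

theorem map_evFst {M N : Type u} [AddCommGroup M] [Module k M] [AddCommGroup N] [Module k N] (φ : Module.Dual k R)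
    (f : M →ₗ[k] N) (x : R ⊗[k] M) : f (evFst φ x) = evFst φ (TensorProduct.map LinearMap.id f x) := by
  induction x with
  | zero => simp
  | tmul a m => simp [evFst_tmul]
  | add x y hx hy => simp [hx, hy]

variable [FiniteDimensional k R]

theorem evFst_ext {M : Type u} [AddCommGroup M] [Module k M] {x y : R ⊗[k] M}
    (h : ∀ φ : Module.Dual k R, evFst φ x = evFst φ y) : x = y := by
  let b := Module.finBasis k R
  have e : ∀ z : R ⊗[k] M, z = ∑ i, b i ⊗ₜ[k] evFst (b.coord i) z := fun z => by
    induction z with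
    | zero => simp
    | tmul a m =>
      simp only [evFst_tmul, tmul_smul, smul_tmul', ← TensorProduct.sum_tmul, Module.Basis.coord_apply]
      rw [b.sum_repr]
    | add x y hx hy => simp only [map_add, tmul_add, Finset.sum_add_distrib, ← hx, ← hy]
  rw [e x, e y]
  simp only [h]

/-- A normalised symmetric cocycle on a finite commutative group scheme over an algebraically closed field is a
coboundary. -/
theorem exists_split [IsAlgClosed k] (c₀ : R ⊗[k] R)
    (hcomm : ∀ (T : Type u) [CommRing T] [Algebra k T] (g h : Pt k R T), g * h = h * g)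
    (hsym : ∀ (T : Type u) [CommRing T] [Algebra k T] (g h : Pt k R T), pairPt g h c₀ = pairPt h g c₀)
    (hcoc : ∀ (T : Type u) [CommRing T] [Algebra k T] (g h l : Pt k R T),
      pairPt g h c₀ * pairPt (g * h) l c₀ = pairPt h l c₀ * pairPt g (h * l) c₀)
    (hone : ∀ (T : Type u) [CommRing T] [Algebra k T] (h : Pt k R T), pairPt 1 h c₀ = 1)
    (hunit : ∀ (T : Type u) [CommRing T] [Algebra k T] (g h : Pt k R T), IsUnit (pairPt g h c₀)) :
    ∃ r : R, IsUnit r ∧ ∀ (T : Type u) [CommRing T] [Algebra k T] (g h : Pt k R T),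
      pairPt g h c₀ * (g * h).ofConv r = g.ofConv r * h.ofConv r := by
  haveI : Nontrivial R := ⟨0, 1, fun h => zero_ne_one (α := k) (by
    simpa using congrArg (CoalgebraStruct.counit (R := k) (A := R)) h)⟩
  -- the twisted comultiplication
  let D : R →ₗ[k] R ⊗[k] R := LinearMap.mulLeft k c₀ ∘ₗ CoalgebraStruct.comul
  have hD : ∀ {T : Type u} [CommRing T] [Algebra k T] (g h : Pt k R T) (v : R),
      pairPt g h (D v) = pairPt g h c₀ * (g * h).ofConv v := fun g h v => by
    rw [mul_apply]
    exact map_mul _ _ _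
  -- the three universal points
  let Q := R ⊗[k] (R ⊗[k] R)
  let g₁ : Pt k R Q := toConv Algebra.TensorProduct.includeLeft
  let g₂ : Pt k R Q :=
    toConv (Algebra.TensorProduct.includeRight.comp Algebra.TensorProduct.includeLeft)
  let g₃ : Pt k R Q :=
    toConv (Algebra.TensorProduct.includeRight.comp Algebra.TensorProduct.includeRight)
  have hDD : ∀ x : R ⊗[k] R, TensorProduct.map LinearMap.id D x =
      pairPt g₂ g₃ c₀ * pairPt g₁ (g₂ * g₃) x := by
    intro x
    induction x with
    | zero => simp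
    | tmul a b =>
      have h23 : pairPt g₂ g₃ = (Algebra.TensorProduct.includeRight : R ⊗[k] R →ₐ[k] Q) := by
        refine Algebra.TensorProduct.ext' fun p q => ?_
        simp [g₂, g₃, Q]
      rw [TensorProduct.map_tmul, Algebra.TensorProduct.lift_tmul, mul_apply]
      change _ = pairPt g₂ g₃ c₀ * (g₁.ofConv a * pairPt g₂ g₃ _)
      rw [h23, mul_left_comm, ← map_mul]
      simp [g₁, Q, D]
    | add x y hx hy => simp [hx, hy, mul_add]
  let L : Module.Dual k R → Module.End k R := fun φ => evFst φ ∘ₗ D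
  let τ : R ⊗[k] (R ⊗[k] R) →ₐ[k] R ⊗[k] (R ⊗[k] R) := Algebra.TensorProduct.lift g₂.ofConv (pairPt g₁ g₃) fun _ _ => .all ..
  have hev : ∀ (φ ψ : Module.Dual k R) (x : R ⊗[k] (R ⊗[k] R)), evFst φ (evFst ψ x) = evFst ψ (evFst φ (τ x)) := by
    intro φ ψ x
    induction x with
    | zero => simp
    | tmul a y =>
      induction y with
      | zero => simp
      | tmul b d =>
        simp [τ, g₁, g₂, g₃, Q, evFst_tmul, smul_smul, mul_comm]
      | add x y hx hy => simp only [tmul_add, map_add, hx, hy]
    | add x y hx hy => simp [hx, hy]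
  have hLL : ∀ φ ψ, Commute (L φ) (L ψ) := by
    intro φ ψ
    refine LinearMap.ext fun v => ?_
    show evFst φ (D (evFst ψ (D v))) = evFst ψ (D (evFst φ (D v)))
    rw [map_evFst, map_evFst φ D, hev φ ψ]
    refine congrArg (fun z => evFst ψ (evFst φ z)) ?_
    have e1 : push τ g₁ = g₂ := WithConv.ext (AlgHom.ext fun a => by simp [τ, g₁, g₂, Q, Algebra.TensorProduct.one_def])
    have e2 : push τ g₂ = g₁ := WithConv.ext (AlgHom.ext fun a => by simp [τ, g₁, g₂, g₃, Q, Algebra.TensorProduct.one_def])
    have e3 : push τ g₃ = g₃ := WithConv.ext (AlgHom.ext fun a => by simp [τ, g₁, g₂, g₃, Q, Algebra.TensorProduct.one_def])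
    rw [hDD, map_mul, ← AlgHom.comp_apply, ← AlgHom.comp_apply, comp_pairPt, comp_pairPt, map_mul, e1, e2, e3, hD, hD]
    simp only [← _root_.mul_assoc]
    rw [← hcoc Q g₂ g₁ g₃, ← hcoc Q g₁ g₂ g₃, hcomm Q g₂ g₁, hsym Q g₂ g₁]
  obtain ⟨v, hv0, lam, hlam⟩ := exists_common_eigenvector L hLL
  obtain ⟨θ, hθ⟩ : ∃ θ : Module.Dual k R, θ v = 1 := by
    obtain ⟨i, hi⟩ : ∃ i, (Module.finBasis k R).repr v i ≠ 0 := by
      by_contra h
      exact hv0 ((Module.finBasis k R).ext_elem fun i => by simpa using not_exists_not.1 h i)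
    exact ⟨((Module.finBasis k R).repr v i)⁻¹ • (Module.finBasis k R).coord i,
      by simp [Module.Basis.coord_apply, hi]⟩
  let r₀ : R := (TensorProduct.rid k R).toLinearMap (TensorProduct.map LinearMap.id θ (D v))
  have hr₀ : ∀ φ : Module.Dual k R, φ r₀ = lam φ := fun φ => by
    have h : ∀ x : R ⊗[k] R, φ ((TensorProduct.rid k R).toLinearMap (TensorProduct.map LinearMap.id θ x)) =
        θ (evFst φ x) := fun x => by
      induction x with
      | zero => simp
      | tmul a b => simp [evFst_tmul, mul_comm]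
      | add x y hx hy => simp only [map_add, hx, hy]
    rw [h, show evFst φ (D v) = lam φ • v from hlam φ, map_smul, hθ, smul_eq_mul, mul_one]
  have hDv : D v = r₀ ⊗ₜ[k] v := evFst_ext fun φ => by rw [evFst_tmul, hr₀]; exact hlam φ
  have hpt : ∀ {T : Type u} [CommRing T] [Algebra k T] (g h : Pt k R T),
      pairPt g h c₀ * (g * h).ofConv v = g.ofConv r₀ * h.ofConv v := fun g h => by
    rw [← hD, hDv, Algebra.TensorProduct.lift_tmul]
  let ε : R →ₗ[k] k := CoalgebraStruct.counit
  have h1 := hpt (1 : Pt k R R) (idPt k R)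
  rw [hone, _root_.one_mul, _root_.one_mul, one_apply] at h1
  have hεr : ε r₀ = 1 := by
    have h1' : v = algebraMap k R (ε r₀) * v := h1
    rw [← Algebra.smul_def] at h1'
    exact smul_left_injective k hv0 (h1'.symm.trans (one_smul k v).symm)
  have h2 := hpt (idPt k R) (1 : Pt k R R)
  rw [hsym, hone, _root_.one_mul, _root_.mul_one, one_apply] at h2
  have h2' : v = r₀ * algebraMap k R (ε v) := h2
  have hεv : ε v ≠ 0 := fun e => hv0 (by rw [h2', e, map_zero, mul_zero])
  have key : ∀ {T : Type u} [CommRing T] [Algebra k T] (g h : Pt k R T),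
      pairPt g h c₀ * (g * h).ofConv r₀ = g.ofConv r₀ * h.ofConv r₀ := fun {T} _ _ g h => by
    have hu : IsUnit (algebraMap k T (ε v)) := (isUnit_iff_ne_zero.2 hεv).map _
    refine hu.mul_right_cancel ?_
    have := hpt g h
    rw [h2', map_mul, map_mul, AlgHom.commutes, AlgHom.commutes] at this
    rw [_root_.mul_assoc, _root_.mul_assoc]
    exact this
  refine ⟨r₀, ?_, fun T _ _ g h => key g h⟩
  let g := idPt k R
  have h3 := key g g⁻¹
  rw [mul_inv_cancel, one_apply, show CoalgebraStruct.counit (R := k) r₀ = (1 : k) from hεr, map_one,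
    _root_.mul_one] at h3
  have : IsUnit (g.ofConv r₀ * g⁻¹.ofConv r₀) := h3 ▸ hunit R g g⁻¹
  exact (isUnit_of_mul_isUnit_left this :)

end Groth.Agent.ThetaLib
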