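import Groth.Agent.ThetaLib.Rep
import Groth.Agent.ThetaLib.TwistSplit
import Groth.Agent.HopfQuot.SchemeQuot

/-!
# A totally isotropic finite subgroup of `K(L)` lifts to a level subgroup
-/

set_option autoImplicit false
set_option backward.isDefEq.respectTransparency.types false
set_option linter.style.haveILetI false
set_option linter.unusedSectionVars false
set_option maxHeartbeats 800000

universe u

open CategoryTheory CategoryTheory.Limits MonoidalCategory CartesianMonoidalCategory MonObj AlgebraicGeometry Opposite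
open WithConv TensorProduct
open Groth.Agent.HopfQuot

namespace Groth.Agent.ThetaLib

variable {k : Type u} [Field k] {A : Over (Spec (CommRingCat.of k))} [GrpObj A] {L : A.left.Modules}

theorem scalPt_mul {T : Over (Spec (CommRingCat.of k))} (r s : Γ(T.left, ⊤)ˣ) :
    scalPt L (r * s) = scalPt L r * scalPt L s := by
  refine pts_hom_ext ?_
  rw [mul_hom, scalPt_hom, scalPt_hom, scalPt_hom, scalT_comp, Units.val_mul]

theorem scalPt_one {T : Over (Spec (CommRingCat.of k))} : scalPt L (1 : Γ(T.left, ⊤)ˣ) = 1 := by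
  refine pts_hom_ext ?_
  rw [scalPt_hom, Units.val_one, scalT_one]
  rfl

theorem tpt_one {T : Over (Spec (CommRingCat.of k))} : tpt (1 : ThetaGrp.thetaPts A L T) = 1 := by
  rw [← scalPt_one, tpt_scalPt]

theorem res_one {T W : Over (Spec (CommRingCat.of k))} (t : W ⟶ T) :
    res t (1 : ThetaGrp.thetaPts A L T) = 1 :=
  left_eq_mul.1 ((congrArg (res t) (_root_.mul_one (1 : ThetaGrp.thetaPts A L T)).symm).trans (res_mul t 1 1))

theorem res_inv {T W : Over (Spec (CommRingCat.of k))} (t : W ⟶ T) (α : ThetaGrp.thetaPts A L T) :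
    res t α⁻¹ = (res t α)⁻¹ :=
  eq_inv_of_mul_eq_one_left (by rw [← res_mul, inv_mul_cancel, res_one])

/-- Two points with empty source are equal. -/
theorem pts_ext_empty (hL : PicF.IsInvertible L) {W : Over (Spec (CommRingCat.of k))} [IsEmpty W.left]
    (α β : ThetaGrp.thetaPts A L W) : α = β :=
  pts_ext_cover (κ := PEmpty.{u + 1}) (U := fun e => nomatch e) (fun e => nomatch e)
    (hcov := fun p => isEmptyElim p) hL fun e => nomatch e

variable [IsProper A.hom] [GeometricallyIntegral A.hom]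

/-- Over a finite discrete source, a point of `K(L)` lifts to `G(L)`. -/
theorem exists_pt_of_discrete (hL : PicF.IsInvertible L) {K : Over (Spec (CommRingCat.of k))} {iK : K ⟶ A}
    (hK : ThetaGrp.IsKL A L iK) {T : Over (Spec (CommRingCat.of k))} [DiscreteTopology T.left] {x : T ⟶ A}
    (hx : ∃ y : T ⟶ K, y ≫ iK = x) : ∃ α : ThetaGrp.thetaPts A L T, tpt α = x := by
  obtain ⟨m, hm⟩ := (KLLib.factors_iff hK hL x).1 hx
  let U : T.left → T.left.Opens := fun t => ⟨{t}, isOpen_discrete _⟩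
  let W : T.left → Over (Spec (CommRingCat.of k)) := fun t => Over.mk ((U t).ι ≫ T.hom)
  let v : ∀ t, W t ⟶ T := fun t => Over.homMk (U t).ι rfl
  haveI : ∀ t, IsOpenImmersion (v t).left := fun t => inferInstanceAs (IsOpenImmersion (U t).ι)
  have hcov : ∀ p : T.left, ∃ t, p ∈ Set.range (v t).left := fun p => ⟨p, ⟨p, rfl⟩, rfl⟩
  have hloc : ∀ t, ∃ β : ThetaGrp.thetaPts A L (W t), tpt β = v t ≫ x := fun t => by
    obtain ⟨V, htV, hV⟩ := exists_open_pull_eq_one m t
    have hle : U t ≤ V := fun p hp => by rw [show p = t from hp]; exact htV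
    have h := translates_comp hm (v t)
    rw [show (v t).left = T.left.homOfLE hle ≫ V.ι from (Scheme.homOfLE_ι _ hle).symm, ← PicLib.PicM.pull_pull, hV,
      map_one] at h
    obtain ⟨β, hβ⟩ := (exists_overPt_iff hL _).2 h
    exact ⟨β, tpt_eq hβ⟩
  choose β hβ using hloc
  obtain ⟨α, hα⟩ := exists_glue v hcov hL β fun t t' V p q h => by
    by_cases e : t = t'
    · subst e
      haveI : Mono (v t) := Over.mono_of_mono_left _
      rw [(cancel_mono (v t)).1 h]
    · haveI : IsEmpty V.left := ⟨fun z => e (by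
        have h1 : (p.left ≫ (U t).ι) z = (q.left ≫ (U t').ι) z := congrArg (fun f => f.left z) h
        have a : (U t).ι (p.left z) = t := (p.left z).2
        have b : (U t').ι (q.left z) = t' := (q.left z).2
        exact a.symm.trans (h1.trans b))⟩
      exact pts_ext_empty hL _ _
  refine ⟨α, Over.OverMorphism.ext (Scheme.Cover.hom_ext (T.left.openCoverOfIsOpenCover U
    (top_le_iff.1 fun p _ => TopologicalSpace.Opens.mem_iSup.2 ⟨p, rfl⟩)) _ _ fun t => ?_)⟩
  have e := hβ t
  rw [← hα t, tpt_res] at e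
  exact congrArg (fun f => f.left) e

variable [IsCommMonObj A]

/-- A normalised lift. -/
theorem exists_normalised {N : Over (Spec (CommRingCat.of k))} [GrpObj N] (i : N ⟶ A) [IsMonHom i]
    {σ₀ : ThetaGrp.thetaPts A L N} (hσ₀ : tpt σ₀ = i) :
    ∃ σ : ThetaGrp.thetaPts A L N, tpt σ = i ∧ ∀ T : Over (Spec (CommRingCat.of k)), res (1 : T ⟶ N) σ = 1 := by
  let e₀ := res (1 : 𝟙_ (Over (Spec (CommRingCat.of k))) ⟶ N) σ₀
  refine ⟨σ₀ * (res (toUnit N) e₀)⁻¹, ?_, fun T => ?_⟩
  · rw [tpt_mul, tpt_inv, tpt_res, tpt_res, hσ₀, MonObj.one_comp, MonObj.comp_one, inv_one, _root_.one_mul]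
  · have h : res (1 : 𝟙_ (Over (Spec (CommRingCat.of k))) ⟶ N) (σ₀ * (res (toUnit N) e₀)⁻¹) = 1 := by
      have e : res (1 : 𝟙_ (Over (Spec (CommRingCat.of k))) ⟶ N) (res (toUnit N) e₀)⁻¹ = e₀⁻¹ := by
        rw [res_inv, res_res, toUnit_unique (1 ≫ toUnit N) (𝟙 _), res_id]
      rw [res_mul, e, mul_inv_cancel]
    rw [show (1 : T ⟶ N) = toUnit T ≫ 1 from (MonObj.comp_one _).symm, ← res_res, h]
    exact res_one _

/-- The cocycle of a normalised lift of an isotropic subgroup. -/
theorem exists_cocycle (hL : PicF.IsInvertible L) {N : Over (Spec (CommRingCat.of k))} [GrpObj N] (i : N ⟶ A)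
    [IsMonHom i] [Mono i] (hiso : ThetaGrp.IsIsotropic L i) {σ : ThetaGrp.thetaPts A L N} (hσ : tpt σ = i)
    (hσ1 : ∀ T : Over (Spec (CommRingCat.of k)), res (1 : T ⟶ N) σ = 1) :
    ∃ cc : ∀ {T : Over (Spec (CommRingCat.of k))}, (T ⟶ N) → (T ⟶ N) → Γ(T.left, ⊤)ˣ,
      (∀ {T : Over (Spec (CommRingCat.of k))} (a b : T ⟶ N),
        res a σ * res b σ = scalPt L (cc a b) * res (a * b) σ) ∧
      (∀ {T T' : Over (Spec (CommRingCat.of k))} (t : T' ⟶ T) (a b : T ⟶ N),
        cc (t ≫ a) (t ≫ b) = Units.map t.left.appTop.hom.toMonoidHom (cc a b)) ∧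
      (∀ {T : Over (Spec (CommRingCat.of k))} (a b : T ⟶ N), cc a b = cc b a) ∧
      (∀ {T : Over (Spec (CommRingCat.of k))} (a b c : T ⟶ N), cc a b * cc (a * b) c = cc b c * cc a (b * c)) ∧
      (∀ {T : Over (Spec (CommRingCat.of k))} (b : T ⟶ N), cc 1 b = 1) ∧
      (∀ {T : Over (Spec (CommRingCat.of k))} (a b : T ⟶ N), a * b = b * a) := by
  have hcentral : ∀ {T : Over (Spec (CommRingCat.of k))} (r : Γ(T.left, ⊤)ˣ) (β : ThetaGrp.thetaPts A L T),
      scalPt L r * β = β * scalPt L r := fun r β => (commute_of_overPt_one hL (isOverPt_scalPt r) β).eq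
  have hex : ∀ (T : Over (Spec (CommRingCat.of k))) (a b : T ⟶ N),
      ∃ c : Γ(T.left, ⊤)ˣ, res a σ * res b σ = scalPt L c * res (a * b) σ := fun T a b => by
    obtain ⟨c, hc⟩ := exists_eq_scalPt hL (c := res a σ * res b σ * (res (a * b) σ)⁻¹) (by
      rw [tpt_mul, tpt_mul, tpt_inv, tpt_res, tpt_res, tpt_res, hσ, MonObj.mul_comp, mul_comm (b ≫ i),
        inv_mul_cancel])
    exact ⟨c, by rw [← hc, inv_mul_cancel_right]⟩
  choose cc hcc using hex
  have huniq : ∀ {T : Over (Spec (CommRingCat.of k))} {a b : T ⟶ N} {c : Γ(T.left, ⊤)ˣ},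
      res a σ * res b σ = scalPt L c * res (a * b) σ → cc T a b = c := fun h =>
    scalPt_injective hL (mul_right_cancel ((hcc _ _ _).symm.trans h))
  have hcomm : ∀ {T : Over (Spec (CommRingCat.of k))} (a b : T ⟶ N), a * b = b * a := fun a b =>
    (cancel_mono i).1 (by rw [MonObj.mul_comp, MonObj.mul_comp, mul_comm])
  refine ⟨fun {T} => cc T, fun a b => hcc _ a b, fun t a b => huniq (by
    rw [← res_res, ← res_res, ← res_mul, hcc, res_mul, res_scalPt, res_res, MonObj.comp_mul]),
    fun {T} a b => huniq (by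
      rw [hiso T a b (res a σ) (res b σ) (by rw [← hσ, ← tpt_res]; exact isOverPt_tpt _)
        (by rw [← hσ, ← tpt_res]; exact isOverPt_tpt _), hcc, hcomm]),
    fun {T} a b c => ?_, fun {T} b => huniq (by
      rw [hσ1, scalPt_one, _root_.one_mul, _root_.one_mul, _root_.one_mul]), hcomm⟩
  refine scalPt_injective hL (mul_right_cancel (b := res (a * b * c) σ) ?_)
  calc scalPt L (cc T a b * cc T (a * b) c) * res (a * b * c) σ
      = scalPt L (cc T a b) * (res (a * b) σ * res c σ) := by rw [hcc, scalPt_mul, _root_.mul_assoc]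
    _ = res a σ * (res b σ * res c σ) := by rw [← _root_.mul_assoc, ← hcc, _root_.mul_assoc]
    _ = scalPt L (cc T b c) * (res a σ * res (b * c) σ) := by
        rw [hcc, ← _root_.mul_assoc, ← hcentral, _root_.mul_assoc]
    _ = scalPt L (cc T b c * cc T a (b * c)) * res (a * b * c) σ := by
        rw [hcc, scalPt_mul, _root_.mul_assoc (scalPt L (cc T b c)), _root_.mul_assoc a]

/-- An affine test scheme. -/
noncomputable abbrev specT (T : Type u) [CommRing T] [Algebra k T] : Over (Spec (CommRingCat.of k)) :=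
  (Spec (CommRingCat.of T)).asOver (Spec (CommRingCat.of k))

/-- The value ring of functions on an affine test scheme. -/
noncomputable def γT (T : Type u) [CommRing T] [Algebra k T] :
    Γ((specT (k := k) T).left, ⊤) ≅ CommRingCat.of T :=
  Scheme.ΓSpecIso (CommRingCat.of T)

variable {R : Type u} [CommRing R] [HopfAlgebra k R]

theorem exists_isotropic_lift_spec [IsAlgClosed k] [FiniteDimensional k R] (hL : PicF.IsInvertible L)
    {K : Over (Spec (CommRingCat.of k))} {iK : K ⟶ A} (hK : ThetaGrp.IsKL A L iK)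
    (i : spec (k := k) R ⟶ A) [IsMonHom i] [Mono i] (hy : ∃ y, y ≫ iK = i) (hiso : ThetaGrp.IsIsotropic L i) :
    ∃ ρ : ThetaGrp.thetaPts A L (spec (k := k) R), tpt ρ = i ∧
      ∀ (T : Over (Spec (CommRingCat.of k))) (a b : T ⟶ spec (k := k) R), res (a * b) ρ = res a ρ * res b ρ := by
  haveI : IsArtinianRing R := isArtinian_of_tower k (inferInstance : IsArtinian k R)
  haveI : DiscreteTopology (spec (k := k) R).left := inferInstanceAs (DiscreteTopology (PrimeSpectrum R))
  obtain ⟨σ₀, hσ₀⟩ := exists_pt_of_discrete hL hK hy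
  obtain ⟨σ, hσ, hσ1⟩ := exists_normalised i hσ₀
  obtain ⟨cc, hcc, hnat, hsym, hcoc, hone, hcomm⟩ := exists_cocycle hL i hiso hσ hσ1
  have hcentral : ∀ {T : Over (Spec (CommRingCat.of k))} (r : Γ(T.left, ⊤)ˣ) (β : ThetaGrp.thetaPts A L T),
      scalPt L r * β = β * scalPt L r := fun r β => (commute_of_overPt_one hL (isOverPt_scalPt r) β).eq
  -- pass to algebras
  let P : ∀ {T : Type u} [CommRing T] [Algebra k T], Pt k R T → (specT (k := k) T ⟶ spec (k := k) R) :=
    fun {T} _ _ g => ptSpec (k := k) (A := R) g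
  let C : ∀ {T : Type u} [CommRing T] [Algebra k T], Pt k R T → Pt k R T → T :=
    fun {T} _ _ g h => (γT (k := k) T).hom (cc (P g) (P h) :)
  let iL : Pt k R (R ⊗[k] R) := toConv Algebra.TensorProduct.includeLeft
  let iR : Pt k R (R ⊗[k] R) := toConv Algebra.TensorProduct.includeRight
  let c₀ : R ⊗[k] R := C iL iR
  have hC : ∀ (T : Type u) [CommRing T] [Algebra k T] (g h : Pt k R T), C g h = pairPt g h c₀ := by
    intro T _ _ g h
    let φ := pairPt g h
    let t : specT (k := k) T ⟶ specT (k := k) (R ⊗[k] R) :=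
      Over.homMk (Spec.map (CommRingCat.ofHom φ.toRingHom)) (by
        show Spec.map _ ≫ Spec.map _ = Spec.map _
        rw [← Spec.map_comp]
        congr 1
        ext x
        exact φ.commutes x)
    have hp : ∀ (p : Pt k R (R ⊗[k] R)), t ≫ P p = P (push φ p) := fun p => Over.OverMorphism.ext (by
      show Spec.map _ ≫ Spec.map _ = Spec.map _
      rw [← Spec.map_comp]
      rfl)
    have e1 : push φ iL = g := WithConv.ext (AlgHom.ext fun a => by simp [φ, iL])
    have e2 : push φ iR = h := WithConv.ext (AlgHom.ext fun a => by simp [φ, iR])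
    have e := congrArg Units.val (hnat t (P iL) (P iR))
    rw [hp, hp, e1, e2] at e
    show (γT (k := k) T).hom (cc (P g) (P h) :) = φ (C iL iR)
    rw [e]
    exact congr($(Scheme.ΓSpecIso_naturality (CommRingCat.ofHom φ.toRingHom)) _)
  have hPmul : ∀ (T : Type u) [CommRing T] [Algebra k T] (g h : Pt k R T), P (g * h) = P g * P h :=
    fun T _ _ g h => map_mul (ptSpec (k := k) (A := R) (T := T)) g h
  obtain ⟨r, hru, hr⟩ := exists_split (k := k) (R := R) c₀
    (fun T _ _ g h => (ptSpec (k := k) (A := R) (T := T)).injective (by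
      rw [map_mul, map_mul]; exact hcomm _ _))
    (fun T _ _ g h => by
      rw [← hC, ← hC]
      show (γT (k := k) T).hom (cc (P g) (P h) :) = (γT (k := k) T).hom (cc (P h) (P g) :)
      rw [hsym])
    (fun T _ _ g h l => by
      rw [← hC, ← hC, ← hC, ← hC]
      have e := congrArg (fun z => (γT (k := k) T).hom (Units.val z)) (hcoc (P g) (P h) (P l))
      simp only [Units.val_mul, map_mul, ← hPmul] at e
      exact e)
    (fun T _ _ h => by
      rw [← hC]
      show (γT (k := k) T).hom (cc (P 1) (P h) :) = 1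
      rw [show P (1 : Pt k R T) = 1 from map_one (ptSpec (k := k) (A := R) (T := T)), hone, Units.val_one, map_one])
    (fun T _ _ g h => by
      rw [← hC]
      exact (Units.isUnit _).map (γT (k := k) T).hom.hom)
  let ρ₀ : Γ((spec (k := k) R).left, ⊤)ˣ := (hru.map (γT (k := k) R).inv.hom).unit
  let ρ := σ * scalPt L ρ₀⁻¹
  -- the universal pair
  let Y := specT (k := k) (R ⊗[k] R)
  have hρval : ∀ (T : Type u) [CommRing T] [Algebra k T] (g : Pt k R T),
      (γT (k := k) T).hom ((P g).left.appTop (ρ₀ :)) = g.ofConv r := fun T _ _ g => by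
    refine (congr($(Scheme.ΓSpecIso_naturality (CommRingCat.ofHom g.ofConv.toRingHom)) _)).trans ?_
    show g.ofConv ((γT (k := k) R).hom ((γT (k := k) R).inv r)) = _
    rw [Iso.inv_hom_id_apply]
  have huniv : res (P iL * P iR) ρ = res (P iL) ρ * res (P iR) ρ := by
    let u : ∀ (a : Y ⟶ spec (k := k) R), Γ(Y.left, ⊤)ˣ := fun a => Units.map a.left.appTop.hom.toMonoidHom ρ₀
    have hres : ∀ a : Y ⟶ spec (k := k) R, res a ρ = res a σ * scalPt L (u a)⁻¹ := fun a => by
      rw [res_mul, res_scalPt, map_inv]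
    have hval : cc (P iL) (P iR) * u (P iL * P iR) = u (P iL) * u (P iR) := Units.ext (by
      refine (ConcreteCategory.bijective_of_isIso (γT (k := k) (R ⊗[k] R)).hom).1 ?_
      rw [← hPmul, Units.val_mul, Units.val_mul, map_mul, map_mul]
      refine Eq.trans ?_ ((hr (R ⊗[k] R) iL iR).trans ?_)
      · exact congrArg₂ (· * ·) (hC (R ⊗[k] R) iL iR) (hρval (R ⊗[k] R) (iL * iR))
      · exact congrArg₂ (· * ·) (hρval _ iL).symm (hρval _ iR).symm)
    have hsc : (u (P iL))⁻¹ * (u (P iR))⁻¹ * cc (P iL) (P iR) = (u (P iL * P iR))⁻¹ := by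
      rw [← mul_inv, ← hval, mul_inv, mul_comm (cc (P iL) (P iR))⁻¹, inv_mul_cancel_right]
    rw [hres, hres, hres, _root_.mul_assoc (res (P iL) σ), ← _root_.mul_assoc (scalPt L _) (res (P iR) σ), hcentral,
      ← _root_.mul_assoc, ← _root_.mul_assoc, _root_.mul_assoc _ (scalPt L _) (scalPt L _), ← scalPt_mul, hcc,
      hcentral, _root_.mul_assoc, ← scalPt_mul, mul_comm (cc (P iL) (P iR)), hsc]
  let y : spec (k := k) R ⊗ spec (k := k) R ⟶ Y :=
    Over.homMk (pullbackSpecIso k R R).hom (by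
      show (pullbackSpecIso k R R).hom ≫ Spec.map (CommRingCat.ofHom (algebraMap k (R ⊗[k] R))) =
        pullback.fst _ _ ≫ Spec.map (CommRingCat.ofHom (algebraMap k R))
      rw [← pullbackSpecIso_hom_fst k R R, Category.assoc, ← Spec.map_comp]
      rfl)
  have hy1 : y ≫ P iL = fst _ _ := Over.OverMorphism.ext (pullbackSpecIso_hom_fst k R R)
  have hy2 : y ≫ P iR = snd _ _ := Over.OverMorphism.ext (pullbackSpecIso_hom_snd k R R)
  refine ⟨ρ, by rw [tpt_mul, tpt_scalPt, _root_.one_mul, hσ], fun T a b => ?_⟩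
  have ha : (lift a b ≫ y) ≫ P iL = a := by rw [Category.assoc, hy1, lift_fst]
  have hb : (lift a b ≫ y) ≫ P iR = b := by rw [Category.assoc, hy2, lift_snd]
  have e := congrArg (res (lift a b ≫ y)) huniv
  rwa [res_res, res_mul _ (res (P iL) ρ), res_res, res_res, MonObj.comp_mul, ha, hb] at e

/-- A totally isotropic finite subgroup scheme of `K(L)` lifts to a subgroup of `G(L)`. -/
theorem exists_isotropic_lift [IsAlgClosed k] (hL : PicF.IsInvertible L)
    {K : Over (Spec (CommRingCat.of k))} {iK : K ⟶ A} (hK : ThetaGrp.IsKL A L iK)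
    {N : Over (Spec (CommRingCat.of k))} [GrpObj N] [IsFinite N.hom] (i : N ⟶ A) [IsMonHom i] [Mono i]
    (hy : ∃ y, y ≫ iK = i) (hiso : ThetaGrp.IsIsotropic L i) :
    ∃ ρ : ThetaGrp.thetaPts A L N, tpt ρ = i ∧
      ∀ (T : Over (Spec (CommRingCat.of k))) (a b : T ⟶ N), res (a * b) ρ = res a ρ * res b ρ := by
  haveI : IsAffine N.left := isAffine_of_isAffineHom N.hom
  obtain ⟨R, _, _, e, _, _⟩ := HopfQuot.exists_spec (k := k) N
  haveI : IsIso e.left := inferInstanceAs (IsIso ((Over.forget _).map e))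
  haveI hfin : IsFinite (spec (k := k) R).hom := by rw [← Over.w e]; infer_instance
  haveI : Module.Finite k R :=
    RingHom.finite_algebraMap.1 ((IsFinite.SpecMap_iff (CommRingCat.ofHom (algebraMap k R))).1 hfin)
  haveI : IsMonHom (CategoryTheory.inv e) := inferInstanceAs (IsMonHom (asIso e).inv)
  obtain ⟨y, hy'⟩ := hy
  obtain ⟨ρ, hρ, hmul⟩ := exists_isotropic_lift_spec hL hK (e ≫ i) ⟨e ≫ y, by rw [Category.assoc, hy']⟩
    (fun T a b β₁ β₂ h₁ h₂ => hiso T (a ≫ e) (b ≫ e) β₁ β₂
      (by rwa [Category.assoc]) (by rwa [Category.assoc]))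
  refine ⟨res (CategoryTheory.inv e) ρ, by rw [tpt_res, hρ, IsIso.inv_hom_id_assoc], fun T a b => ?_⟩
  rw [res_res, res_res, res_res, MonObj.mul_comp]
  exact hmul T _ _

end Groth.Agent.ThetaLib
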