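import Groth.Agent.ThetaLib.GluePts

/-!
# The theta group only depends on the isomorphism class of the module
-/

set_option autoImplicit false
set_option backward.isDefEq.respectTransparency.types false
set_option linter.style.haveILetI false
set_option linter.unusedSectionVars false

universe u

open CategoryTheory CategoryTheory.Limits MonoidalCategory CartesianMonoidalCategory MonObj AlgebraicGeometry
open Pseudofunctor Bicategory

namespace Groth.Agent.ThetaLib

variable {k : Type u} [Field k] {A : Over (Spec (CommRingCat.of k))} [GrpObj A]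

/-- The comparison of the objects attached to isomorphic modules. -/
theorem exists_isIso_modMor {L L' : A.left.Modules} (e : L' ≅ L) (T : Over (Spec (CommRingCat.of k))) :
    ∃ τ : ThetaGrp.thetaObj A L' T ⟶ ThetaGrp.thetaObj A L T, τ.base = 𝟙 _ ∧ IsIso τ := by
  let c : modObj L' ⟶ modObj L := ⟨𝟙 A.left, e.hom ≫ (Scheme.Modules.pullbackId A.left).inv.app L⟩
  haveI : IsIso c.fiber := IsIso.comp_isIso' e.isIso_hom ((Scheme.Modules.pullbackId A.left).symm.app L).isIso_hom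
  obtain ⟨τ, hb, hτ⟩ := exists_lift_of_fiber (proj L T) (proj L' T ≫ c) (𝟙 _) (by
    rw [CoGrothendieck.categoryStruct_comp_base, proj_base, Category.id_comp, proj_base]
    exact Category.comp_id _)
  refine ⟨τ, hb, ?_⟩
  haveI hb' : IsIso τ.base := by rw [hb]; infer_instance
  haveI hf : IsIso τ.fiber := isIso_fiber_of_comp (F := ThetaGrp.modPF.{u}) τ (proj L T) (by
    rw [hτ]; exact isIso_comp_fiber _ _)
  exact isIso_of_base_fiber (F := ThetaGrp.modPF.{u}) τ

/-- Isomorphic modules have isomorphic theta groups, compatibly with the translations. -/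
theorem exists_congrPts {L L' : A.left.Modules} (e : L' ≅ L) (T : Over (Spec (CommRingCat.of k))) :
    ∃ Φ : ThetaGrp.thetaPts A L' T → ThetaGrp.thetaPts A L T, Function.Bijective Φ ∧
      (∀ α β, Φ (α * β) = Φ α * Φ β) ∧ ∀ α x, ThetaGrp.IsOverPt (Φ α) x ↔ ThetaGrp.IsOverPt α x := by
  obtain ⟨τ, hb, hiso⟩ := exists_isIso_modMor e T
  have hbi : (inv τ).base = 𝟙 _ := by
    have h : (τ ≫ inv τ).base = 𝟙 _ := by rw [IsIso.hom_inv_id]; rfl
    rwa [CoGrothendieck.categoryStruct_comp_base, hb, Category.id_comp] at h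
  let C : Aut (ThetaGrp.thetaObj A L' T) ≃* Aut (ThetaGrp.thetaObj A L T) := (asIso τ).conjAut
  have hC : ∀ g, (C g).hom.base = g.hom.base := fun g => by
    show ((inv τ) ≫ g.hom ≫ τ).base = _
    rw [CoGrothendieck.categoryStruct_comp_base, CoGrothendieck.categoryStruct_comp_base, hb, hbi, Category.id_comp]
    exact Category.comp_id _
  have hmem : ∀ g, g ∈ ThetaGrp.thetaPts A L' T ↔ C g ∈ ThetaGrp.thetaPts A L T := fun g => by
    show (∃ x, g.hom.base = _) ↔ ∃ x, (C g).hom.base = _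
    rw [hC g]
  refine ⟨fun α => ⟨C α.1, (hmem _).1 α.2⟩, ⟨fun α β h => Subtype.ext (C.injective (congrArg Subtype.val h)),
    fun β => ⟨⟨C.symm β.1, (hmem _).2 (by rw [C.apply_symm_apply]; exact β.2)⟩, Subtype.ext (C.apply_symm_apply _)⟩⟩,
    fun α β => Subtype.ext (map_mul C α.1 β.1), fun α x => ?_⟩
  show (C α.1).hom.base = _ ↔ α.1.hom.base = _
  rw [hC]

theorem commute_congr {L L' : A.left.Modules} (e : L' ≅ L) {T : Over (Spec (CommRingCat.of k))} {x y : T ⟶ A}
    (h : ∀ β₁ β₂ : ThetaGrp.thetaPts A L' T, ThetaGrp.IsOverPt β₁ x → ThetaGrp.IsOverPt β₂ y → β₁ * β₂ = β₂ * β₁)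
    {β₁ β₂ : ThetaGrp.thetaPts A L T} (h₁ : ThetaGrp.IsOverPt β₁ x) (h₂ : ThetaGrp.IsOverPt β₂ y) :
    β₁ * β₂ = β₂ * β₁ := by
  obtain ⟨Φ, ⟨-, hΦ⟩, hmul, hov⟩ := exists_congrPts e T
  obtain ⟨α₁, rfl⟩ := hΦ β₁
  obtain ⟨α₂, rfl⟩ := hΦ β₂
  rw [← hmul, h α₁ α₂ ((hov _ _).1 h₁) ((hov _ _).1 h₂), hmul]

theorem isPerpPt_congr {L L' : A.left.Modules} (e : L' ≅ L) {H T : Over (Spec (CommRingCat.of k))} {iH : H ⟶ A}
    {x : T ⟶ A} : ThetaGrp.IsPerpPt L' iH x ↔ ThetaGrp.IsPerpPt L iH x :=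
  ⟨fun h T' f y _ _ h₁ h₂ => commute_congr e (h T' f y) h₁ h₂,
    fun h T' f y _ _ h₁ h₂ => commute_congr e.symm (h T' f y) h₁ h₂⟩

theorem isIsotropic_congr {L L' : A.left.Modules} (e : L' ≅ L) {H : Over (Spec (CommRingCat.of k))} {iH : H ⟶ A} :
    ThetaGrp.IsIsotropic L' iH ↔ ThetaGrp.IsIsotropic L iH :=
  ⟨fun h T a b _ _ h₁ h₂ => commute_congr e (h T a b) h₁ h₂,
    fun h T a b _ _ h₁ h₂ => commute_congr e.symm (h T a b) h₁ h₂⟩

end Groth.Agent.ThetaLib
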