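import Groth.Agent.ThetaLib.KLPow
import Groth.Agent.ThetaLib.ModIso
import Groth.Agent.AbCubeLib.KernelSubvariety
import Groth.Agent.AbCubeLib.SubgroupQuotient
import Groth.Agent.DimLib.Zero
import Groth.Agent.AbDualLib.TransposeIsogeny
import Groth.Agent.S19948
import Groth.Agent.S19949

/-!
# The rank of `K(f^* M)` for an isogeny `f`
-/

set_option autoImplicit false
set_option backward.isDefEq.respectTransparency.types false
set_option linter.style.haveILetI false
set_option linter.unusedSectionVars false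
set_option maxHeartbeats 800000

universe u

open CategoryTheory CategoryTheory.Limits MonoidalCategory CartesianMonoidalCategory MonObj AlgebraicGeometry
open Groth.Agent.PicLib

namespace Groth.Agent.ThetaLib

variable {k : Type u} [Field k] {A B : Over (Spec (CommRingCat.of k))} [GrpObj A] [GrpObj B]
  [IsCommMonObj A] [IsCommMonObj B] [IsProper A.hom] [GeometricallyIntegral A.hom] [IsProper B.hom]
  [GeometricallyIntegral B.hom]

/-- The inequality between the ranks of `K(f^* M)` and `K(M)`. -/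
theorem rk_KL_le (f : A ⟶ B) [IsMonHom f] [IsFinite f.left] [Surjective f.left] [Flat f.left]
    {M : B.left.Modules} (hM : PicF.IsInvertible M) {KM : Over (Spec (CommRingCat.of k))} {iM : KM ⟶ B}
    (hKM : ThetaGrp.IsKL B M iM) [IsFinite KM.hom] {L : A.left.Modules} (hL : PicF.IsInvertible L)
    (e : PicM.of hL = PicM.pull f.left (PicM.of hM)) {KL : Over (Spec (CommRingCat.of k))} {iL : KL ⟶ A}
    (hKL : ThetaGrp.IsKL A L iL) [IsFinite KL.hom] :
    rk KL ≤ rk (UnipStruct.kerObj f) ^ 2 * rk KM := by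
  have hL' := PicLoc.isInvertible_pullback f.left hM
  have e' : PicM.of hL = PicM.of hL' := e.trans (PicM.pull_of _ _)
  obtain ⟨iso⟩ := (PicM.of_eq_iff hL hL').1 e'
  have hKL' := isKL_of_eq hL hL' e' hKL
  obtain ⟨gKM, hiM⟩ := exists_grpObj_KL hM hKM
  haveI := hKM.closed
  haveI := isFinite_kerObj f
  haveI := mono_kerι f
  obtain ⟨P, gP, iP, p, _, _, _, _, _, _, hpts, hrk⟩ := exists_preimage f iM
  obtain ⟨hPfin, hP⟩ := hrk inferInstance
  haveI := hPfin
  have h49 := fun T x => Groth.Agent.S19949.result k A B f ‹Surjective f.left› (UnipStruct.kerObj f) (UnipStruct.kerι f)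
    (UnipStruct.isKernel_kerι f) M hM KL iL hKL' KM iM hKM T x
  obtain ⟨hy, -⟩ := (h49 _ (UnipStruct.kerι f)).1 ⟨1, by
    rw [MonObj.one_comp, AlgGrpLib.kernel_comp (UnipStruct.isKernel_kerι f)]⟩
  obtain ⟨P', gP', iP', _, _, _, hpts', hle⟩ := exists_perp hL' hKL' (UnipStruct.kerι f) hy
  haveI : Mono iP := Over.mono_of_mono_left iP
  haveI : Mono iP' := Over.mono_of_mono_left iP'
  have hPP : rk P' = rk P := (rk_eq_of_points iP' iP fun T x => by rw [hpts', hpts, h49]).2
  rw [hPP, hP] at hle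
  exact hle.trans (le_of_eq (by ring))

/-- The rank of `K(f^* M)` is `(deg f)² · rk K(M)`. -/
theorem rk_KL_eq (f : A ⟶ B) [IsMonHom f] [IsFinite f.left] [Surjective f.left] [Flat f.left]
    {M : B.left.Modules} (hM : PicF.IsInvertible M) {KM : Over (Spec (CommRingCat.of k))} {iM : KM ⟶ B}
    (hKM : ThetaGrp.IsKL B M iM) [IsFinite KM.hom] {L : A.left.Modules} (hL : PicF.IsInvertible L)
    (e : PicM.of hL = PicM.pull f.left (PicM.of hM)) {KL : Over (Spec (CommRingCat.of k))} {iL : KL ⟶ A}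
    (hKL : ThetaGrp.IsKL A L iL) [IsFinite KL.hom] :
    rk KL = rk (UnipStruct.kerObj f) ^ 2 * rk KM := by
  refine le_antisymm (rk_KL_le f hM hKM hL e hKL) ?_
  obtain ⟨m, s, hm, hs, hfs, hsf⟩ := AbCubeLib.exists_isogeny_inverse f
  haveI := hs
  haveI : IsFinite ((𝟙 B) ^ m).left := AbCubeLib.isFinite_pow hm
  haveI : Flat ((𝟙 B) ^ m).left := AbCubeLib.flat_pow hm
  haveI : Surjective ((𝟙 B) ^ m).left := AbCubeLib.surjective_pow hm
  haveI : IsFinite ((𝟙 A) ^ m).left := AbCubeLib.isFinite_pow hm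
  haveI : Surjective ((𝟙 A) ^ m).left := AbCubeLib.surjective_pow hm
  haveI : IsFinite (s ≫ f).left := by rw [hsf]; infer_instance
  haveI : Surjective s.left := by
    haveI : Surjective (f.left ≫ s.left) := by rw [← Over.comp_left, hfs]; infer_instance
    exact Surjective.of_comp f.left s.left
  haveI : IsSeparated f.left := inferInstance
  haveI : IsFinite s.left := by
    haveI : IsFinite (s.left ≫ f.left) := by rw [← Over.comp_left]; infer_instance
    exact IsFinite.of_comp s.left f.left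
  haveI : Flat s.left := AbVarLib.flat_of_surjective s
  obtain ⟨g, hg⟩ := AbCubeLib.exists_dim_eq B
  -- the line bundle `[m]^* M = s^* f^* M`
  have hL3 := PicLoc.isInvertible_pullback ((𝟙 B) ^ m).left hM
  have e3 : PicM.of hL3 = PicM.pull s.left (PicM.of hL) := by
    rw [e, PicM.pull_pull, ← Over.comp_left, hsf, PicM.pull_of]
  obtain ⟨K3, iK3, hK3⟩ := exists_isKL B hL3
  obtain ⟨hK3fin, hK3rk⟩ := rk_KL_pow hM hKM hm hg hK3
  haveI := hK3fin
  have h1 := rk_KL_le s hL hKL hL3 e3 hK3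
  have hdeg : rk (UnipStruct.kerObj s) * rk (UnipStruct.kerObj f) = m ^ (2 * g) := by
    rw [← rk_kerObj_comp s f]
    haveI : IsMonHom ((𝟙 B) ^ m) := AbCubeLib.isMonHom_npow (𝟙 B) m
    haveI : Flat (s ≫ f).left := by rw [hsf]; infer_instance
    exact rk_kerObj (s ≫ f) fun y => by
      have := AbCubeLib.finrank_pow hm hg y
      rwa [← hsf] at this
  haveI := isFinite_kerObj s
  have hpos : 0 < rk (UnipStruct.kerObj s) ^ 2 := pow_pos (rk_pos_of_grp _) 2
  refine Nat.le_of_mul_le_mul_left ?_ hpos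
  refine le_of_eq_of_le ?_ h1
  rw [hK3rk, ← Nat.mul_assoc, ← mul_pow, hdeg]
  ring

/-- Descent of `L` along the quotient by an isotropic subgroup scheme of a finite `K(L)`: the orthogonal `P` of the
subgroup surjects onto `K(M)`, whose rank is then governed by that of `K(L)`. -/
theorem exists_isotropic_quotient [IsAlgClosed k] {L : A.left.Modules} (hL : PicF.IsInvertible L)
    {K : Over (Spec (CommRingCat.of k))} {iK : K ⟶ A} (hK : ThetaGrp.IsKL A L iK) [IsFinite K.hom]
    {H : Over (Spec (CommRingCat.of k))} [GrpObj H] (iH : H ⟶ A) [IsMonHom iH] [IsClosedImmersion iH.left]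
    (hHK : ∃ y : H ⟶ K, y ≫ iK = iH) (hiso : ThetaGrp.IsIsotropic L iH) :
    ∃ (C : Over (Spec (CommRingCat.of k))) (_ : GrpObj C) (_ : IsCommMonObj C) (_ : IsProper C.hom)
      (_ : GeometricallyIntegral C.hom) (π : A ⟶ C) (_ : IsMonHom π) (_ : IsFinite π.left) (_ : Surjective π.left)
      (M : C.left.Modules) (_ : PicF.IsInvertible M) (KM : Over (Spec (CommRingCat.of k))) (_ : GrpObj KM)
      (iM : KM ⟶ C) (_ : IsMonHom iM) (_ : IsFinite KM.hom),
      AlgGrp.IsKernel iH π ∧ IsFinite H.hom ∧ ThetaGrp.IsKL C M iM ∧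
      Nonempty ((Scheme.Modules.pullback π.left).obj M ≅ L) ∧
      (∀ (T : Over (Spec (CommRingCat.of k))) (x : T ⟶ A), (∃ z, z ≫ iM = x ≫ π) ↔
        ((∃ y, y ≫ iK = x) ∧ ThetaGrp.IsPerpPt L iH x)) ∧
      rk K = rk H ^ 2 * rk KM ∧
      ∃ (P : Over (Spec (CommRingCat.of k))) (iP : P ⟶ A), Mono iP ∧ rk P = rk H * rk KM ∧ IsFinite P.hom ∧
        ∀ (T : Over (Spec (CommRingCat.of k))) (x : T ⟶ A), (∃ y, y ≫ iP = x) ↔ ∃ z, z ≫ iM = x ≫ π := by
  haveI := hK.closed
  obtain ⟨C, gC, π, hCp, hCg, hπ, hπs, hker⟩ := AbCubeLib.exists_quotient_subgroup iH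
  haveI := hCp
  haveI := hCg
  haveI := hπ
  haveI := hπs
  haveI : IsCommMonObj C := isCommMonObj_of_isProper_of_geometricallyIntegral C
  haveI : IsFinite H.hom := by
    obtain ⟨y, hy⟩ := hHK
    haveI : IsClosedImmersion (y.left ≫ iK.left) := by rw [← Over.comp_left, hy]; infer_instance
    haveI : IsClosedImmersion y.left := IsClosedImmersion.of_comp y.left iK.left
    rw [← Over.w y]; infer_instance
  haveI : Mono iH := Over.mono_of_mono_left iH
  haveI : IsFinite π.left := by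
    refine AbDualLib.isFinite_of_finite_preimage_unit π fun s => ?_
    haveI := discreteTopology_of_isFinite H
    haveI : CompactSpace H.left := QuasiCompact.compactSpace_of_compactSpace H.hom
    haveI : Finite H.left := finite_of_compact_of_discrete
    refine (Set.finite_range iH.left).subset fun a ha => ?_
    obtain ⟨z, hz, -⟩ := (Scheme.exists_preimage_of_isPullback (IsPullback.map (Over.forget _) hker) a s ha)
    exact ⟨z, hz⟩
  haveI : Flat π.left := AbVarLib.flat_of_surjective π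
  obtain ⟨M, hM, ⟨iso⟩⟩ := (Groth.Agent.S19948.result k A C π hπs H iH hker L hL K iK hK).2 ⟨hHK, hiso⟩
  have hL' := PicLoc.isInvertible_pullback π.left hM
  have e : PicM.of hL = PicM.pull π.left (PicM.of hM) := by
    rw [PicM.pull_of]; exact (PicM.of_eq_iff hL hL').2 ⟨iso.symm⟩
  have hK' := isKL_of_eq hL hL' (e.trans (PicM.pull_of _ _)) hK
  obtain ⟨KM, iM, hKM⟩ := exists_isKL C hM
  haveI := hKM.closed
  obtain ⟨gKM, hiM⟩ := exists_grpObj_KL hM hKM
  haveI := hiM
  obtain ⟨P, gP, iP, p, _, _, _, _, _, _, hpts, hrk⟩ := exists_preimage π iM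
  haveI : Mono iP := Over.mono_of_mono_left iP
  have h49 : ∀ (T : Over (Spec (CommRingCat.of k))) (x : T ⟶ A), (∃ z, z ≫ iM = x ≫ π) ↔
      ((∃ y, y ≫ iK = x) ∧ ThetaGrp.IsPerpPt L iH x) := fun T x => by
    rw [Groth.Agent.S19949.result k A C π hπs H iH hker M hM K iK hK' KM iM hKM T x, isPerpPt_congr iso]
  haveI : IsFinite P.hom := by
    obtain ⟨y, hy⟩ := ((h49 P iP).1 ((hpts P iP).1 ⟨𝟙 P, Category.id_comp iP⟩)).1
    haveI : IsClosedImmersion (y.left ≫ iK.left) := by rw [← Over.comp_left, hy]; infer_instance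
    haveI : IsClosedImmersion y.left := IsClosedImmersion.of_comp y.left iK.left
    rw [← Over.w y]; infer_instance
  haveI : IsFinite KM.hom := by
    haveI := discreteTopology_of_isFinite P
    haveI : CompactSpace P.left := QuasiCompact.compactSpace_of_compactSpace P.hom
    haveI : Finite P.left := finite_of_compact_of_discrete
    haveI : Finite KM.left := Finite.of_surjective _ p.left.surjective
    haveI : IsProper KM.hom := by rw [← Over.w iM]; infer_instance
    exact DimLib.isFinite_of_finite KM.hom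
  have hHker : rk (UnipStruct.kerObj π) = rk H := by
    haveI := isFinite_kerObj π
    haveI := mono_kerι π
    exact (rk_eq_of_points (UnipStruct.kerι π) iH fun T x => by
      rw [exists_kerι_iff]
      exact ⟨fun h => AlgGrpLib.exists_lift_kernel hker h,
        fun ⟨y, hy⟩ => hy ▸ by rw [Category.assoc, AlgGrpLib.kernel_comp hker, MonObj.comp_one]⟩).2
  refine ⟨C, gC, inferInstance, hCp, hCg, π, hπ, inferInstance, hπs, M, hM, KM, gKM, iM, hiM, inferInstance, hker,
    inferInstance, hKM, ⟨iso⟩, h49, ?_, P, iP, inferInstance, ?_, inferInstance, hpts⟩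
  · rw [rk_KL_eq π hM hKM hL e hK, hHker]
  · rw [(hrk inferInstance).2, hHker]

/-- A point of `K(L)` orthogonal to `K(L)` is trivial. -/
theorem eq_one_of_isPerpPt_KL [IsAlgClosed k] {L : A.left.Modules} (hL : PicF.IsInvertible L)
    {K : Over (Spec (CommRingCat.of k))} {iK : K ⟶ A} (hK : ThetaGrp.IsKL A L iK) [IsFinite K.hom]
    {T : Over (Spec (CommRingCat.of k))} (y : T ⟶ K) (hy : ThetaGrp.IsPerpPt L iK (y ≫ iK)) : y ≫ iK = 1 := by
  obtain ⟨gK, hiK⟩ := exists_grpObj_KL hL hK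
  haveI := hK.closed
  haveI : Mono iK := Over.mono_of_mono_left iK
  obtain ⟨Z, gZ, iZ, hiZ, _, hZfin, hZpts, -⟩ := exists_perp hL hK iK ⟨𝟙 K, Category.id_comp iK⟩
  obtain ⟨hZK, hZperp⟩ := (hZpts Z iZ).1 ⟨𝟙 Z, Category.id_comp iZ⟩
  obtain ⟨w, hw⟩ := hZK
  have hiso : ThetaGrp.IsIsotropic L iZ := fun S a b β₁ β₂ h₁ h₂ =>
    hZperp S a (b ≫ w) β₁ β₂ h₁ (by rw [Category.assoc, hw]; exact h₂)
  obtain ⟨C, _, _, _, _, π, _, _, _, M, hM, KM, _, iM, _, _, hker, hHfin, hKM, _, h49, hrk, P, iP, _, hPrk, hPfin,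
    hpts⟩ := exists_isotropic_quotient hL hK iZ ⟨w, hw⟩ hiso
  have hPK : rk P = rk K := by
    haveI := hPfin
    refine (rk_eq_of_points iP iK fun S x => ?_).2
    rw [hpts, h49]
    refine ⟨fun h => h.1, fun h => ⟨h, ?_⟩⟩
    obtain ⟨v, hv⟩ := h
    intro S' t z β₁ β₂ h₁ h₂
    exact ((hZperp S' z (t ≫ v) β₂ β₁ h₂ (by rw [Category.assoc, hv]; exact h₁))).symm
  have hpos : 1 ≤ rk KM := rk_pos_of_grp KM
  have hone : rk Z = 1 := by
    rw [hPK, hrk, pow_two, Nat.mul_assoc] at hPrk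
    have h := Nat.eq_of_mul_eq_mul_left (lt_of_lt_of_le Nat.one_pos (rk_pos_of_grp Z)) hPrk
    exact Nat.eq_of_mul_eq_mul_right (lt_of_lt_of_le Nat.one_pos hpos) (h.trans (Nat.one_mul _).symm)
  obtain ⟨z, hz⟩ := (hZpts T (y ≫ iK)).2 ⟨⟨y, rfl⟩, hy⟩
  rw [← hz, eq_one_of_rk_eq_one hone z, MonObj.one_comp]

end Groth.Agent.ThetaLib
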