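import Groth.Agent.ThetaLib.ScalPt
import Groth.Agent.ThetaLib.KLExists
import Groth.Agent.Misc15.OverGlue
import Groth.Agent.SGA3cLib.DiagPoints
import Groth.Agent.GaGmQuot.GmSmooth

/-!
# The theta group is representable by a group scheme of finite type
-/

set_option autoImplicit false
set_option backward.isDefEq.respectTransparency.types false
set_option linter.style.haveILetI false
set_option linter.unusedSectionVars false

universe u

open CategoryTheory CategoryTheory.Limits MonoidalCategory CartesianMonoidalCategory MonObj AlgebraicGeometry Opposite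
open Pseudofunctor Bicategory

namespace Groth.Agent.ThetaLib

variable {k : Type u} [Field k] {A : Over (Spec (CommRingCat.of k))} [GrpObj A] (L : A.left.Modules)

/-- The presheaf of groups `T ↦ G(L)(T)`. -/
noncomputable def ptsGrp : (Over (Spec (CommRingCat.of k)))ᵒᵖ ⥤ GrpCat.{u} where
  obj T := GrpCat.of (ThetaGrp.thetaPts A L T.unop)
  map t := GrpCat.ofHom (MonoidHom.mk' (res t.unop) (res_mul t.unop))
  map_id T := GrpCat.hom_ext (MonoidHom.ext fun α => res_id α)
  map_comp s t := GrpCat.hom_ext (MonoidHom.ext fun α => (res_res t.unop s.unop α).symm)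

/-- The presheaf of points of `G(L)`. -/
noncomputable abbrev ptsPsh : (Over (Spec (CommRingCat.of k)))ᵒᵖ ⥤ Type u := ptsGrp L ⋙ forget GrpCat

variable {L}

theorem isSheaf_ptsPsh (hL : PicF.IsInvertible L) :
    Presheaf.IsSheaf (Scheme.zariskiTopology.over (Spec (CommRingCat.of k))) (ptsPsh L) := by
  rw [isSheaf_iff_isSheaf_of_type]
  intro T R hR x hx
  obtain ⟨𝒰, hle⟩ := Scheme.exists_cover_of_mem_grothendieckTopology
    ((GrothendieckTopology.mem_over_iff _ _).1 hR)
  let W : 𝒰.I₀ → Over (Spec (CommRingCat.of k)) := fun i => Over.mk (𝒰.f i ≫ T.hom)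
  let t : ∀ i, W i ⟶ T := fun i => Over.homMk (𝒰.f i) rfl
  have ht : ∀ i, R.arrows (t i) := fun i => (Sieve.overEquiv_iff R _).1 (hle _ _ (Presieve.ofArrows.mk i))
  haveI : ∀ i, IsOpenImmersion (t i).left := fun i => 𝒰.map_prop i
  have hcov : ∀ p : T.left, ∃ i, p ∈ Set.range (t i).left := fun p => ⟨_, 𝒰.covers p⟩
  let β : ∀ i, ThetaGrp.thetaPts A L (W i) := fun i => x (t i) (ht i)
  obtain ⟨α, hα⟩ := exists_glue t hcov hL β fun i j V p q h => hx p q (ht i) (ht j) h
  refine ⟨α, fun Y f hf => ?_, fun α' hα' => pts_ext_cover t hcov hL fun i => ?_⟩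
  · let W' : 𝒰.I₀ → Over (Spec (CommRingCat.of k)) := fun i => Over.mk (pullback.fst f.left (t i).left ≫ Y.hom)
    let t' : ∀ i, W' i ⟶ Y := fun i => Over.homMk (pullback.fst f.left (t i).left) rfl
    haveI : ∀ i, IsOpenImmersion (t' i).left := fun i =>
      inferInstanceAs (IsOpenImmersion (pullback.fst f.left (t i).left))
    refine pts_ext_cover t' (fun p => ?_) hL fun i => ?_
    · obtain ⟨i, w, hw⟩ := hcov (f.left p)
      obtain ⟨z, hz, -⟩ := Scheme.Pullback.exists_preimage_pullback p w hw.symm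
      exact ⟨i, z, hz⟩
    · let q : W' i ⟶ W i := Over.homMk (pullback.snd f.left (t i).left) (by
        show _ ≫ (W i).hom = pullback.fst f.left (t i).left ≫ Y.hom
        rw [← Over.w f, ← Over.w (t i), pullback.condition_assoc])
      have hpq : t' i ≫ f = q ≫ t i := Over.OverMorphism.ext pullback.condition
      show res (t' i) (res f α) = res (t' i) (x f hf)
      rw [res_res, hpq, ← res_res, hα]
      exact hx q (t' i) (ht i) hf hpq.symm
  · exact (hα' (t i) (ht i)).trans (hα i).symm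

variable [IsProper A.hom] [GeometricallyIntegral A.hom] {K : Over (Spec (CommRingCat.of k))} {iK : K ⟶ A}

theorem mono_iK (hK : ThetaGrp.IsKL A L iK) : Mono iK :=
  haveI := hK.closed
  Over.mono_of_mono_left iK

theorem exists_ktpt (hK : ThetaGrp.IsKL A L iK) (hL : PicF.IsInvertible L) {T : Over (Spec (CommRingCat.of k))}
    (α : ThetaGrp.thetaPts A L T) : ∃ y : T ⟶ K, y ≫ iK = tpt α :=
  (KLLib.factors_iff hK hL _).2 ⟨1, (exists_overPt_iff hL _).1 ⟨α, isOverPt_tpt α⟩⟩

/-- The translation, as a point of `K(L)`. -/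
noncomputable def ktpt (hK : ThetaGrp.IsKL A L iK) (hL : PicF.IsInvertible L) {T : Over (Spec (CommRingCat.of k))}
    (α : ThetaGrp.thetaPts A L T) : T ⟶ K := (exists_ktpt hK hL α).choose

theorem ktpt_spec (hK : ThetaGrp.IsKL A L iK) (hL : PicF.IsInvertible L) {T : Over (Spec (CommRingCat.of k))}
    (α : ThetaGrp.thetaPts A L T) : ktpt hK hL α ≫ iK = tpt α := (exists_ktpt hK hL α).choose_spec

theorem ktpt_res (hK : ThetaGrp.IsKL A L iK) (hL : PicF.IsInvertible L) {T T' : Over (Spec (CommRingCat.of k))}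
    (t : T' ⟶ T) (α : ThetaGrp.thetaPts A L T) : ktpt hK hL (res t α) = t ≫ ktpt hK hL α := by
  haveI := mono_iK hK
  rw [← cancel_mono iK, Category.assoc, ktpt_spec, ktpt_spec, tpt_res]

/-- The translation map to `K(L)`. -/
noncomputable def ktptNat (hK : ThetaGrp.IsKL A L iK) (hL : PicF.IsInvertible L) : ptsPsh L ⟶ yoneda.obj K where
  app T := TypeCat.ofHom fun α => ktpt hK hL α
  naturality T T' t := ConcreteCategory.hom_ext _ _ fun α => ktpt_res hK hL t.unop α

/-- The unit of a point of `𝔾_m`. -/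
noncomputable def gmUnit {T : Over (Spec (CommRingCat.of k))} (g : T ⟶ Red.Gm (Spec (CommRingCat.of k))) :
    Γ(T.left, ⊤)ˣ := (SGA3cLib.isUnit_gmFn g).unit

theorem gmUnit_comp {T T' : Over (Spec (CommRingCat.of k))} (t : T' ⟶ T) (g : T ⟶ Red.Gm (Spec (CommRingCat.of k))) :
    Units.map t.left.appTop.hom.toMonoidHom (gmUnit g) = gmUnit (t ≫ g) :=
  Units.ext (SGA3cLib.gmFn_comp t g).symm

/-- A point of a piece of `G(L)`: a section and a scalar. -/
noncomputable def pieceFn {V : Over (Spec (CommRingCat.of k))} (σ : ThetaGrp.thetaPts A L V)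
    {T : Over (Spec (CommRingCat.of k))} (w : T ⟶ V ⊗ Red.Gm (Spec (CommRingCat.of k))) : ThetaGrp.thetaPts A L T :=
  res (w ≫ fst _ _) σ * scalPt L (gmUnit (w ≫ snd _ _))

theorem pieceFn_comp {V : Over (Spec (CommRingCat.of k))} (σ : ThetaGrp.thetaPts A L V)
    {T' T : Over (Spec (CommRingCat.of k))} (t : T' ⟶ T) (w : T ⟶ V ⊗ Red.Gm (Spec (CommRingCat.of k))) :
    pieceFn σ (t ≫ w) = res t (pieceFn σ w) := by
  rw [pieceFn, pieceFn, res_mul, res_res, res_scalPt, gmUnit_comp, Category.assoc, Category.assoc]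

/-- A piece of `G(L)`. -/
noncomputable def pieceNat {V : Over (Spec (CommRingCat.of k))} (σ : ThetaGrp.thetaPts A L V) :
    yoneda.obj (V ⊗ Red.Gm (Spec (CommRingCat.of k))) ⟶ ptsPsh L where
  app T := TypeCat.ofHom fun w => pieceFn σ w
  naturality T T' t := ConcreteCategory.hom_ext _ _ fun w => pieceFn_comp σ t.unop w

theorem tpt_piece {V : Over (Spec (CommRingCat.of k))} (σ : ThetaGrp.thetaPts A L V)
    {T : Over (Spec (CommRingCat.of k))} (w : T ⟶ V ⊗ Red.Gm (Spec (CommRingCat.of k))) :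
    tpt (pieceFn σ w) = (w ≫ fst _ _) ≫ tpt σ := by
  rw [pieceFn, tpt_mul, tpt_scalPt, _root_.one_mul, tpt_res]

theorem ktpt_piece (hK : ThetaGrp.IsKL A L iK) (hL : PicF.IsInvertible L) {V : Over (Spec (CommRingCat.of k))}
    {σ : ThetaGrp.thetaPts A L V} {v : V ⟶ K} (hσ : tpt σ = v ≫ iK) {T : Over (Spec (CommRingCat.of k))}
    (w : T ⟶ V ⊗ Red.Gm (Spec (CommRingCat.of k))) :
    ktpt hK hL (pieceFn σ w) = (w ≫ fst _ _) ≫ v := by
  haveI := mono_iK hK
  rw [← cancel_mono iK, ktpt_spec, tpt_piece, hσ]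
  simp only [Category.assoc]

theorem pieceNat_injective (hL : PicF.IsInvertible L) {V : Over (Spec (CommRingCat.of k))}
    {σ : ThetaGrp.thetaPts A L V} [Mono (tpt σ)] {T : Over (Spec (CommRingCat.of k))}
    (w w' : T ⟶ V ⊗ Red.Gm (Spec (CommRingCat.of k)))
    (h : pieceFn σ w = pieceFn σ w') : w = w' := by
  have h1 := congrArg (fun α : ThetaGrp.thetaPts A L T => tpt α) h
  simp only [tpt_piece] at h1
  have hf : w ≫ fst _ _ = w' ≫ fst _ _ := (cancel_mono (tpt σ)).1 h1
  refine CartesianMonoidalCategory.hom_ext _ _ hf (SGA3cLib.gmFn_injective ?_)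
  have h' : res (w ≫ fst _ _) σ * scalPt L (gmUnit (w ≫ snd _ _)) =
      res (w' ≫ fst _ _) σ * scalPt L (gmUnit (w' ≫ snd _ _)) := h
  rw [hf] at h'
  exact congrArg Units.val (scalPt_injective hL (mul_left_cancel h'))

theorem exists_pieceNat_eq (hL : PicF.IsInvertible L) {V : Over (Spec (CommRingCat.of k))}
    (σ : ThetaGrp.thetaPts A L V) {T : Over (Spec (CommRingCat.of k))} (α : ThetaGrp.thetaPts A L T) (a : T ⟶ V)
    (ha : a ≫ tpt σ = tpt α) :
    ∃ w : T ⟶ V ⊗ Red.Gm (Spec (CommRingCat.of k)), pieceFn σ w = α := by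
  obtain ⟨r, hr⟩ := exists_eq_scalPt hL (c := (res a σ)⁻¹ * α) (by
    rw [tpt_mul, tpt_inv, tpt_res, ha, mul_inv_cancel])
  obtain ⟨g, hg⟩ := SGA3cLib.exists_gmFn (S := Spec (CommRingCat.of k)) (X := T) r.isUnit
  refine ⟨lift a g, ?_⟩
  show res (lift a g ≫ fst _ _) σ * scalPt L (gmUnit (lift a g ≫ snd _ _)) = α
  rw [lift_fst, lift_snd, show gmUnit g = r from Units.ext hg, ← hr, mul_inv_cancel_left]

theorem exists_isPullback_piece (hK : ThetaGrp.IsKL A L iK) (hL : PicF.IsInvertible L)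
    {V W : Over (Spec (CommRingCat.of k))} (v : V ⟶ K) [Mono v] {σ : ThetaGrp.thetaPts A L V}
    (hσ : tpt σ = v ≫ iK) (univ : ThetaGrp.thetaPts A L W)
    (hbij : ∀ T : Over (Spec (CommRingCat.of k)), Function.Bijective fun g : T ⟶ W => res g univ) :
    ∃ b : V ⊗ Red.Gm (Spec (CommRingCat.of k)) ⟶ W,
      IsPullback b.left (fst V (Red.Gm (Spec (CommRingCat.of k)))).left (ktpt hK hL univ).left v.left := by
  haveI := mono_iK hK
  haveI : Mono (tpt σ) := by rw [hσ]; infer_instance
  obtain ⟨b, hb⟩ := (hbij _).2 (pieceFn σ (𝟙 (V ⊗ Red.Gm (Spec (CommRingCat.of k)))))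
  dsimp only at hb
  have hw : b ≫ ktpt hK hL univ = fst _ _ ≫ v := by
    rw [← ktpt_res, hb, ktpt_piece hK hL hσ, Category.id_comp]
  have hcomp : ∀ {T : Over (Spec (CommRingCat.of k))} (w : T ⟶ V ⊗ Red.Gm (Spec (CommRingCat.of k))),
      res (w ≫ b) univ = pieceFn σ w := fun {T} w => by
    rw [← res_res, hb, ← pieceFn_comp, Category.comp_id]
  have hex : ∀ s : PullbackCone (ktpt hK hL univ) v, ∃ w : s.pt ⟶ V ⊗ Red.Gm (Spec (CommRingCat.of k)),
      w ≫ b = s.fst ∧ w ≫ fst _ _ = s.snd := fun s => by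
    obtain ⟨w, hw'⟩ := exists_pieceNat_eq hL σ (res s.fst univ) s.snd (by
      rw [hσ, ← Category.assoc, ← s.condition, Category.assoc, ktpt_spec, tpt_res])
    refine ⟨w, (hbij _).1 ((hcomp w).trans hw'), ?_⟩
    have h := congrArg (fun α => ktpt hK hL (T := s.pt) α) hw'
    simp only [ktpt_piece hK hL hσ, ktpt_res, s.condition] at h
    exact (cancel_mono v).1 h
  choose l hl using hex
  refine ⟨b, IsPullback.map (Over.forget _) (IsPullback.of_isLimit' ⟨hw⟩
    (PullbackCone.IsLimit.mk _ l (fun s => (hl s).1) (fun s => (hl s).2) fun s m h₁ h₂ =>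
      pieceNat_injective (σ := σ) hL _ _ ?_))⟩
  rw [← hcomp, ← hcomp]
  exact congrArg (fun g => res g univ) (h₁.trans (hl s).1.symm)

/-- `G(L)` is representable by a scheme of finite type. -/
theorem exists_rep (hL : PicF.IsInvertible L) :
    ∃ W : Over (Spec (CommRingCat.of k)), Nonempty ((ptsPsh L).RepresentableBy W) ∧
      LocallyOfFiniteType W.hom ∧ QuasiCompact W.hom := by
  obtain ⟨K, iK, hK⟩ := exists_isKL A hL
  haveI := hK.closed
  haveI := mono_iK hK
  have hloc : ∀ z : K.left, ∃ U : K.left.Opens, z ∈ U ∧ ∃ σ : ThetaGrp.thetaPts A L (Over.mk (U.ι ≫ K.hom)),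
      tpt σ = (Over.homMk U.ι rfl : Over.mk (U.ι ≫ K.hom) ⟶ K) ≫ iK := fun z => by
    obtain ⟨m, hm⟩ := (KLLib.factors_iff hK hL iK).1 ⟨𝟙 K, Category.id_comp _⟩
    obtain ⟨U, hzU, hU⟩ := exists_open_pull_eq_one m z
    have h := translates_comp hm (Over.homMk U.ι rfl : Over.mk (U.ι ≫ K.hom) ⟶ K)
    simp only [Over.homMk_left] at h
    rw [hU] at h
    obtain ⟨σ, hσ⟩ := (exists_overPt_iff hL _).2 h
    exact ⟨U, hzU, σ, tpt_eq hσ⟩
  choose U hzU σ hσ using hloc
  let V : K.left → Over (Spec (CommRingCat.of k)) := fun z => Over.mk ((U z).ι ≫ K.hom)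
  let v : ∀ z, V z ⟶ K := fun z => Over.homMk (U z).ι rfl
  haveI : ∀ z, IsOpenImmersion (v z).left := fun z => inferInstanceAs (IsOpenImmersion (U z).ι)
  haveI : ∀ z, Mono (v z) := fun z => Over.mono_of_mono_left _
  haveI : ∀ z, Mono (tpt (σ z)) := fun z => by rw [hσ z]; infer_instance
  let p := ktptNat hK hL
  have hp : ∀ {T : Over (Spec (CommRingCat.of k))} (α : ThetaGrp.thetaPts A L T),
      (p.app (op T) α : T ⟶ K) = ktpt hK hL α := fun α => rfl
  have hsub : ∀ z (T : Over (Spec (CommRingCat.of k))) (w : T ⟶ V z ⊗ Red.Gm (Spec (CommRingCat.of k))),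
      Set.range (ktpt hK hL (pieceFn (σ z) w)).left ⊆ (U z : Set K.left) := by
    intro z T w
    rw [ktpt_piece hK hL (hσ z)]
    rintro _ ⟨q, rfl⟩
    exact (((w ≫ fst _ _).left) q).2
  have hsurj : ∀ z (T : Over (Spec (CommRingCat.of k))) (α : ThetaGrp.thetaPts A L T),
      Set.range (ktpt hK hL α).left ⊆ (U z : Set K.left) →
      ∃ w : T ⟶ V z ⊗ Red.Gm (Spec (CommRingCat.of k)), pieceFn (σ z) w = α := by
    intro z T α h
    let a : T ⟶ V z := Over.homMk (IsOpenImmersion.lift (U z).ι (ktpt hK hL α).left (by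
      rw [Scheme.Opens.range_ι]; exact h)) (by
      show _ ≫ (U z).ι ≫ K.hom = T.hom
      rw [IsOpenImmersion.lift_fac_assoc, Over.w])
    refine exists_pieceNat_eq hL (σ z) α a ?_
    have hav : a ≫ v z = ktpt hK hL α := Over.OverMorphism.ext (IsOpenImmersion.lift_fac _ _ _)
    rw [hσ z, ← Category.assoc, hav, ktpt_spec]
  obtain ⟨W, ⟨e⟩⟩ := Misc15.OverGlue.exists_representableBy (ptsPsh L) p U
    (fun T α => top_le_iff.1 fun q _ => TopologicalSpace.Opens.mem_iSup.2 ⟨_, hzU _⟩)
    (fun z => V z ⊗ Red.Gm (Spec (CommRingCat.of k))) (fun z => pieceNat (σ z))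
    (fun z T w w' h => pieceNat_injective hL w w' h) hsub hsurj (isSheaf_ptsPsh hL)
  refine ⟨W, ⟨e⟩, ?_⟩
  let univ : ThetaGrp.thetaPts A L W := e.homEquiv (𝟙 W)
  have he : ∀ {T : Over (Spec (CommRingCat.of k))} (g : T ⟶ W), (e.homEquiv g : ThetaGrp.thetaPts A L T) = res g univ :=
    fun g => (congrArg e.homEquiv (Category.comp_id g)).symm.trans (e.homEquiv_comp g (𝟙 W))
  let π : W ⟶ K := ktpt hK hL univ
  have hbij : ∀ T : Over (Spec (CommRingCat.of k)), Function.Bijective fun g : T ⟶ W => res g univ := fun T => by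
    rw [show (fun g : T ⟶ W => res g univ) = fun g => (e.homEquiv g : ThetaGrp.thetaPts A L T) from
      funext fun g => (he g).symm]
    exact e.homEquiv.bijective
  choose b hb using fun z => exists_isPullback_piece hK hL (v z) (hσ z) univ hbij
  let 𝒰 := K.left.openCoverOfIsOpenCover U (top_le_iff.1 fun q _ => TopologicalSpace.Opens.mem_iSup.2 ⟨_, hzU q⟩)
  haveI : IsAffineHom (Red.Gm (Spec (CommRingCat.of k))).hom := isAffineHom_of_isAffine _
  haveI : LocallyOfFiniteType (Red.Gm (Spec (CommRingCat.of k))).hom := inferInstance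
  have hloc : ∀ (P : MorphismProperty Scheme.{u}) [IsZariskiLocalAtTarget P],
      (∀ z, P (pullback.fst (V z).hom (Red.Gm (Spec (CommRingCat.of k))).hom)) → P π.left := fun P _ hP => by
    refine IsZariskiLocalAtTarget.of_openCover 𝒰 fun z => ?_
    exact ((P.arrow_mk_iso_iff (Arrow.isoMk ((hb z).isoPullback) (Iso.refl _)
      (((hb z).isoPullback_hom_snd).trans (Category.comp_id _).symm))).1 (hP z) :)
  haveI : IsAffineHom π.left := hloc @IsAffineHom fun z => MorphismProperty.pullback_fst (P := @IsAffineHom) _ _ inferInstance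
  haveI : LocallyOfFiniteType π.left := hloc @LocallyOfFiniteType fun z => MorphismProperty.pullback_fst (P := @LocallyOfFiniteType) _ _ inferInstance
  haveI : IsProper K.hom := by
    rw [← Over.w iK]
    infer_instance
  exact ⟨by rw [← Over.w π]; infer_instance, by rw [← Over.w π]; infer_instance⟩

/-- The theta group is represented by a group scheme of finite type. -/
theorem exists_isThetaGrpSch (hL : PicF.IsInvertible L) :
    ∃ (G : Over (Spec (CommRingCat.of k))) (_ : GrpObj G) (u : ThetaGrp.thetaPts A L G),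
      ThetaGrp.IsThetaGrpSch A L G u ∧ LocallyOfFiniteType G.hom ∧ QuasiCompact G.hom := by
  obtain ⟨W, ⟨e⟩, hW⟩ := exists_rep hL
  letI : GrpObj W := GrpObj.ofRepresentableBy W (ptsGrp L) e
  let univ : ThetaGrp.thetaPts A L W := e.homEquiv (𝟙 W)
  have he : ∀ {T : Over (Spec (CommRingCat.of k))} (g : T ⟶ W), (e.homEquiv g : ThetaGrp.thetaPts A L T) = res g univ :=
    fun g => (congrArg e.homEquiv (Category.comp_id g)).symm.trans (e.homEquiv_comp g (𝟙 W))
  refine ⟨W, inferInstance, univ, ⟨fun T β => ⟨e.homEquiv.symm β, ?_, fun g hg => ?_⟩,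
    fun T g => ⟨res g univ, res_bc g univ, fun β hβ => eq_res hβ⟩, fun T g h β₁ β₂ h₁ h₂ => ?_⟩, hW⟩
  · have := res_bc (e.homEquiv.symm β) univ
    rw [← he, e.homEquiv.apply_symm_apply] at this
    exact this
  · refine e.homEquiv.injective ?_
    rw [e.homEquiv.apply_symm_apply, he, ← eq_res hg]
  · have hmul : (e.homEquiv (g * h) : ThetaGrp.thetaPts A L T) = e.homEquiv g * e.homEquiv h := by
      show (e.homEquiv (lift g h ≫ e.homEquiv.symm
        ((e.homEquiv (fst W W) : ThetaGrp.thetaPts A L (W ⊗ W)) * e.homEquiv (snd W W)))) = _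
      rw [e.homEquiv_comp, e.homEquiv.apply_symm_apply]
      show res (lift g h) _ = _
      refine (res_mul _ _ _).trans (congrArg₂ (· * ·) ?_ ?_)
      · exact (e.homEquiv_comp _ _).symm.trans (congrArg e.homEquiv (lift_fst g h))
      · exact (e.homEquiv_comp _ _).symm.trans (congrArg e.homEquiv (lift_snd g h))
    have hprod : res g univ * res h univ = res (g * h) univ :=
      ((congrArg₂ (· * ·) (he g).symm (he h).symm).trans hmul.symm).trans (he (g * h))
    rw [eq_res h₁, eq_res h₂, hprod]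
    exact res_bc _ _

end Groth.Agent.ThetaLib
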