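import Groth.Agent.AbDualLib.KernelDual
import Mathlib.RingTheory.HopfAlgebra.Quotient
import Mathlib.FieldTheory.IsAlgClosed.Basic
import Mathlib.RingTheory.IntegralClosure.IsIntegralClosure.Basic

/-!
# No alternating non-degenerate bicharacter from a cocycle on a simple finite commutative group scheme

The bicharacter `U = c / c^swap` of a finite Hopf algebra without proper non-trivial Hopf ideals is never perfect.
-/

set_option autoImplicit false
set_option linter.unusedSectionVars false
set_option linter.style.haveILetI false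
set_option maxHeartbeats 800000

universe u

open scoped TensorProduct
open Groth.Agent.AbDualLib

namespace Groth.Agent.ThetaLib

variable {k : Type u} [Field k] {Q : Type u} [CommRing Q] [HopfAlgebra k Q]

set_option quotPrecheck false in
local notation "εₗ" => AlgHom.toLinearMap (Bialgebra.counitAlgHom k Q)
local notation "cm" => Algebra.TensorProduct.comm k Q Q

/-- Contraction of the first factor with a point. -/
noncomputable def ptContr {M : Type u} [CommRing M] [Algebra k M] (φ : Q →ₐ[k] k) : Q ⊗[k] M →ₐ[k] M :=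
  (Algebra.TensorProduct.lid k M).toAlgHom.comp (Algebra.TensorProduct.map φ (AlgHom.id k M))

theorem ptContr_eq {M : Type u} [CommRing M] [Algebra k M] (φ : Q →ₐ[k] k) (V : Q ⊗[k] M) :
    ptContr φ V = du φ.toLinearMap V := by
  induction V using TensorProduct.induction_on with
  | zero => simp
  | add x y hx hy => simp only [map_add, hx, hy]
  | tmul x y => simp [ptContr]

theorem du_comm (a δ : Q →ₗ[k] k) (V : Q ⊗[k] Q) : δ (du a V) = a (du δ (cm V)) := by
  induction V using TensorProduct.induction_on with
  | zero => simp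
  | add x y hx hy => simp only [map_add, hx, hy]
  | tmul x y => simp [mul_comm]

theorem du_counit_mul {M : Type u} [CommRing M] [Algebra k M] (δ : Q →ₗ[k] k)
    (hδ : ∀ p q, δ (p * q) = δ p * εₗ q + εₗ p * δ q) (V W : Q ⊗[k] M) :
    du δ (V * W) = du δ V * du εₗ W + du εₗ V * du δ W := by
  induction V using TensorProduct.induction_on with
  | zero => simp
  | add x y hx hy => simp only [map_add, add_mul, hx, hy]; abel
  | tmul p m =>
    induction W using TensorProduct.induction_on with
    | zero => simp
    | add z w hz hw => simp only [map_add, mul_add, hz, hw]; abel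
    | tmul q n => simp [hδ, add_smul, smul_smul, mul_comm]

/-- A principal ideal whose generator has comultiplication in `(x ⊗ 1, 1 ⊗ x)` and is stable under the antipode is a
Hopf ideal. -/
theorem isHopfIdeal_span_singleton {x : Q} (h0 : Coalgebra.counit (R := k) x = 0) (a b : Q ⊗[k] Q)
    (hΔ : Coalgebra.comul (R := k) x = (x ⊗ₜ[k] (1 : Q)) * a + ((1 : Q) ⊗ₜ[k] x) * b)
    (hS : HopfAlgebraStruct.antipode (R := k) x ∈ Ideal.span {x}) : (Ideal.span {x}).IsHopfIdeal k := by
  have hk : ∀ z : Q ⊗[k] Q,
      TensorProduct.map ((Ideal.span {x}).restrictScalars k).mkQ ((Ideal.span {x}).restrictScalars k).mkQ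
        ((x ⊗ₜ[k] (1 : Q)) * z) = 0 ∧
      TensorProduct.map ((Ideal.span {x}).restrictScalars k).mkQ ((Ideal.span {x}).restrictScalars k).mkQ
        (((1 : Q) ⊗ₜ[k] x) * z) = 0 := fun z => by
    induction z using TensorProduct.induction_on with
    | zero => simp
    | add p q hp hq => simp only [mul_add, map_add, hp.1, hq.1, hp.2, hq.2, add_zero, and_self]
    | tmul p q =>
      have hm : ∀ r : Q, ((Ideal.span {x}).restrictScalars k).mkQ (x * r) = 0 := fun r =>
        (Submodule.Quotient.mk_eq_zero _).2 (Ideal.mem_span_singleton.2 (dvd_mul_right x r))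
      simp only [Algebra.TensorProduct.tmul_mul_tmul, one_mul, TensorProduct.map_tmul, hm,
        TensorProduct.zero_tmul, TensorProduct.tmul_zero, and_self]
  refine { counit_eq_zero := fun y hy => ?_, map_mkQ_comul_eq_zero := fun y hy => ?_, antipode_mem := fun y hy => ?_ }
  · obtain ⟨q, rfl⟩ := Ideal.mem_span_singleton'.1 hy
    rw [Bialgebra.counit_mul, h0, mul_zero]
  · obtain ⟨q, rfl⟩ := Ideal.mem_span_singleton'.1 hy
    rw [Bialgebra.comul_mul, hΔ, mul_add, ← mul_assoc, ← mul_assoc, mul_comm (Coalgebra.comul (R := k) q),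
      mul_comm (Coalgebra.comul (R := k) q), mul_assoc, mul_assoc, map_add, (hk _).1, (hk _).2, add_zero]
  · obtain ⟨q, rfl⟩ := Ideal.mem_span_singleton'.1 hy
    rw [show HopfAlgebraStruct.antipode (R := k) (q * x) = HopfAlgebra.antipodeAlgHom k Q (q * x) from rfl, map_mul]
    exact Ideal.mul_mem_left _ _ hS

theorem antipode_primitive {f : Q} (hf : Coalgebra.comul (R := k) f = f ⊗ₜ[k] (1 : Q) + (1 : Q) ⊗ₜ[k] f)
    (h0 : Coalgebra.counit (R := k) f = 0) : HopfAlgebraStruct.antipode (R := k) f = -f := by
  have h := HopfAlgebra.mul_antipode_rTensor_comul_apply (R := k) f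
  rw [hf, h0, map_zero, map_add, map_add] at h
  simp only [LinearMap.rTensor_tmul, LinearMap.mul'_apply, mul_one, HopfAlgebra.antipode_one, one_mul] at h
  exact eq_neg_of_add_eq_zero_left h

theorem antipode_groupLike {v : Q} (hv : Coalgebra.comul (R := k) v = v ⊗ₜ[k] v)
    (h1 : Coalgebra.counit (R := k) v = 1) : HopfAlgebraStruct.antipode (R := k) v * v = 1 := by
  have h := HopfAlgebra.mul_antipode_rTensor_comul_apply (R := k) v
  rw [hv, h1, map_one] at h
  simpa using h

variable (k) in
/-- The projection onto the augmentation ideal. -/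
noncomputable def augProj : Q →ₗ[k] Q := LinearMap.id - (Algebra.linearMap k Q) ∘ₗ εₗ

theorem eq_augProj_decomp (V : Q ⊗[k] Q) :
    V = TensorProduct.map (augProj k) (augProj k) V + (1 : Q) ⊗ₜ[k] du εₗ V + du εₗ (cm V) ⊗ₜ[k] (1 : Q)
      - εₗ (du εₗ V) • (1 : Q ⊗[k] Q) := by
  induction V using TensorProduct.induction_on with
  | zero => simp
  | add x y hx hy =>
    simp only [map_add, TensorProduct.tmul_add, TensorProduct.add_tmul, add_smul]
    conv_lhs => rw [hx, hy]
    abel
  | tmul p q =>
    simp only [TensorProduct.map_tmul, augProj, LinearMap.sub_apply, LinearMap.id_apply, LinearMap.comp_apply,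
      Algebra.linearMap_apply, Algebra.algebraMap_eq_smul_one, du_tmul, Algebra.TensorProduct.comm_tmul, map_smul,
      TensorProduct.sub_tmul, TensorProduct.tmul_sub, TensorProduct.smul_tmul', TensorProduct.tmul_smul,
      Algebra.TensorProduct.one_def, smul_eq_mul, smul_smul, smul_sub, mul_comm (εₗ q) (εₗ p)]
    abel

/-- An element with trivial counits in both factors lies in `(f ⊗ f)` when `f` generates the augmentation ideal. -/
theorem exists_eq_mul_of_counit {f : Q} (hgen : ∀ q, εₗ q = 0 → f ∣ q) {V : Q ⊗[k] Q} (h1 : du εₗ V = 0)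
    (h2 : du εₗ (cm V) = 0) : ∃ W, V = (f ⊗ₜ[k] f) * W := by
  have hε : ∀ q, εₗ (augProj k q) = 0 := fun q => by
    simp [augProj, Algebra.algebraMap_eq_smul_one]
  have hW : ∀ Z : Q ⊗[k] Q, ∃ W, TensorProduct.map (augProj k) (augProj k) Z = (f ⊗ₜ[k] f) * W := fun Z => by
    induction Z using TensorProduct.induction_on with
    | zero => exact ⟨0, by simp⟩
    | add x y hx hy =>
      obtain ⟨a, ha⟩ := hx
      obtain ⟨b, hb⟩ := hy
      exact ⟨a + b, by rw [map_add, ha, hb, mul_add]⟩
    | tmul p q =>
      obtain ⟨a, ha⟩ := hgen _ (hε p)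
      obtain ⟨b, hb⟩ := hgen _ (hε q)
      exact ⟨a ⊗ₜ b, by rw [TensorProduct.map_tmul, Algebra.TensorProduct.tmul_mul_tmul, ha, hb]⟩
  obtain ⟨W, hW⟩ := hW V
  refine ⟨W, ?_⟩
  conv_lhs => rw [eq_augProj_decomp V, h1, h2, hW]
  simp

theorem tmul_self_mul {f : Q} (hgen : ∀ q, εₗ q = 0 → f ∣ q) (h2 : f * f = 0) (z : Q ⊗[k] Q) :
    (f ⊗ₜ[k] f) * z = εₗ (LinearMap.mul' k Q z) • (f ⊗ₜ[k] f) := by
  have hp : ∀ p, f * p = εₗ p • f := fun p => by
    obtain ⟨r, hr⟩ := hgen (p - algebraMap k Q (εₗ p)) (by simp [Algebra.algebraMap_eq_smul_one])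
    rw [sub_eq_iff_eq_add] at hr
    conv_lhs => rw [hr]
    rw [mul_add, ← mul_assoc, h2, zero_mul, zero_add, Algebra.algebraMap_eq_smul_one, mul_smul_comm, mul_one]
  induction z using TensorProduct.induction_on with
  | zero => simp
  | add x y hx hy => simp only [mul_add, map_add, add_smul, hx, hy]
  | tmul p q =>
    simp only [Algebra.TensorProduct.tmul_mul_tmul, hp, LinearMap.mul'_apply, AlgHom.toLinearMap_apply, map_mul,
      TensorProduct.smul_tmul', TensorProduct.tmul_smul, smul_smul]
    rw [mul_comm]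

variable [FiniteDimensional k Q] {U : Q ⊗[k] Q} (hU : IsBichar U)
  (hsimple : ∀ I : Ideal Q, I.IsHopfIdeal k → I = ⊥ ∨ I = RingHom.ker (Bialgebra.counitAlgHom k Q))

include hU in
theorem du_counit_bichar : du εₗ U = 1 := by
  have e := congrArg (du (LinearMap.id : k →ₗ[k] k)) hU.counit_left
  rw [du_map_left, LinearMap.id_comp] at e
  rw [e, Algebra.TensorProduct.one_def, du_tmul]
  simp

include hU in
theorem counit_du (a : Q →ₗ[k] k) : εₗ (du a U) = a 1 := by
  rw [AlgHom.toLinearMap_apply, ← du_map_right, hU.counit_right, Algebra.TensorProduct.one_def, du_tmul]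
  simp

include hU hsimple in
/-- A point lies in the kernel of the pairing. -/
theorem ptContr_eq_one (φ : Q →ₐ[k] k) (hdiag : LinearMap.mul' k Q U = 1) : ptContr φ U = 1 := by
  have hΔ : Coalgebra.comul (R := k) (ptContr φ U) = ptContr φ U ⊗ₜ[k] ptContr φ U := by
    have e := congrArg (ptContr (M := Q ⊗[k] Q) φ) hU.comul_right
    rw [map_mul] at e
    simp only [ptContr_eq, du_map_right] at e ⊢
    refine e.trans ?_
    simp [Algebra.TensorProduct.tmul_mul_tmul]
  have h1 : Coalgebra.counit (R := k) (ptContr φ U) = 1 := by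
    rw [ptContr_eq]
    exact (counit_du hU φ.toLinearMap).trans (map_one φ)
  have hφ : φ (ptContr φ U) = 1 := by
    have h : ∀ V : Q ⊗[k] Q, φ (ptContr φ V) = φ (LinearMap.mul' k Q V) := fun V => by
      induction V using TensorProduct.induction_on with
      | zero => simp
      | add x y hx hy => simp only [map_add, hx, hy]
      | tmul x y => simp [ptContr, map_smul, smul_eq_mul, map_mul]
    rw [h, hdiag, map_one]
  set v := ptContr φ U with hv
  have hS := antipode_groupLike hΔ h1
  have hI : (Ideal.span {v - 1}).IsHopfIdeal k := by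
    refine isHopfIdeal_span_singleton (by rw [map_sub, h1, Bialgebra.counit_one, sub_self]) ((1 : Q) ⊗ₜ v) 1 ?_ ?_
    · rw [map_sub, hΔ, Bialgebra.comul_one, mul_one, Algebra.TensorProduct.tmul_mul_tmul, mul_one, one_mul,
        TensorProduct.sub_tmul, TensorProduct.tmul_sub, Algebra.TensorProduct.one_def]
      abel
    · rw [map_sub, HopfAlgebra.antipode_one]
      refine Ideal.mem_span_singleton'.2 ⟨-(HopfAlgebraStruct.antipode (R := k) v), ?_⟩
      rw [mul_sub, neg_mul, neg_mul, hS, mul_one]
      abel
  rcases hsimple _ hI with h | h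
  · exact sub_eq_zero.1 (Ideal.span_singleton_eq_bot.1 h)
  · have hφε : φ = Bialgebra.counitAlgHom k Q := AlgHom.ext fun q => by
      have hq : q - algebraMap k Q (Bialgebra.counitAlgHom k Q q) ∈ Ideal.span {v - 1} := by
        rw [h, RingHom.mem_ker, map_sub, AlgHom.commutes]
        simp
      obtain ⟨r, hr⟩ := Ideal.mem_span_singleton'.1 hq
      have := congrArg φ hr
      rw [map_mul, map_sub, hφ, map_one, sub_self, mul_zero, map_sub, AlgHom.commutes] at this
      exact (sub_eq_zero.1 this.symm).trans (by simp)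
    rw [hv, hφε, ptContr_eq]
    exact du_counit_bichar hU

include hU hsimple in
/-- A simple group scheme carries no perfect pairing of the form `c / c^swap`. -/
theorem eq_zero_of_bichar [IsAlgClosed k] (hdiag : LinearMap.mul' k Q U = 1) (hskew : U * cm U = 1)
    {c : Q ⊗[k] Q} (hcu : IsUnit c) (hc : c = U * cm c) (hcl : du εₗ c = 1) (hcr : du εₗ (cm c) = 1)
    (hperp : ∀ q, εₗ q = 0 → q ∈ Ideal.span (Set.range fun a : Q →ₗ[k] k => du a U - algebraMap k Q (a 1)))
    (q : Q) (hq : εₗ q = 0) : q = 0 := by
  -- a linear form which is multiplicative or a derivation is determined by its values on the generators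
  have hall : ∀ φ : Q →ₐ[k] k, φ = Bialgebra.counitAlgHom k Q := fun φ => AlgHom.ext fun x => by
    have hcm : du φ.toLinearMap (cm U) = 1 := by
      have e := congrArg (ptContr φ) hskew
      rw [map_mul, map_one, ptContr_eq_one hU hsimple φ hdiag, one_mul, ptContr_eq] at e
      exact e
    have hker : Ideal.span (Set.range fun a : Q →ₗ[k] k => du a U - algebraMap k Q (a 1)) ≤ RingHom.ker φ := by
      refine Ideal.span_le.2 ?_
      rintro _ ⟨a, rfl⟩
      rw [SetLike.mem_coe, RingHom.mem_ker, map_sub, AlgHom.commutes]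
      have h := du_comm a φ.toLinearMap U
      rw [hcm, AlgHom.toLinearMap_apply] at h
      rw [h]
      simp
    have := hker (hperp (x - algebraMap k Q (Bialgebra.counitAlgHom k Q x)) (by simp [Algebra.algebraMap_eq_smul_one]))
    rw [RingHom.mem_ker, map_sub, AlgHom.commutes, sub_eq_zero] at this
    exact this.trans (by simp)
  -- hence the augmentation ideal is nilpotent
  have hnil : ∀ x, εₗ x = 0 → IsNilpotent x := fun x hx => by
    rw [nilpotent_iff_mem_prime]
    intro P hP
    haveI : P.IsPrime := hP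
    haveI : IsDomain (Q ⧸ P) := Ideal.Quotient.isDomain P
    haveI : Algebra.IsIntegral k (Q ⧸ P) := Algebra.IsIntegral.of_finite k _
    let e : k ≃ₐ[k] (Q ⧸ P) := AlgEquiv.ofBijective (Algebra.ofId k (Q ⧸ P)) IsAlgClosed.algebraMap_bijective_of_isIntegral
    have h := DFunLike.congr_fun (hall (e.symm.toAlgHom.comp (Ideal.Quotient.mkₐ k P))) x
    rw [AlgHom.toLinearMap_apply] at hx
    rw [hx] at h
    exact Ideal.Quotient.eq_zero_iff_mem.1 (e.symm.injective (h.trans (map_zero e.symm).symm))
  let m : Ideal Q := RingHom.ker (Bialgebra.counitAlgHom k Q)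
  haveI : IsNoetherianRing Q := IsNoetherianRing.of_finite k Q
  by_contra hq0
  -- a derivation at the origin
  obtain ⟨δ, hδ, y, hy, hδy⟩ : ∃ δ : Q →ₗ[k] k, (∀ a b, δ (a * b) = δ a * εₗ b + εₗ a * δ b) ∧
      ∃ y, εₗ y = 0 ∧ δ y ≠ 0 := by
    have hne : m * m ≠ m := by
      intro h
      have hmn : IsNilpotent m := Ideal.FG.isNilpotent_iff_le_nilradical (IsNoetherian.noetherian m) |>.2
        fun x hx => hnil x hx
      obtain ⟨N, hN⟩ := hmn
      have hpow : ∀ n, 0 < n → m ^ n = m := by
        intro n hn
        induction n with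
        | zero => omega
        | succ n ih =>
          rcases Nat.eq_zero_or_pos n with rfl | hn'
          · rw [zero_add, pow_one]
          · rw [pow_succ, ih hn', h]
      have hm0 : m = ⊥ := by
        rcases Nat.eq_zero_or_pos N with rfl | hN'
        · rw [pow_zero] at hN
          exact eq_bot_iff.2 fun x _ => by
            have : (1 : Ideal Q) = ⊤ := Ideal.one_eq_top
            rw [this] at hN
            exact (hN.le trivial)
        · rw [← hpow N hN']; exact hN
      exact hq0 ((Submodule.mem_bot Q).1 (hm0 ▸ (hq : q ∈ m)))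
    haveI : IsScalarTower k Q Q := inferInstance
    obtain ⟨y, hy, hy'⟩ := SetLike.exists_of_lt (lt_of_le_of_ne Ideal.mul_le_left hne)
    let W : Submodule k Q := (m * m).restrictScalars k ⊔ Submodule.span k {(1 : Q)}
    have hyW : y ∉ W := fun h => by
      obtain ⟨a, ha, b, hb, rfl⟩ := Submodule.mem_sup.1 h
      obtain ⟨r, rfl⟩ := Submodule.mem_span_singleton.1 hb
      have ha' : Bialgebra.counitAlgHom k Q a = 0 := Ideal.mul_le_left ha
      have : r = 0 := by
        have h0 : Bialgebra.counitAlgHom k Q (a + r • 1) = 0 := hy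
        rw [map_add, ha', map_smul, map_one, zero_add, smul_eq_mul, mul_one] at h0
        exact h0
      rw [this, zero_smul, add_zero] at hy'
      exact hy' ha
    obtain ⟨δ, hδ0, hδW⟩ := Submodule.exists_dual_map_eq_bot_of_notMem hyW inferInstance
    have hW : ∀ w ∈ W, δ w = 0 := fun w hw => by
      have : δ w ∈ W.map δ := ⟨w, hw, rfl⟩
      rwa [hδW, Submodule.mem_bot] at this
    refine ⟨δ, fun a b => ?_, y, hy, hδ0⟩
    have hmm : (a - algebraMap k Q (εₗ a)) * (b - algebraMap k Q (εₗ b)) ∈ m * m := by
      refine Ideal.mul_mem_mul ?_ ?_ <;> simp [m, RingHom.mem_ker]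
    have h0 := hW _ (Submodule.mem_sup_left hmm)
    have h1 : δ 1 = 0 := hW _ (Submodule.mem_sup_right (Submodule.subset_span rfl))
    simp only [Algebra.algebraMap_eq_smul_one, sub_mul, mul_sub, smul_mul_assoc, mul_smul_comm, one_mul, mul_one,
      map_sub, map_smul, h1, smul_eq_mul, mul_zero, sub_zero] at h0
    linear_combination h0
  have hδ1 : δ 1 = 0 := by
    have := hδ 1 1
    simp only [mul_one, AlgHom.toLinearMap_apply, map_one, one_mul] at this
    linear_combination -this
  -- the primitive element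
  let f := du δ U
  have hf0 : f ≠ 0 := fun h => by
    have hg : ∀ a : Q →ₗ[k] k, δ (du a U) = 0 := fun a => by
      have e := congrArg (du δ) hskew
      rw [du_counit_mul δ hδ, Algebra.TensorProduct.one_def, du_tmul, hδ1, zero_smul, du_counit_bichar hU, one_mul,
        show du δ U = 0 from h, zero_mul, zero_add] at e
      rw [du_comm, e, map_zero]
    have hI : ∀ x ∈ Ideal.span (Set.range fun a : Q →ₗ[k] k => du a U - algebraMap k Q (a 1)), δ x = 0 ∧ εₗ x = 0 :=
      fun x hx => by
        induction hx using Submodule.span_induction with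
        | mem z hz =>
          obtain ⟨a, rfl⟩ := hz
          show δ (du a U - algebraMap k Q (a 1)) = 0 ∧ εₗ (du a U - algebraMap k Q (a 1)) = 0
          rw [Algebra.algebraMap_eq_smul_one, map_sub, map_sub, map_smul, map_smul, hg, hδ1, counit_du hU]
          simp
        | zero => simp
        | add p r _ _ hp hr =>
          exact ⟨by rw [map_add, hp.1, hr.1, add_zero], by rw [map_add, hp.2, hr.2, add_zero]⟩
        | smul r p _ hp =>
          refine ⟨by rw [smul_eq_mul, hδ, hp.1, hp.2, mul_zero, mul_zero, add_zero], ?_⟩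
          rw [smul_eq_mul, AlgHom.toLinearMap_apply, map_mul, ← AlgHom.toLinearMap_apply, ← AlgHom.toLinearMap_apply,
            hp.2, mul_zero]
    exact hδy (hI y (hperp y hy)).1
  have hfε : Coalgebra.counit (R := k) f = 0 := (counit_du hU δ).trans hδ1
  have hfΔ : Coalgebra.comul (R := k) f = f ⊗ₜ[k] (1 : Q) + (1 : Q) ⊗ₜ[k] f := by
    have e := congrArg (du δ) hU.comul_right
    rw [du_counit_mul (M := Q ⊗[k] Q) δ hδ, du_map_right, du_map_right, du_map_right, du_map_right, du_map_right,
      du_counit_bichar hU, map_one, map_one, mul_one, one_mul] at e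
    exact e
  have hgen : ∀ x, εₗ x = 0 → f ∣ x := fun x hx => by
    have hI := isHopfIdeal_span_singleton hfε 1 1 (by rw [mul_one, mul_one, hfΔ])
      (by rw [antipode_primitive hfΔ hfε]; exact neg_mem (Ideal.mem_span_singleton_self f))
    rcases hsimple _ hI with h | h
    · exact absurd (Ideal.span_singleton_eq_bot.1 h) hf0
    · exact Ideal.mem_span_singleton.1 (h ▸ (hx : x ∈ m))
  obtain ⟨W, hW⟩ := exists_eq_mul_of_counit hgen (V := U - 1)
    (by rw [map_sub, du_counit_bichar hU, Algebra.TensorProduct.one_def, du_tmul]; simp)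
    (by
      have e : du εₗ (cm U) = 1 := by
        have h := congrArg (ptContr (Bialgebra.counitAlgHom k Q)) hskew
        rw [map_mul, map_one, ptContr_eq, ptContr_eq, du_counit_bichar hU, one_mul] at h
        exact h
      rw [map_sub, map_sub, e, map_one, Algebra.TensorProduct.one_def, du_tmul]; simp)
  have hfU : f = δ f • (f * du εₗ W) := by
    have h : ∀ Z : Q ⊗[k] Q, du δ ((f ⊗ₜ[k] f) * Z) = δ f • (f * du εₗ Z) := fun Z => by
      have hεf : εₗ f = 0 := hfε
      rw [du_counit_mul δ hδ, du_tmul, du_tmul, hεf, zero_smul, zero_mul, add_zero, smul_mul_assoc]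
    have e := congrArg (du δ) (sub_eq_iff_eq_add.1 hW)
    rw [map_add, h, Algebra.TensorProduct.one_def, du_tmul, hδ1, zero_smul, add_zero] at e
    exact e
  have hεW : εₗ (LinearMap.mul' k Q W) = εₗ (du εₗ W) := by
    clear hW hfU
    induction W using TensorProduct.induction_on with
    | zero => simp
    | add x y hx hy => simp only [map_add, hx, hy]
    | tmul a b => simp
  by_cases hw : εₗ (du εₗ W) = 0
  · -- `f` is a multiple of itself by a nilpotent element
    obtain ⟨N, hN⟩ := hnil _ hw
    have hi : ∀ n, f = δ f ^ n • (f * du εₗ W ^ n) := fun n => by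
      induction n with
      | zero => simp
      | succ n ih =>
        conv_lhs => rw [hfU]
        conv_lhs => arg 2; arg 1; rw [ih]
        rw [smul_mul_assoc, smul_smul, mul_assoc, pow_succ', pow_succ]
    exact hf0 ((hi N).trans (by rw [hN, mul_zero, smul_zero]))
  · -- `f ^ 2 = 0`, so that `c` is symmetric
    have hunit : IsUnit (LinearMap.mul' k Q W) := by
      have hn := hnil (LinearMap.mul' k Q W - algebraMap k Q (εₗ (du εₗ W))) (by
        rw [map_sub, hεW]; simp [Algebra.algebraMap_eq_smul_one])
      have hu : IsUnit (algebraMap k Q (εₗ (du εₗ W))) := (Ne.isUnit hw).map _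
      simpa using hn.isUnit_add_left_of_commute hu (Commute.all _ _)
    have hff : f * f = 0 := by
      have hlm : LinearMap.mul' k Q ((f ⊗ₜ[k] f) * W) = (f * f) * LinearMap.mul' k Q W := by
        have : ∀ a b : Q ⊗[k] Q, LinearMap.mul' k Q (a * b) = LinearMap.mul' k Q a * LinearMap.mul' k Q b := fun a b =>
          map_mul (Algebra.TensorProduct.lmul' k : Q ⊗[k] Q →ₐ[k] Q) a b
        rw [this, LinearMap.mul'_apply]
      have e := congrArg (LinearMap.mul' k Q) hW
      rw [map_sub, hdiag, hlm, Algebra.TensorProduct.one_def, LinearMap.mul'_apply, one_mul, sub_self] at e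
      exact (hunit.mul_left_eq_zero).1 e.symm
    obtain ⟨V, hV⟩ := exists_eq_mul_of_counit hgen (V := c - 1)
      (by rw [map_sub, hcl, Algebra.TensorProduct.one_def, du_tmul]; simp)
      (by rw [map_sub, map_sub, hcr, map_one, Algebra.TensorProduct.one_def, du_tmul]; simp)
    have hcsym : cm c = c := by
      have hcV : c = 1 + εₗ (LinearMap.mul' k Q V) • (f ⊗ₜ[k] f) := by
        rw [← tmul_self_mul hgen hff V, ← hV]; abel
      rw [hcV, map_add, map_one, map_smul, Algebra.TensorProduct.comm_tmul]
    rw [hcsym] at hc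
    have hU1 : U = 1 := (hcu.mul_eq_right).1 hc.symm
    apply hf0
    show du δ U = 0
    rw [hU1, Algebra.TensorProduct.one_def, du_tmul, hδ1, zero_smul]

end Groth.Agent.ThetaLib
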