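import Groth.Agent.ThetaLib.PerpRank
import Groth.Agent.ThetaLib.BicharSimple

/-!
# A non-trivial finite `K(L)` has a non-trivial totally isotropic subgroup
-/

set_option autoImplicit false
set_option backward.isDefEq.respectTransparency.types false
set_option linter.style.haveILetI false
set_option linter.unusedSectionVars false
set_option maxHeartbeats 800000

universe u

open CategoryTheory CategoryTheory.Limits MonoidalCategory CartesianMonoidalCategory MonObj AlgebraicGeometry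
open CoactBr
open scoped TensorProduct

namespace Groth.Agent.ThetaLib

variable {k : Type u} [Field k] {A : Over (Spec (CommRingCat.of k))} [GrpObj A] [IsProper A.hom]
  [GeometricallyIntegral A.hom] [IsCommMonObj A] {L : A.left.Modules}

/-- The scalar comparing the product of two lifts with the lift of the product. -/
theorem exists_prodScal (hL : PicF.IsInvertible L) {N : Over (Spec (CommRingCat.of k))} [GrpObj N] {i : N ⟶ A}
    [IsMonHom i] [Mono i] {σ : ThetaGrp.thetaPts A L N} (hσ : tpt σ = i)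
    (hσ1 : ∀ T : Over (Spec (CommRingCat.of k)), res (1 : T ⟶ N) σ = 1) :
    ∃ cc : ∀ {T : Over (Spec (CommRingCat.of k))}, (T ⟶ N) → (T ⟶ N) → Γ(T.left, ⊤)ˣ,
      (∀ {T T' : Over (Spec (CommRingCat.of k))} (t : T' ⟶ T) (a b : T ⟶ N),
        cc (t ≫ a) (t ≫ b) = Units.map t.left.appTop.hom.toMonoidHom (cc a b)) ∧
      (∀ {T : Over (Spec (CommRingCat.of k))} (a b : T ⟶ N), cc a b = ePair hL σ σ a b * cc b a) ∧
      (∀ {T : Over (Spec (CommRingCat.of k))} (b : T ⟶ N), cc 1 b = 1) ∧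
      (∀ {T : Over (Spec (CommRingCat.of k))} (a : T ⟶ N), cc a 1 = 1) := by
  have hex : ∀ (T : Over (Spec (CommRingCat.of k))) (a b : T ⟶ N),
      ∃ c : Γ(T.left, ⊤)ˣ, res a σ * res b σ = scalPt L c * res (a * b) σ := fun T a b => by
    obtain ⟨c, hc⟩ := exists_eq_scalPt hL (c := res a σ * res b σ * (res (a * b) σ)⁻¹) (by
      rw [tpt_mul, tpt_mul, tpt_inv, tpt_res, tpt_res, tpt_res, hσ, MonObj.mul_comp, mul_comm (b ≫ i),
        inv_mul_cancel])
    exact ⟨c, by rw [← hc, inv_mul_cancel_right]⟩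
  choose cc hcc using hex
  have huniq : ∀ {T : Over (Spec (CommRingCat.of k))} {a b : T ⟶ N} {c : Γ(T.left, ⊤)ˣ},
      res a σ * res b σ = scalPt L c * res (a * b) σ → cc T a b = c := fun h =>
    scalPt_injective hL (mul_right_cancel ((hcc _ _ _).symm.trans h))
  refine ⟨fun {T} => cc T, fun t a b => huniq (by
    rw [← res_res, ← res_res, ← res_mul, hcc, res_mul, res_scalPt, res_res, MonObj.comp_mul]),
    fun {T} a b => huniq ?_, fun {T} b => huniq (by rw [hσ1, scalPt_one, _root_.one_mul, _root_.one_mul, _root_.one_mul]),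
    fun {T} a => huniq (by rw [hσ1, scalPt_one, _root_.one_mul, _root_.mul_one, _root_.mul_one])⟩
  have hab : b * a = a * b := (cancel_mono i).1 (by rw [MonObj.mul_comp, MonObj.mul_comp, mul_comm])
  rw [ePair, commU_spec hL (res a σ) (res b σ), hcc, hab, scalPt_mul, _root_.mul_assoc]

section

variable {Q : Type u} [CommRing Q] [HopfAlgebra k Q]

theorem du_eq_productMap_left (V : Q ⊗[k] Q) :
    AbDualLib.du (Bialgebra.counitAlgHom k Q).toLinearMap V =
      Algebra.TensorProduct.productMap ((Algebra.ofId k Q).comp (Bialgebra.counitAlgHom k Q)) (AlgHom.id k Q) V := by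
  induction V using TensorProduct.induction_on with
  | zero => simp
  | add x y hx hy => simp only [map_add, hx, hy]
  | tmul x y => simp [Algebra.smul_def]

theorem du_eq_productMap_right (V : Q ⊗[k] Q) :
    AbDualLib.du (Bialgebra.counitAlgHom k Q).toLinearMap (Algebra.TensorProduct.comm k Q Q V) =
      Algebra.TensorProduct.productMap (AlgHom.id k Q) ((Algebra.ofId k Q).comp (Bialgebra.counitAlgHom k Q)) V := by
  induction V using TensorProduct.induction_on with
  | zero => simp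
  | add x y hx hy => simp only [map_add, hx, hy]
  | tmul x y => simp [Algebra.smul_def, mul_comm]

theorem comm_eq_productMap (V : Q ⊗[k] Q) :
    Algebra.TensorProduct.comm k Q Q V =
      Algebra.TensorProduct.productMap (Algebra.TensorProduct.includeRight : Q →ₐ[k] Q ⊗[k] Q)
        Algebra.TensorProduct.includeLeft V := by
  induction V using TensorProduct.induction_on with
  | zero => simp
  | add x y hx hy => simp only [map_add, hx, hy]
  | tmul x y => simp

theorem mul'_eq_productMap (V : Q ⊗[k] Q) :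
    LinearMap.mul' k Q V = Algebra.TensorProduct.productMap (AlgHom.id k Q) (AlgHom.id k Q) V := by
  induction V using TensorProduct.induction_on with
  | zero => simp
  | add x y hx hy => simp only [map_add, hx, hy]
  | tmul x y => simp

variable [FiniteDimensional k Q]

/-- A closed subgroup of `K(L)` given by a simple Hopf algebra is totally isotropic. -/
theorem isIsotropic_of_simple [IsAlgClosed k] (hL : PicF.IsInvertible L) {K : Over (Spec (CommRingCat.of k))}
    {iK : K ⟶ A} (hK : ThetaGrp.IsKL A L iK) (i : sp k Q ⟶ A) [IsMonHom i] [IsClosedImmersion i.left]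
    (hi : ∃ y, y ≫ iK = i) (hne : rk (sp k Q) ≠ 1)
    (hmin : ∀ (Z : Over (Spec (CommRingCat.of k))) [GrpObj Z] (j : Z ⟶ A) [IsMonHom j] [IsClosedImmersion j.left],
      IsFinite Z.hom → (∃ y, y ≫ i = j) → rk Z = 1 ∨ ∃ w : sp k Q ⟶ Z, w ≫ j = i) :
    ThetaGrp.IsIsotropic L i := by
  haveI : IsFinite (sp k Q).hom :=
    (IsFinite.SpecMap_iff (CommRingCat.ofHom (algebraMap k Q))).2 (RingHom.finite_algebraMap.2 inferInstance)
  haveI : Mono i := Over.mono_of_mono_left i
  obtain ⟨σ₀, hσ₀⟩ := exists_lift_univ hL hK i hi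
  obtain ⟨σ, hσ, hσ1⟩ := exists_normalised i hσ₀
  obtain ⟨Z, gZ, iZ, hiZ, hcZ, hfZ, hZpts, -⟩ := exists_perp_spec hL i i σ hσ σ hσ
  obtain ⟨⟨z₀, hz₀⟩, hperpZ⟩ := (hZpts Z iZ).1 ⟨𝟙 Z, Category.id_comp iZ⟩
  rcases hmin Z iZ hfZ ⟨z₀, hz₀⟩ with h1 | ⟨w, hw⟩
  swap
  · intro T a b β₁ β₂ h₁ h₂
    exact hperpZ T (a ≫ w) b β₁ β₂ (by rw [Category.assoc, hw]; exact h₁) h₂
  exfalso
  apply hne
  haveI : Coalgebra.IsCocomm k Q := isCocomm_of_mul_comm fun a b => by
    rw [← cancel_mono i, MonObj.mul_comp, MonObj.mul_comp, mul_comm]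
  have hU := isBichar_eEl hL σ σ hσ hσ
  obtain ⟨cc, hnat, hswap, hc1, hc2⟩ := exists_prodScal hL hσ hσ1
  -- values of the cocycle
  let cVal : ∀ {T : Type u} [CommRing T] [Algebra k T], (Q →ₐ[k] T) → (Q →ₐ[k] T) → T :=
    fun {T} _ _ φ ψ => AbDualLib.evSp (k := k) T (cc (pt φ) (pt ψ) :)
  have hcomp : ∀ {T T' : Type u} [CommRing T] [Algebra k T] [CommRing T'] [Algebra k T'] (χ : T →ₐ[k] T')
      (φ ψ : Q →ₐ[k] T), cVal (χ.comp φ) (χ.comp ψ) = χ (cVal φ ψ) := fun {T T'} _ _ _ _ χ φ ψ => by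
    show AbDualLib.evSp (k := k) T' (cc (pt (χ.comp φ)) (pt (χ.comp ψ)) :) = _
    rw [pt_comp, pt_comp, hnat]
    exact AbDualLib.evSp_pt χ _
  let c : Q ⊗[k] Q := cVal Algebra.TensorProduct.includeLeft Algebra.TensorProduct.includeRight
  have hcV : ∀ {T : Type u} [CommRing T] [Algebra k T] (φ ψ : Q →ₐ[k] T),
      cVal φ ψ = Algebra.TensorProduct.productMap φ ψ c := fun φ ψ => by
    rw [← hcomp, Algebra.TensorProduct.productMap_left, Algebra.TensorProduct.productMap_right]
  have hone : ∀ (T : Type u) [CommRing T] [Algebra k T],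
      pt ((Algebra.ofId k T).comp (Bialgebra.counitAlgHom k Q)) = (1 : sp k T ⟶ sp k Q) :=
    fun T _ _ => one_eq_pt.symm
  have hdiag : LinearMap.mul' k Q (eEl hL σ σ) = 1 := by
    rw [mul'_eq_productMap, ← eVal_eq, eVal, ePair, (commU_eq_one_iff hL).2 rfl, Units.val_one, map_one]
  have hskew : eEl hL σ σ * Algebra.TensorProduct.comm k Q Q (eEl hL σ σ) = 1 := by
    rw [comm_eq_productMap, ← eVal_eq, eEl, eVal, eVal, ← map_mul, ← Units.val_mul]
    simp only [ePair]
    rw [commU_swap hL (res (pt (Algebra.TensorProduct.includeLeft : Q →ₐ[k] Q ⊗[k] Q)) σ), mul_inv_cancel,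
      Units.val_one, map_one]
  have hcu : IsUnit c := (Units.isUnit _).map (AbDualLib.evSp (k := k) _)
  have hc : c = eEl hL σ σ * Algebra.TensorProduct.comm k Q Q c := by
    rw [comm_eq_productMap, ← hcV]
    show AbDualLib.evSp (k := k) _ _ = AbDualLib.evSp (k := k) _ _ * AbDualLib.evSp (k := k) _ _
    rw [← map_mul, ← Units.val_mul, ← hswap]
  have hcl : AbDualLib.du (Bialgebra.counitAlgHom k Q).toLinearMap c = 1 := by
    rw [du_eq_productMap_left, ← hcV]
    show AbDualLib.evSp (k := k) _ _ = _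
    rw [hone, hc1, Units.val_one, map_one]
  have hcr : AbDualLib.du (Bialgebra.counitAlgHom k Q).toLinearMap (Algebra.TensorProduct.comm k Q Q c) = 1 := by
    rw [du_eq_productMap_right, ← hcV]
    show AbDualLib.evSp (k := k) _ _ = _
    rw [hone, hc2, Units.val_one, map_one]
  have hperp : ∀ q, (Bialgebra.counitAlgHom k Q).toLinearMap q = 0 →
      q ∈ Ideal.span (Set.range fun a : Q →ₗ[k] k =>
        AbDualLib.du a (eEl hL σ σ) - algebraMap k Q (a 1)) := fun q hq => by
    set I := Ideal.span (Set.range fun a : Q →ₗ[k] k => AbDualLib.du a (eEl hL σ σ) - algebraMap k Q (a 1))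
    let h : Q →ₐ[k] Q ⧸ I := Ideal.Quotient.mkₐ k I
    have hv : pt h ≫ pt (hU.toDual : CartDual.D k Q →ₐ[k] Q) = 1 := by
      rw [← pt_comp, one_eq_pt]
      refine congrArg pt (AlgHom.ext fun a => ?_)
      show h (AbDualLib.du a.ofConv (eEl hL σ σ)) = algebraMap k (Q ⧸ I) (a 1)
      rw [← h.commutes, ← sub_eq_zero, ← map_sub]
      exact Ideal.Quotient.eq_zero_iff_mem.2 (Ideal.subset_span ⟨a.ofConv, rfl⟩)
    obtain ⟨z, hz⟩ := (hZpts _ (pt h ≫ i)).2
      ⟨⟨pt h, rfl⟩, (comp_toDual_eq_one_iff hL σ σ hσ hσ hU h).1 hv⟩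
    rw [eq_one_of_rk_eq_one h1 z, MonObj.one_comp, ← MonObj.one_comp i, cancel_mono, ← hone] at hz
    have hq' := DFunLike.congr_fun (pt_injective hz) q
    rw [AlgHom.toLinearMap_apply] at hq
    rw [AlgHom.comp_apply, hq, map_zero] at hq'
    exact Ideal.Quotient.eq_zero_iff_mem.1 hq'.symm
  have hsimple : ∀ I : Ideal Q, I.IsHopfIdeal k → I = ⊥ ∨ I = RingHom.ker (Bialgebra.counitAlgHom k Q) := by
    intro I hI
    haveI := hI
    let j : sp k (Q ⧸ I) ⟶ sp k Q := HopfQuot.specHom (Bialgebra.Quotient.mkBialgHom (R := k) I)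
    haveI : IsClosedImmersion j.left := IsClosedImmersion.spec_of_surjective _ Ideal.Quotient.mk_surjective
    haveI : IsClosedImmersion (j ≫ i).left := by rw [Over.comp_left]; infer_instance
    haveI : Module.Finite k (Q ⧸ I) := Module.Finite.of_surjective (Ideal.Quotient.mkₐ k I).toLinearMap
      Ideal.Quotient.mk_surjective
    haveI hIf : IsFinite (sp k (Q ⧸ I)).hom :=
      (IsFinite.SpecMap_iff (CommRingCat.ofHom (algebraMap k (Q ⧸ I)))).2
        (RingHom.finite_algebraMap.2 inferInstance)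
    rcases hmin (sp k (Q ⧸ I)) (j ≫ i) hIf ⟨j, rfl⟩ with h | ⟨w, hw⟩
    · refine Or.inr (le_antisymm (fun x hx => ?_) fun x hx => ?_)
      · exact Submodule.IsCoideal.counit_eq_zero (I := I.restrictScalars k) hx
      · have e : pt (Ideal.Quotient.mkₐ k I) = (1 : sp k (Q ⧸ I) ⟶ sp k Q) := by
          rw [show pt (Ideal.Quotient.mkₐ k I) = 𝟙 _ ≫ j from (Category.id_comp j).symm,
            eq_one_of_rk_eq_one h (𝟙 _), MonObj.one_comp]
        have hx' := DFunLike.congr_fun (pt_injective (e.trans (hone _).symm)) x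
        rw [RingHom.mem_ker] at hx
        rw [AlgHom.comp_apply, hx, map_zero] at hx'
        exact Ideal.Quotient.eq_zero_iff_mem.1 hx'
    · refine Or.inl (eq_bot_iff.2 fun x hx => ?_)
      have hwj : w ≫ j = 𝟙 _ := by rw [← cancel_mono i, Category.assoc, hw, Category.id_comp]
      obtain ⟨φ, hφ⟩ := Groth.Agent.Misc15.AffinePoints.pt_surjective w
      have e : pt (φ.comp (Ideal.Quotient.mkₐ k I)) = pt (AlgHom.id k Q) := by
        rw [pt_comp, hφ]
        refine hwj.trans (Over.OverMorphism.ext ?_)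
        rw [pt_left]
        exact (Spec.map_id _).symm
      have hx' := DFunLike.congr_fun (pt_injective e) x
      rw [AlgHom.comp_apply, show Ideal.Quotient.mkₐ k I x = 0 from Ideal.Quotient.eq_zero_iff_mem.2 hx, map_zero] at hx'
      exact (Submodule.mem_bot Q).2 hx'.symm
  have hzero := eq_zero_of_bichar hU hsimple hdiag hskew hcu hc hcl hcr hperp
  rw [rk_spec]
  haveI : Nontrivial Q :=
    nontrivial_of_ne 1 0 fun h => one_ne_zero (α := k) (by simpa using congrArg (Bialgebra.counitAlgHom k Q) h)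
  refine finrank_eq_one (1 : Q) one_ne_zero fun q => ⟨Bialgebra.counitAlgHom k Q q, ?_⟩
  rw [← Algebra.algebraMap_eq_smul_one, eq_comm, ← sub_eq_zero]
  exact hzero _ (by simp [Algebra.algebraMap_eq_smul_one])

end

/-- A finite `K(L)` of rank `> 1` contains a totally isotropic closed subgroup of rank `> 1`. -/
theorem exists_isotropic_subgroup [IsAlgClosed k] (hL : PicF.IsInvertible L) {K : Over (Spec (CommRingCat.of k))}
    [GrpObj K] {iK : K ⟶ A} [IsMonHom iK] (hK : ThetaGrp.IsKL A L iK) [IsFinite K.hom] (h : rk K ≠ 1) :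
    ∃ (P : Over (Spec (CommRingCat.of k))) (_ : GrpObj P) (iP : P ⟶ A), IsMonHom iP ∧ IsClosedImmersion iP.left ∧
      IsFinite P.hom ∧ (∃ y, y ≫ iK = iP) ∧ ThetaGrp.IsIsotropic L iP ∧ rk P ≠ 1 := by
  classical
  haveI := hK.closed
  have hex : ∃ r, r ≠ 1 ∧ ∃ (P : Over (Spec (CommRingCat.of k))) (_ : GrpObj P) (iP : P ⟶ A), IsMonHom iP ∧
      IsClosedImmersion iP.left ∧ IsFinite P.hom ∧ (∃ y, y ≫ iK = iP) ∧ rk P = r :=
    ⟨rk K, h, K, inferInstance, iK, inferInstance, inferInstance, inferInstance, ⟨𝟙 K, Category.id_comp iK⟩, rfl⟩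
  obtain ⟨hne, P, gP, iP, hiP, hcP, hfP, ⟨y, hy⟩, hr⟩ := Nat.find_spec hex
  haveI := hiP; haveI := hcP; haveI := hfP
  haveI : IsAffine P.left := isAffine_of_isAffineHom P.hom
  obtain ⟨Q, _, _, e, _, _⟩ := HopfQuot.exists_spec (k := k) P
  haveI : IsIso e.left := inferInstanceAs (IsIso ((Over.forget _).map e))
  haveI hf : IsFinite (sp k Q).hom := by rw [← Over.w e]; infer_instance
  haveI : Module.Finite k Q :=
    RingHom.finite_algebraMap.1 ((IsFinite.SpecMap_iff (CommRingCat.ofHom (algebraMap k Q))).1 hf)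
  haveI : IsClosedImmersion (e ≫ iP).left := by rw [Over.comp_left]; infer_instance
  have hrk : rk (sp k Q) = rk P := rk_congr (asIso e)
  refine ⟨P, gP, iP, hiP, hcP, hfP, ⟨y, hy⟩, ?_, hr ▸ hne⟩
  have hiso := isIsotropic_of_simple hL hK (e ≫ iP) ⟨e ≫ y, by rw [Category.assoc, hy]⟩ (by rw [hrk, hr]; exact hne)
    (fun Z _ j _ _ hZf ⟨v, hv⟩ => ?_)
  · intro T a b β₁ β₂ h₁ h₂
    exact hiso T (a ≫ CategoryTheory.inv e) (b ≫ CategoryTheory.inv e) β₁ β₂
      (by rw [Category.assoc, IsIso.inv_hom_id_assoc]; exact h₁) (by rw [Category.assoc, IsIso.inv_hom_id_assoc]; exact h₂)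
  haveI := hZf
  by_cases h1 : rk Z = 1
  · exact Or.inl h1
  have hmin : rk P ≤ rk Z := hr ▸ Nat.find_le ⟨h1, Z, inferInstance, j, inferInstance, inferInstance, hZf,
    ⟨v ≫ e ≫ y, by rw [Category.assoc, Category.assoc, hy, hv]⟩, rfl⟩
  haveI : IsClosedImmersion v.left := by
    haveI : IsClosedImmersion (v.left ≫ (e ≫ iP).left) := by rw [← Over.comp_left, hv]; infer_instance
    exact IsClosedImmersion.of_comp v.left (e ≫ iP).left
  refine Or.inr ?_
  haveI := isIso_of_rk_le v (hrk ▸ hmin)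
  exact ⟨CategoryTheory.inv v, by rw [IsIso.inv_comp_eq, hv]⟩

end Groth.Agent.ThetaLib
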