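import Groth.Agent.ThetaLib.DegreeEq
import Groth.Agent.ThetaLib.IsotropicExists
import Groth.Agent.S19954

/-!
# Maximal totally isotropic subgroups of `K(L)`
-/

set_option autoImplicit false
set_option backward.isDefEq.respectTransparency.types false
set_option linter.style.haveILetI false
set_option linter.unusedSectionVars false
set_option maxHeartbeats 800000

universe u

open CategoryTheory CategoryTheory.Limits MonoidalCategory CartesianMonoidalCategory MonObj AlgebraicGeometry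
open Groth.Agent.PicLib

namespace Groth.Agent.ThetaLib

variable {k : Type u} [Field k] {A : Over (Spec (CommRingCat.of k))} [GrpObj A]
  [IsCommMonObj A] [IsProper A.hom] [GeometricallyIntegral A.hom]

/-- A maximal totally isotropic subgroup is its own orthogonal, of rank the square root. -/
theorem perp_eq_self_of_maximal [IsAlgClosed k] {L : A.left.Modules} (hL : PicF.IsInvertible L)
    {K : Over (Spec (CommRingCat.of k))} {iK : K ⟶ A} (hK : ThetaGrp.IsKL A L iK) [IsFinite K.hom]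
    {H : Over (Spec (CommRingCat.of k))} [GrpObj H] (iH : H ⟶ A) [IsMonHom iH] [IsClosedImmersion iH.left]
    (hHK : ∃ y : H ⟶ K, y ≫ iK = iH) (hiso : ThetaGrp.IsIsotropic L iH)
    (hmax : ∀ (H' : Over (Spec (CommRingCat.of k))) [GrpObj H'] (iH' : H' ⟶ A) [IsMonHom iH']
      [IsClosedImmersion iH'.left], (∃ y' : H' ⟶ K, y' ≫ iK = iH') → ThetaGrp.IsIsotropic L iH' →
      (∃ z : H ⟶ H', z ≫ iH' = iH) → ∃ z' : H' ⟶ H, z' ≫ iH = iH') :
    (∀ (T : Over (Spec (CommRingCat.of k))) (x : T ⟶ A),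
        ((∃ y : T ⟶ K, y ≫ iK = x) ∧ ThetaGrp.IsPerpPt L iH x) ↔ ∃ z : T ⟶ H, z ≫ iH = x) ∧
      IsFinite H.hom ∧ rk H ^ 2 = rk K := by
  obtain ⟨C, _, _, _, _, π, _, _, _, M, hM, KM, _, iM, _, _, hker, hHfin, hKM, ⟨iso⟩, h49, hrk, -⟩ :=
    exists_isotropic_quotient hL hK iH hHK hiso
  haveI := hHfin
  haveI := hKM.closed
  haveI : Flat π.left := AbVarLib.flat_of_surjective π
  haveI : Mono iM := Over.mono_of_mono_left iM
  have hKM1 : rk KM = 1 := by
    by_contra hne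
    obtain ⟨P, gP, iP, hiP, hcP, hfP, ⟨yP, hyP⟩, hisoP, hP1⟩ := exists_isotropic_subgroup hM hKM hne
    haveI := hiP
    haveI := hcP
    haveI := hfP
    obtain ⟨H', gH', iH', p, _, _, _, _, _, _, hpts, hrk'⟩ := exists_preimage π iP
    obtain ⟨q, hq⟩ := (hpts H' iH').1 ⟨𝟙 H', Category.id_comp iH'⟩
    have hH'K : ∃ z, z ≫ iM = iH' ≫ π := ⟨q ≫ yP, by rw [Category.assoc, hyP, hq]⟩
    have hisoM : ThetaGrp.IsIsotropic M (iH' ≫ π) := fun T a b β₁ β₂ h₁ h₂ =>
      hisoP T (a ≫ q) (b ≫ q) β₁ β₂ (by rw [Category.assoc, hq]; exact h₁) (by rw [Category.assoc, hq]; exact h₂)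
    have hisoH' : ThetaGrp.IsIsotropic L iH' := (isIsotropic_congr iso).1
      ((Groth.Agent.S19954.result k A C π M hM KM iM hKM H' iH' hH'K).1 hisoM)
    obtain ⟨w, hw⟩ := (hpts H iH).2 ⟨1, by rw [MonObj.one_comp, AlgGrpLib.kernel_comp hker]⟩
    obtain ⟨z', hz'⟩ := hmax H' iH' ((h49 H' iH').1 hH'K).1 hisoH' ⟨w, hw⟩
    obtain ⟨hH'fin, hH'rk⟩ := hrk' inferInstance
    haveI : Mono iH := Over.mono_of_mono_left iH
    haveI : Mono iH' := Over.mono_of_mono_left iH'
    have hsame : rk H' = rk H := (rk_eq_of_points iH' iH fun T x =>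
      ⟨fun ⟨y, hy⟩ => ⟨y ≫ z', by rw [Category.assoc, hz', hy]⟩,
        fun ⟨y, hy⟩ => ⟨y ≫ w, by rw [Category.assoc, hw, hy]⟩⟩).2
    haveI := mono_kerι π
    have hHker : rk (UnipStruct.kerObj π) = rk H := (rk_eq_of_points (UnipStruct.kerι π) iH fun T x => by
      rw [exists_kerι_iff]
      exact ⟨fun h => AlgGrpLib.exists_lift_kernel hker h,
        fun ⟨y, hy⟩ => hy ▸ by rw [Category.assoc, AlgGrpLib.kernel_comp hker, MonObj.comp_one]⟩).2
    rw [hsame, hHker] at hH'rk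
    exact hP1 (Nat.eq_of_mul_eq_mul_left (lt_of_lt_of_le Nat.one_pos (rk_pos_of_grp H))
      (hH'rk.symm.trans (Nat.mul_one _).symm))
  refine ⟨fun T x => ?_, inferInstance, by rw [hrk, hKM1, Nat.mul_one]⟩
  rw [← h49]
  constructor
  · rintro ⟨z, hz⟩
    rw [eq_one_of_rk_eq_one hKM1 z, MonObj.one_comp] at hz
    exact AlgGrpLib.exists_lift_kernel hker hz.symm
  · rintro ⟨z, rfl⟩
    exact ⟨1, by rw [MonObj.one_comp, Category.assoc, AlgGrpLib.kernel_comp hker, MonObj.comp_one]⟩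

end Groth.Agent.ThetaLib
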