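import Groth.Agent.ThetaLib.Scalar
import Groth.Agent.AbVarLib.HomFlat

/-!
# Scalars are central; theta points along a homomorphism
-/

set_option autoImplicit false
set_option backward.isDefEq.respectTransparency.types false
set_option linter.style.haveILetI false
set_option linter.unusedSectionVars false

universe u

open CategoryTheory CategoryTheory.Limits MonoidalCategory CartesianMonoidalCategory MonObj AlgebraicGeometry
open Pseudofunctor Bicategory
open Groth.Agent.PicLib

namespace Groth.Agent.ThetaLib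

section general

variable {S : Scheme.{u}} {A T : Over S} [GrpObj A] {L : A.left.Modules}

theorem isOverPt_mul {β β' : ThetaGrp.thetaPts A L T} {x y : T ⟶ A} (hx : ThetaGrp.IsOverPt β x)
    (hy : ThetaGrp.IsOverPt β' y) : ThetaGrp.IsOverPt (β * β') (y * x) := by
  rw [ThetaGrp.IsOverPt, Subgroup.coe_mul, Aut.Aut_mul_def, Iso.trans_hom,
    CoGrothendieck.categoryStruct_comp_base, hx, hy, ThetaGrp.transl_mul, Over.comp_left]

theorem isOverPt_inv {β : ThetaGrp.thetaPts A L T} {x : T ⟶ A} (hx : ThetaGrp.IsOverPt β x) :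
    ThetaGrp.IsOverPt β⁻¹ x⁻¹ := by
  obtain ⟨z, hz⟩ := (β⁻¹).2
  have h := isOverPt_mul hx (y := z) hz
  rw [mul_inv_cancel] at h
  have h1 : ThetaGrp.IsOverPt (1 : ThetaGrp.thetaPts A L T) 1 := by rw [ThetaGrp.IsOverPt, ThetaGrp.transl_one]; rfl
  have := isOverPt_unique h h1
  obtain rfl : z = x⁻¹ := eq_inv_of_mul_eq_one_left this
  exact hz

theorem pts_hom_ext {β β' : ThetaGrp.thetaPts A L T} (h : β.1.hom = β'.1.hom) : β = β' := Subtype.ext (Iso.ext h)

theorem mul_hom (β β' : ThetaGrp.thetaPts A L T) : (β * β').1.hom = β'.1.hom ≫ β.1.hom := rfl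

end general

variable {k : Type u} [Field k] {A B T : Over (Spec (CommRingCat.of k))} [GrpObj A] [IsProper A.hom]
  [GeometricallyIntegral A.hom] {L : A.left.Modules}

/-- Points over the unit translation are central. -/
theorem commute_of_overPt_one (hL : PicF.IsInvertible L) {c : ThetaGrp.thetaPts A L T}
    (hc : ThetaGrp.IsOverPt c 1) (β : ThetaGrp.thetaPts A L T) : Commute c β := by
  obtain ⟨r, hr⟩ := exists_eq_scal (PicLoc.isInvertible_pullback _ hL) c.1.hom
    (by rw [hc, ThetaGrp.transl_one]; rfl)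
  obtain ⟨x, hx⟩ := β.2
  have hinv : β.1.hom.base.appTop r = r := by
    conv_lhs => rw [← appTop_snd_eq (A := A) r]
    rw [hx]
    exact (congr($((Scheme.Hom.comp_appTop (ThetaGrp.transl A x).left (snd A T).left).symm) _)).trans
      (by rw [← Over.comp_left, ThetaGrp.transl_snd]; exact appTop_snd_eq r)
  refine pts_hom_ext ?_
  rw [mul_hom, mul_hom, hr]
  exact (comp_scal β.1.hom r).trans (congrArg (fun t => scal _ t ≫ β.1.hom) hinv)

/-- Commutation with a point only depends on its translation. -/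
theorem commute_of_overPt (hL : PicF.IsInvertible L) {α α' β : ThetaGrp.thetaPts A L T} {x : T ⟶ A}
    (hα : ThetaGrp.IsOverPt α x) (hα' : ThetaGrp.IsOverPt α' x) (h : Commute β α) : Commute β α' := by
  have hc : ThetaGrp.IsOverPt (α⁻¹ * α') 1 := by
    have := isOverPt_mul (isOverPt_inv hα) hα'
    rwa [mul_inv_cancel] at this
  have := h.mul_right (commute_of_overPt_one hL hc β).symm
  rwa [mul_inv_cancel_left] at this

section hom

variable [GrpObj B] (f : A ⟶ B) (M : B.left.Modules)

/-- `(A, f^* M) ⟶ (B, M)`. -/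
noncomputable def pullMor : modObj ((Scheme.Modules.pullback f.left).obj M) ⟶ modObj M :=
  CoGrothendieck.cartesianLift (F := ThetaGrp.modPF) M f.left

instance isIso_pullMor_fiber : IsIso (pullMor f M).fiber := show IsIso (𝟙 _) from inferInstance

theorem exists_homLift (T : Over (Spec (CommRingCat.of k))) :
    ∃ F : ThetaGrp.thetaObj A ((Scheme.Modules.pullback f.left).obj M) T ⟶ ThetaGrp.thetaObj B M T,
      F.base = (f ▷ T).left ∧ F ≫ proj M T =
        proj ((Scheme.Modules.pullback f.left).obj M) T ≫ pullMor f M := by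
  exact exists_lift_of_fiber (proj M T) (proj ((Scheme.Modules.pullback f.left).obj M) T ≫ pullMor f M) (f ▷ T).left (by
    show (fst A T).left ≫ f.left = (f ▷ T).left ≫ (fst B T).left
    rw [← Over.comp_left, ← Over.comp_left, whiskerRight_fst])

/-- `(A × T, (f^* M)_T) ⟶ (B × T, M_T)`. -/
noncomputable def homLift (T : Over (Spec (CommRingCat.of k))) :
    ThetaGrp.thetaObj A ((Scheme.Modules.pullback f.left).obj M) T ⟶ ThetaGrp.thetaObj B M T :=
  (exists_homLift f M T).choose

theorem homLift_base : (homLift f M T).base = (f ▷ T).left := (exists_homLift f M T).choose_spec.1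

theorem homLift_proj : homLift f M T ≫ proj M T =
    proj ((Scheme.Modules.pullback f.left).obj M) T ≫ pullMor f M :=
  (exists_homLift f M T).choose_spec.2

theorem isIso_fiber_of_comp {𝒮 : Type*} [Category 𝒮] {F : LocallyDiscrete 𝒮ᵒᵖ ⥤ᵖ Cat} {a b c : CoGrothendieck F}
    (χ : a ⟶ b) (g : b ⟶ c) [IsIso g.fiber] (h : IsIso (χ ≫ g).fiber) : IsIso χ.fiber := by
  haveI : IsIso ((F.map χ.base.op.toLoc).toFunctor.map g.fiber) := Functor.map_isIso _ _
  haveI := ((Cat.Hom.toNatIso (F.mapComp g.base.op.toLoc χ.base.op.toLoc)).symm.app c.fiber).isIso_hom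
  haveI : IsIso ((F.map χ.base.op.toLoc).toFunctor.map g.fiber ≫
      (F.mapComp g.base.op.toLoc χ.base.op.toLoc).inv.toNatTrans.app c.fiber) := IsIso.comp_isIso' ‹_› this
  rw [CoGrothendieck.categoryStruct_comp_fiber] at h
  exact @IsIso.of_isIso_comp_right _ _ _ _ _ χ.fiber ((F.map χ.base.op.toLoc).toFunctor.map g.fiber ≫
      (F.mapComp g.base.op.toLoc χ.base.op.toLoc).inv.toNatTrans.app c.fiber) ‹_› h

instance isIso_homLift_fiber : IsIso (homLift f M T).fiber := by
  refine isIso_fiber_of_comp _ (proj M T) ?_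
  rw [homLift_proj]
  exact isIso_comp_fiber _ _

theorem bcLift_homLift {T' : Over (Spec (CommRingCat.of k))} (t : T' ⟶ T) :
    ThetaGrp.bcLift A ((Scheme.Modules.pullback f.left).obj M) t ≫ homLift f M T =
      homLift f M T' ≫ ThetaGrp.bcLift B M t := by
  refine hom_ext_proj ?_ ?_
  · show (A ◁ t).left ≫ (homLift f M T).base = (homLift f M T').base ≫ (B ◁ t).left
    rw [homLift_base, homLift_base, ← Over.comp_left, ← Over.comp_left, MonoidalCategory.whisker_exchange]
  · rw [Category.assoc, Category.assoc, homLift_proj, bcLift_proj, homLift_proj, reassoc_of% bcLift_proj _ t]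

variable [IsMonHom f]

theorem transl_whiskerRight (x : T ⟶ A) :
    ThetaGrp.transl A x ≫ (f ▷ T) = (f ▷ T) ≫ ThetaGrp.transl B (x ≫ f) := by
  refine CartesianMonoidalCategory.hom_ext _ _ ?_ ?_
  · simp [ThetaGrp.transl, MonObj.mul_comp, MonObj.comp_mul, Category.assoc]
  · simp [ThetaGrp.transl]

/-- Points of `G(M)` over `x ≫ f` give points of `G(f^* M)` over `x`. -/
theorem exists_pullPt {x : T ⟶ A} {b : ThetaGrp.thetaPts B M T} (hb' : ThetaGrp.IsOverPt b (x ≫ f)) :
    ∃ β : ThetaGrp.thetaPts A ((Scheme.Modules.pullback f.left).obj M) T, ThetaGrp.IsOverPt β x ∧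
      β.1.hom ≫ homLift f M T = homLift f M T ≫ b.1.hom := by
  obtain ⟨β, hb, hβ⟩ := exists_aut_lift (homLift f M T)
    ((Over.forget _).mapIso (asIso (ThetaGrp.transl A x))) b.1 (by
      rw [hb', homLift_base]
      show (ThetaGrp.transl A x).left ≫ (f ▷ T).left = (f ▷ T).left ≫ _
      rw [← Over.comp_left, ← Over.comp_left, transl_whiskerRight])
  exact ⟨⟨β, x, hb⟩, hb, hβ⟩

/-- The canonical lift of a point killed by `f`. -/
theorem exists_canonical {a : T ⟶ A} (ha : a ≫ f = 1) :
    ∃ α : ThetaGrp.thetaPts A ((Scheme.Modules.pullback f.left).obj M) T, ThetaGrp.IsOverPt α a ∧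
      α.1.hom ≫ homLift f M T = homLift f M T := by
  have h1 : ThetaGrp.IsOverPt (1 : ThetaGrp.thetaPts B M T) (a ≫ f) := by
    rw [ThetaGrp.IsOverPt, ha, ThetaGrp.transl_one]; rfl
  obtain ⟨α, hα, h⟩ := exists_pullPt f M h1
  exact ⟨α, hα, h.trans (Category.comp_id _)⟩

end hom

theorem isPullback_whiskerRight {C : Type*} [Category C] [CartesianMonoidalCategory C] {X Y : C} (f : X ⟶ Y) (W : C) :
    IsPullback (fst X W) (f ▷ W) f (fst Y W) := by
  refine IsPullback.of_isLimit' ⟨(whiskerRight_fst f W).symm⟩ (PullbackCone.IsLimit.mk _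
    (fun s => lift s.fst (s.snd ≫ snd Y W)) ?_ ?_ ?_)
  · intro s; exact lift_fst _ _
  · intro s
    refine CartesianMonoidalCategory.hom_ext _ _ ?_ ?_
    · rw [Category.assoc, whiskerRight_fst, lift_fst_assoc, s.condition]
    · rw [Category.assoc, whiskerRight_snd, lift_snd]
  · intro s m h1 h2
    refine CartesianMonoidalCategory.hom_ext _ _ ?_ ?_
    · rw [lift_fst, h1]
    · rw [lift_snd, ← h2, Category.assoc, whiskerRight_snd]

variable [GrpObj B] [IsProper B.hom] [GeometricallyIntegral B.hom]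

theorem fppf_whiskerRight (f : A ⟶ B) [IsMonHom f] (hf : Surjective f.left) (T : Over (Spec (CommRingCat.of k))) :
    Flat (f ▷ T).left ∧ Surjective (f ▷ T).left ∧ LocallyOfFinitePresentation (f ▷ T).left := by
  haveI := hf
  haveI := AbVarLib.flat_of_surjective f
  haveI : LocallyOfFinitePresentation (f.left ≫ B.hom) := by rw [Over.w f]; infer_instance
  haveI : LocallyOfFinitePresentation f.left := Groth.Agent.H8Lim.lfp_cancel_right f.left B.hom
  have h := (isPullback_whiskerRight f T).map (Over.forget _)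
  exact ⟨MorphismProperty.of_isPullback h ‹Flat f.left›, MorphismProperty.of_isPullback h ‹Surjective f.left›,
    MorphismProperty.of_isPullback h ‹LocallyOfFinitePresentation f.left›⟩

end Groth.Agent.ThetaLib
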