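import Groth.Agent.ThetaLib.IsotropicLift

/-!
# The commutator pairing of the theta group on two families of lifts
-/

set_option autoImplicit false
set_option backward.isDefEq.respectTransparency.types false
set_option linter.style.haveILetI false
set_option linter.unusedSectionVars false

universe u

open CategoryTheory CategoryTheory.Limits MonoidalCategory CartesianMonoidalCategory MonObj AlgebraicGeometry Opposite

namespace Groth.Agent.ThetaLib

variable {k : Type u} [Field k] {A : Over (Spec (CommRingCat.of k))} [GrpObj A] {L : A.left.Modules}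
  [IsProper A.hom] [GeometricallyIntegral A.hom] [IsCommMonObj A] {T : Over (Spec (CommRingCat.of k))}

theorem scalPt_central (hL : PicF.IsInvertible L) (r : Γ(T.left, ⊤)ˣ) (β : ThetaGrp.thetaPts A L T) :
    scalPt L r * β = β * scalPt L r := (commute_of_overPt_one hL (isOverPt_scalPt r) β).eq

theorem exists_commutator (hL : PicF.IsInvertible L) (β ν : ThetaGrp.thetaPts A L T) :
    ∃ u, β * ν = scalPt L u * (ν * β) := by
  obtain ⟨u, hu⟩ := exists_eq_scalPt hL (c := β * ν * (ν * β)⁻¹) (by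
    rw [tpt_mul, tpt_inv, tpt_mul, tpt_mul, mul_comm (tpt ν), inv_mul_cancel])
  exact ⟨u, by rw [← hu, inv_mul_cancel_right]⟩

/-- The commutator of two points, a unit on the base. -/
noncomputable def commU (hL : PicF.IsInvertible L) (β ν : ThetaGrp.thetaPts A L T) : Γ(T.left, ⊤)ˣ :=
  (exists_commutator hL β ν).choose

theorem commU_spec (hL : PicF.IsInvertible L) (β ν : ThetaGrp.thetaPts A L T) :
    β * ν = scalPt L (commU hL β ν) * (ν * β) := (exists_commutator hL β ν).choose_spec

theorem commU_eq (hL : PicF.IsInvertible L) {β ν : ThetaGrp.thetaPts A L T} {u : Γ(T.left, ⊤)ˣ}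
    (h : β * ν = scalPt L u * (ν * β)) : commU hL β ν = u :=
  scalPt_injective hL (mul_right_cancel ((commU_spec hL β ν).symm.trans h))

theorem commU_eq_one_iff (hL : PicF.IsInvertible L) {β ν : ThetaGrp.thetaPts A L T} :
    commU hL β ν = 1 ↔ β * ν = ν * β := by
  refine ⟨fun h => ?_, fun h => commU_eq hL (by rw [scalPt_one, _root_.one_mul, h])⟩
  rw [commU_spec hL β ν, h, scalPt_one, _root_.one_mul]

theorem commU_swap (hL : PicF.IsInvertible L) (β ν : ThetaGrp.thetaPts A L T) :
    commU hL ν β = (commU hL β ν)⁻¹ :=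
  commU_eq hL (by rw [commU_spec hL β ν, ← _root_.mul_assoc, ← scalPt_mul, inv_mul_cancel, scalPt_one, _root_.one_mul])

theorem commU_mul_left (hL : PicF.IsInvertible L) (β β' ν : ThetaGrp.thetaPts A L T) :
    commU hL (β * β') ν = commU hL β ν * commU hL β' ν := by
  refine commU_eq hL ?_
  calc β * β' * ν = β * (scalPt L (commU hL β' ν) * (ν * β')) := by rw [_root_.mul_assoc, commU_spec hL β' ν]
    _ = scalPt L (commU hL β' ν) * ((β * ν) * β') := by
        rw [← _root_.mul_assoc, ← scalPt_central hL, _root_.mul_assoc, ← _root_.mul_assoc β ν]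
    _ = scalPt L (commU hL β' ν) * (scalPt L (commU hL β ν) * (ν * (β * β'))) := by
        rw [commU_spec hL β ν, _root_.mul_assoc, _root_.mul_assoc]
    _ = scalPt L (commU hL β ν * commU hL β' ν) * (ν * (β * β')) := by
        rw [← _root_.mul_assoc, ← scalPt_mul, mul_comm]

theorem commU_mul_right (hL : PicF.IsInvertible L) (β ν ν' : ThetaGrp.thetaPts A L T) :
    commU hL β (ν * ν') = commU hL β ν * commU hL β ν' := by
  rw [commU_swap hL (ν * ν') β, commU_mul_left, mul_inv, ← commU_swap, ← commU_swap]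

theorem commU_scal_left (hL : PicF.IsInvertible L) (s : Γ(T.left, ⊤)ˣ) (β ν : ThetaGrp.thetaPts A L T) :
    commU hL (scalPt L s * β) ν = commU hL β ν := by
  rw [commU_mul_left, (commU_eq_one_iff hL).2 (scalPt_central hL s ν), _root_.one_mul]

theorem commU_congr_left (hL : PicF.IsInvertible L) {β β' : ThetaGrp.thetaPts A L T} (h : tpt β = tpt β')
    (ν : ThetaGrp.thetaPts A L T) : commU hL β ν = commU hL β' ν := by
  obtain ⟨s, hs⟩ := exists_eq_scalPt hL (c := β * β'⁻¹) (by rw [tpt_mul, tpt_inv, h, inv_mul_cancel])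
  rw [show β = scalPt L s * β' by rw [← hs, inv_mul_cancel_right], commU_scal_left]

theorem commU_congr (hL : PicF.IsInvertible L) {β β' ν ν' : ThetaGrp.thetaPts A L T} (h : tpt β = tpt β')
    (h' : tpt ν = tpt ν') : commU hL β ν = commU hL β' ν' := by
  rw [commU_congr_left hL h ν, commU_swap hL ν β', commU_congr_left hL h' β', ← commU_swap]

theorem commU_res (hL : PicF.IsInvertible L) {W : Over (Spec (CommRingCat.of k))} (t : W ⟶ T)
    (β ν : ThetaGrp.thetaPts A L T) :
    commU hL (res t β) (res t ν) = Units.map t.left.appTop.hom.toMonoidHom (commU hL β ν) :=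
  commU_eq hL (by rw [← res_mul, commU_spec hL β ν, res_mul, res_mul, res_scalPt])

variable {N K : Over (Spec (CommRingCat.of k))}

/-- The pairing of points of two schemes over `K(L)` equipped with lifts. -/
noncomputable def ePair (hL : PicF.IsInvertible L) (σN : ThetaGrp.thetaPts A L N) (σK : ThetaGrp.thetaPts A L K)
    {T : Over (Spec (CommRingCat.of k))} (a : T ⟶ N) (b : T ⟶ K) : Γ(T.left, ⊤)ˣ :=
  commU hL (res a σN) (res b σK)

variable (hL : PicF.IsInvertible L) (σN : ThetaGrp.thetaPts A L N) (σK : ThetaGrp.thetaPts A L K)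

theorem ePair_res {W : Over (Spec (CommRingCat.of k))} (t : W ⟶ T) (a : T ⟶ N) (b : T ⟶ K) :
    ePair hL σN σK (t ≫ a) (t ≫ b) = Units.map t.left.appTop.hom.toMonoidHom (ePair hL σN σK a b) := by
  rw [ePair, ePair, ← res_res, ← res_res, commU_res]

theorem ePair_mul_left [GrpObj N] (iN : N ⟶ A) [IsMonHom iN] (hσN : tpt σN = iN) (a a' : T ⟶ N) (b : T ⟶ K) :
    ePair hL σN σK (a * a') b = ePair hL σN σK a b * ePair hL σN σK a' b := by
  rw [ePair, ePair, ePair, ← commU_mul_left]
  refine commU_congr_left hL ?_ _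
  rw [tpt_mul, tpt_res, tpt_res, tpt_res, hσN, MonObj.mul_comp, mul_comm]

theorem ePair_mul_right [GrpObj K] (iK : K ⟶ A) [IsMonHom iK] (hσK : tpt σK = iK) (a : T ⟶ N) (b b' : T ⟶ K) :
    ePair hL σN σK a (b * b') = ePair hL σN σK a b * ePair hL σN σK a b' := by
  rw [ePair, ePair, ePair, ← commU_mul_right, commU_swap hL, commU_swap hL _ (res a σN)]
  refine congrArg (·⁻¹) (commU_congr_left hL ?_ _)
  rw [tpt_mul, tpt_res, tpt_res, tpt_res, hσK, MonObj.mul_comp, mul_comm]

theorem ePair_one_left [GrpObj N] (iN : N ⟶ A) [IsMonHom iN] (hσN : tpt σN = iN) (b : T ⟶ K) :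
    ePair hL σN σK 1 b = 1 :=
  left_eq_mul.1 (((congrArg (ePair hL σN σK · b) (_root_.one_mul (1 : T ⟶ N)).symm)).trans
    (ePair_mul_left hL σN σK iN hσN 1 1 b))

theorem ePair_one_right [GrpObj K] (iK : K ⟶ A) [IsMonHom iK] (hσK : tpt σK = iK) (a : T ⟶ N) :
    ePair hL σN σK a 1 = 1 :=
  left_eq_mul.1 (((congrArg (ePair hL σN σK a) (_root_.one_mul (1 : T ⟶ K)).symm)).trans
    (ePair_mul_right hL σN σK iK hσK a 1 1))

/-- Orthogonality in terms of the pairing. -/
theorem isPerpPt_iff {iN : N ⟶ A} (hσN : tpt σN = iN) {iK : K ⟶ A} (hσK : tpt σK = iK) (b : T ⟶ K) :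
    ThetaGrp.IsPerpPt L iN (b ≫ iK) ↔
      ∀ (W : Over (Spec (CommRingCat.of k))) (t : W ⟶ T) (a : W ⟶ N), ePair hL σN σK a (t ≫ b) = 1 := by
  constructor
  · intro h W t a
    refine (commU_eq_one_iff hL).2 (h W t a (res (t ≫ b) σK) (res a σN) ?_ ?_).symm
    · rw [← Category.assoc, ← hσK, ← tpt_res]; exact isOverPt_tpt _
    · rw [← hσN, ← tpt_res]; exact isOverPt_tpt _
  · intro h W t a β₁ β₂ h₁ h₂
    refine ((commU_eq_one_iff hL).1 ((commU_congr hL (β' := res a σN) (ν' := res (t ≫ b) σK) ?_ ?_).trans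
      (h W t a))).symm
    · rw [tpt_res, hσN, tpt_eq h₂]
    · rw [tpt_res, hσK, tpt_eq h₁, Category.assoc]

end Groth.Agent.ThetaLib
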