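import Groth.Agent.ThetaLib.CartDescent

/-!
# Descent data along a family, in the Grothendieck construction
-/

set_option autoImplicit false
set_option backward.isDefEq.respectTransparency.types false
set_option linter.style.haveILetI false

open CategoryTheory Bicategory Opposite
open Pseudofunctor LocallyDiscreteOpToCat

namespace Groth.Agent.ThetaLib

universe v' u' v u

variable {𝒮 : Type u} [Category.{v} 𝒮] {F : LocallyDiscrete 𝒮ᵒᵖ ⥤ᵖ Cat.{v', u'}}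

variable {S X₁ X₂ : 𝒮}

set_option backward.defeqAttrib.useBackward true in
set_option backward.isDefEq.respectTransparency false in
/-- Morphisms over two maps to `S` which agree on common sources are compatible as descent data. -/
theorem comm_of_homOver₂ {M N : F.obj ⟨op S⟩} (g₁ : X₁ ⟶ S) (g₂ : X₂ ⟶ S)
    (α₁ : (F.map g₁.op.toLoc).toFunctor.obj M ⟶ (F.map g₁.op.toLoc).toFunctor.obj N)
    (α₂ : (F.map g₂.op.toLoc).toFunctor.obj M ⟶ (F.map g₂.op.toLoc).toFunctor.obj N)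
    (H : ∀ (e : CoGrothendieck F) (π₁ : e ⟶ CoGrothendieck.domainCartesianLift M g₁)
      (π₂ : e ⟶ CoGrothendieck.domainCartesianLift M g₂),
      π₁ ≫ CoGrothendieck.cartesianLift M g₁ = π₂ ≫ CoGrothendieck.cartesianLift M g₂ →
        π₁ ≫ homOver g₁ α₁ = π₂ ≫ homOver g₂ α₂)
    {Y : 𝒮} (q : Y ⟶ S) (f₁ : Y ⟶ X₁) (f₂ : Y ⟶ X₂) (h₁ : f₁ ≫ g₁ = q) (h₂ : f₂ ≫ g₂ = q) :
    (F.map f₁.op.toLoc).toFunctor.map α₁ ≫
        (F.mapComp' g₁.op.toLoc f₁.op.toLoc q.op.toLoc (by rw [← h₁]; rfl)).inv.toNatTrans.app N ≫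
          (F.mapComp' g₂.op.toLoc f₂.op.toLoc q.op.toLoc (by rw [← h₂]; rfl)).hom.toNatTrans.app N =
      ((F.mapComp' g₁.op.toLoc f₁.op.toLoc q.op.toLoc (by rw [← h₁]; rfl)).inv.toNatTrans.app M ≫
          (F.mapComp' g₂.op.toLoc f₂.op.toLoc q.op.toLoc (by rw [← h₂]; rfl)).hom.toNatTrans.app M) ≫
        (F.map f₂.op.toLoc).toFunctor.map α₂ := by
  subst h₁
  let e : CoGrothendieck F := ⟨Y, (F.map f₁.op.toLoc).toFunctor.obj ((F.map g₁.op.toLoc).toFunctor.obj M)⟩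
  let π₁ : e ⟶ CoGrothendieck.domainCartesianLift M g₁ := ⟨f₁, 𝟙 _⟩
  let π₂ : e ⟶ CoGrothendieck.domainCartesianLift M g₂ :=
    ⟨f₂, (F.mapComp' g₁.op.toLoc f₁.op.toLoc (f₁ ≫ g₁).op.toLoc rfl).inv.toNatTrans.app M ≫
      (F.mapComp' g₂.op.toLoc f₂.op.toLoc (f₁ ≫ g₁).op.toLoc (by rw [← h₂]; rfl)).hom.toNatTrans.app M⟩
  have h := H e π₁ π₂ (CoGrothendieck.Hom.ext _ _ h₂.symm (by
    simp [π₁, π₂, e, Pseudofunctor.mapComp', PrelaxFunctor.map₂_eqToHom, ← Cat.Hom.toNatIso_hom, ← Cat.Hom.toNatIso_inv]))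
  have h' := CoGrothendieck.Hom.congr h
  simp [π₁, π₂, e, Pseudofunctor.mapComp', PrelaxFunctor.map₂_eqToHom] at h' ⊢
  rw [reassoc_of% h']
  simp [← Cat.Hom.toNatIso_hom, ← Cat.Hom.toNatIso_inv]

universe t

variable {ι : Type t} {X : ι → 𝒮} (f : ∀ i, X i ⟶ S)

/-- If morphisms of descent data descend along a family, so do compatible morphisms over its members. -/
theorem exists_map_eq_family {M N : F.obj ⟨op S⟩}
    (hsurj : Function.Surjective ((F.toDescentData f).map : (M ⟶ N) → _))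
    (α : ∀ i, (F.map (f i).op.toLoc).toFunctor.obj M ⟶ (F.map (f i).op.toLoc).toFunctor.obj N)
    (H : ∀ (i j : ι) (e : CoGrothendieck F) (π₁ : e ⟶ CoGrothendieck.domainCartesianLift M (f i))
      (π₂ : e ⟶ CoGrothendieck.domainCartesianLift M (f j)),
      π₁ ≫ CoGrothendieck.cartesianLift M (f i) = π₂ ≫ CoGrothendieck.cartesianLift M (f j) →
        π₁ ≫ homOver (f i) (α i) = π₂ ≫ homOver (f j) (α j)) :
    ∃ ψ : M ⟶ N, ∀ i, (F.map (f i).op.toLoc).toFunctor.map ψ = α i := by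
  obtain ⟨ψ, hψ⟩ := hsurj
    { hom := fun i => α i
      comm := fun Y q i j f₁ f₂ h₁ h₂ => comm_of_homOver₂ (f i) (f j) (α i) (α j) (H i j) q f₁ f₂ h₁ h₂ }
  exact ⟨ψ, fun i => congrArg (fun φ => φ.hom i) hψ⟩

end Groth.Agent.ThetaLib
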