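import Groth.Agent.ThetaLib.FamilyDescent
import Groth.Agent.ThetaLib.Descend
import Groth.Agent.ThetaLib.Commute

/-!
# Restriction and Zariski gluing of points of the theta group
-/

set_option autoImplicit false
set_option backward.isDefEq.respectTransparency.types false
set_option linter.style.haveILetI false
set_option linter.unusedSectionVars false
set_option maxHeartbeats 800000

universe u

open CategoryTheory CategoryTheory.Limits MonoidalCategory CartesianMonoidalCategory MonObj AlgebraicGeometry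
open Pseudofunctor Bicategory

namespace Groth.Agent.ThetaLib

variable {k : Type u} [Field k] {A : Over (Spec (CommRingCat.of k))} [GrpObj A] {L : A.left.Modules}
  {T W V : Over (Spec (CommRingCat.of k))}

/-- The translation of a point. -/
noncomputable def tpt (α : ThetaGrp.thetaPts A L T) : T ⟶ A := α.2.choose

theorem isOverPt_tpt (α : ThetaGrp.thetaPts A L T) : ThetaGrp.IsOverPt α (tpt α) := α.2.choose_spec

theorem tpt_eq {α : ThetaGrp.thetaPts A L T} {x : T ⟶ A} (h : ThetaGrp.IsOverPt α x) : tpt α = x :=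
  isOverPt_unique (isOverPt_tpt α) h

/-- Restriction of points. -/
noncomputable def res (t : W ⟶ T) (α : ThetaGrp.thetaPts A L T) : ThetaGrp.thetaPts A L W :=
  (exists_res t (isOverPt_tpt α)).choose

theorem res_bc (t : W ⟶ T) (α : ThetaGrp.thetaPts A L T) : ThetaGrp.IsBaseChange (res t α) t α :=
  (exists_res t (isOverPt_tpt α)).choose_spec.2

theorem eq_res {t : W ⟶ T} {α : ThetaGrp.thetaPts A L T} {β : ThetaGrp.thetaPts A L W}
    (h : ThetaGrp.IsBaseChange β t α) : β = res t α :=
  pts_hom_ext_res t (isOverPt_baseChange h (isOverPt_tpt α)) (exists_res t (isOverPt_tpt α)).choose_spec.1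
    (h.trans (res_bc t α).symm)

theorem tpt_res (t : W ⟶ T) (α : ThetaGrp.thetaPts A L T) : tpt (res t α) = t ≫ tpt α :=
  tpt_eq (exists_res t (isOverPt_tpt α)).choose_spec.1

theorem res_id (α : ThetaGrp.thetaPts A L T) : res (𝟙 T) α = α := by
  refine (eq_res ?_).symm
  have h : ThetaGrp.bcLift A L (𝟙 T) = 𝟙 _ :=
    hom_ext_proj (by
      show (A ◁ 𝟙 T).left = _
      rw [MonoidalCategory.whiskerLeft_id]; rfl) (by rw [bcLift_proj, Category.id_comp])
  rw [ThetaGrp.IsBaseChange, h, Category.comp_id, Category.id_comp]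

theorem res_res (s : V ⟶ W) (t : W ⟶ T) (α : ThetaGrp.thetaPts A L T) : res s (res t α) = res (s ≫ t) α := by
  refine eq_res ?_
  rw [ThetaGrp.IsBaseChange, bcLift_comp, Category.assoc, ← res_bc t α, ← Category.assoc, res_bc s (res t α),
    Category.assoc]

theorem res_mul (t : W ⟶ T) (α β : ThetaGrp.thetaPts A L T) : res t (α * β) = res t α * res t β := by
  refine (eq_res ?_).symm
  rw [ThetaGrp.IsBaseChange, mul_hom, mul_hom, Category.assoc, res_bc t α, ← Category.assoc, res_bc t β,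
    Category.assoc]

section glue

variable {κ : Type u} {U : κ → Over (Spec (CommRingCat.of k))} (t : ∀ i, U i ⟶ T) [∀ i, IsOpenImmersion (t i).left]
  (hcov : ∀ p : T.left, ∃ i, p ∈ Set.range (t i).left)

theorem isPullback_whiskerLeft' (X : Over (Spec (CommRingCat.of k))) {Y Z : Over (Spec (CommRingCat.of k))}
    (f : Y ⟶ Z) : IsPullback (snd X Y).left (X ◁ f).left f.left (snd X Z).left := by
  refine IsPullback.map (Over.forget _) (IsPullback.of_isLimit' ⟨(whiskerLeft_snd X f).symm⟩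
    (PullbackCone.IsLimit.mk _ (fun s => lift (s.snd ≫ fst X Z) s.fst) ?_ ?_ ?_))
  · intro s; exact lift_snd _ _
  · intro s
    refine CartesianMonoidalCategory.hom_ext _ _ ?_ ?_
    · rw [Category.assoc, whiskerLeft_fst, lift_fst]
    · rw [Category.assoc, whiskerLeft_snd, lift_snd_assoc, s.condition]
  · intro s m h1 h2
    refine CartesianMonoidalCategory.hom_ext _ _ ?_ ?_
    · rw [lift_fst, ← h2, Category.assoc, whiskerLeft_fst]
    · rw [lift_snd, h1]

instance isOpenImmersion_whisker (i : κ) : IsOpenImmersion (A ◁ t i).left :=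
  MorphismProperty.of_isPullback (P := @IsOpenImmersion) (isPullback_whiskerLeft' A (t i)) inferInstance

include hcov in
theorem cov_whisker : Desc19b.QDesc.Cov (fun i => (A ◁ t i).left) := by
  refine Desc19b.QDesc.cov_of_fpqc _ (Scheme.fppfPrecoverage_le_fpqcPrecoverage _ ?_)
  refine Scheme.zariskiPrecoverage_le_fppfPrecoverage _ ?_
  rw [Scheme.zariskiPrecoverage, Scheme.ofArrows_mem_precoverage_iff]
  refine ⟨fun p => ?_, fun i => inferInstance⟩
  obtain ⟨i, q, hq⟩ := hcov ((snd A T).left p)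
  obtain ⟨z, -, hz⟩ := Scheme.exists_preimage_of_isPullback (isPullback_whiskerLeft' A (t i)) q p hq
  exact ⟨i, z, hz⟩

include hcov in
/-- Morphisms out of `(A × T, L_T)` are determined on a cover. -/
theorem hom_ext_cover (hL : PicF.IsInvertible L) {ψ ψ' : ThetaGrp.thetaObj A L T ⟶ ThetaGrp.thetaObj A L T}
    (hb : ψ.base = ψ'.base) (h : ∀ i, ThetaGrp.bcLift A L (t i) ≫ ψ = ThetaGrp.bcLift A L (t i) ≫ ψ') : ψ = ψ' := by
  obtain ⟨b, φ⟩ := ψ
  obtain ⟨b', φ'⟩ := ψ'
  obtain rfl : b = b' := hb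
  haveI : Coh.IsQCoh ((Scheme.Modules.pullback b).obj ((Scheme.Modules.pullback (fst A T).left).obj L)) :=
    AmpleLib.isQCoh_of_isInvertible (PicLoc.isInvertible_pullback _ (PicLoc.isInvertible_pullback _ hL))
  haveI : Coh.IsQCoh ((Scheme.Modules.pullback (fst A T).left).obj L) :=
    AmpleLib.isQCoh_of_isInvertible (PicLoc.isInvertible_pullback _ hL)
  refine CoGrothendieck.Hom.ext _ _ rfl ?_
  simp only [eqToHom_refl, Category.comp_id]
  refine Desc19b.QDesc.map_injective (M := (Scheme.Modules.pullback (fst A T).left).obj L)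
    (N := (Scheme.Modules.pullback b).obj ((Scheme.Modules.pullback (fst A T).left).obj L)) (cov_whisker t hcov) fun i => ?_
  have h' := CoGrothendieck.Hom.congr (h i)
  simp only [CoGrothendieck.categoryStruct_comp_fiber, eqToHom_refl, Category.comp_id] at h'
  haveI : IsIso (ThetaGrp.bcLift A L (t i)).fiber := inferInstance
  have h'' := (cancel_epi (ThetaGrp.bcLift A L (t i)).fiber).1 h'
  let e := (Cat.Hom.toNatIso (ThetaGrp.modPF.mapComp b.op.toLoc (ThetaGrp.bcLift A L (t i)).base.op.toLoc)).symm.app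
    ((Scheme.Modules.pullback (fst A T).left).obj L)
  have h3 := congrArg (fun z => z ≫ e.inv) h''
  simp only [Category.assoc] at h3
  exact (Category.comp_id _).symm.trans (((congrArg (_ ≫ ·) e.hom_inv_id).symm.trans h3).trans
    ((congrArg (_ ≫ ·) e.hom_inv_id).trans (Category.comp_id _)))

include hcov in
theorem pts_ext_cover (hL : PicF.IsInvertible L) {α β : ThetaGrp.thetaPts A L T}
    (h : ∀ i, res (t i) α = res (t i) β) : α = β := by
  have hx : (tpt α).left = (tpt β).left := by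
    refine Scheme.Cover.hom_ext (T.left.openCoverOfIsOpenCover (fun i => (t i).left.opensRange) ?_) _ _ fun i => ?_
    · refine top_le_iff.1 fun p _ => TopologicalSpace.Opens.mem_iSup.2 ?_
      obtain ⟨i, hi⟩ := hcov p
      exact ⟨i, hi⟩
    · have e := congrArg (fun ν => (tpt ν).left) (h i)
      rw [tpt_res, tpt_res, Over.comp_left, Over.comp_left] at e
      show (t i).left.opensRange.ι ≫ _ = (t i).left.opensRange.ι ≫ _
      rw [← cancel_epi (t i).left.isoOpensRange.hom, reassoc_of% Scheme.Hom.isoOpensRange_hom_ι,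
        reassoc_of% Scheme.Hom.isoOpensRange_hom_ι, e]
  refine pts_hom_ext (hom_ext_cover t hcov hL ?_ fun i => ?_)
  · rw [isOverPt_tpt α, isOverPt_tpt β, Over.OverMorphism.ext hx]
  · rw [← res_bc (t i) α, ← res_bc (t i) β, h i]

include hcov in
/-- Points glue. -/
theorem exists_glue (hL : PicF.IsInvertible L) (β : ∀ i, ThetaGrp.thetaPts A L (U i))
    (hβ : ∀ (i j : κ) (W : Over (Spec (CommRingCat.of k))) (p : W ⟶ U i) (q : W ⟶ U j),
      p ≫ t i = q ≫ t j → res p (β i) = res q (β j)) :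
    ∃ α : ThetaGrp.thetaPts A L T, ∀ i, res (t i) α = β i := by
  let 𝒰 := T.left.openCoverOfIsOpenCover (fun i => (t i).left.opensRange) (top_le_iff.1 fun p _ =>
    TopologicalSpace.Opens.mem_iSup.2 (hcov p))
  have hglue : ∀ i j, pullback.fst (t i).left.opensRange.ι (t j).left.opensRange.ι ≫
      (t i).left.isoOpensRange.inv ≫ (tpt (β i)).left =
      pullback.snd (t i).left.opensRange.ι (t j).left.opensRange.ι ≫
      (t j).left.isoOpensRange.inv ≫ (tpt (β j)).left := fun i j => by
    let W : Over (Spec (CommRingCat.of k)) :=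
      Over.mk ((pullback.fst (t i).left.opensRange.ι (t j).left.opensRange.ι ≫ (t i).left.isoOpensRange.inv) ≫ (U i).hom)
    let p : W ⟶ U i := Over.homMk _ rfl
    have e : (pullback.fst (t i).left.opensRange.ι (t j).left.opensRange.ι ≫ (t i).left.isoOpensRange.inv) ≫ (t i).left =
        (pullback.snd (t i).left.opensRange.ι (t j).left.opensRange.ι ≫ (t j).left.isoOpensRange.inv) ≫ (t j).left := by
      simp only [Category.assoc, Scheme.Hom.isoOpensRange_inv_comp, pullback.condition]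
    let q : W ⟶ U j := Over.homMk (pullback.snd (t i).left.opensRange.ι (t j).left.opensRange.ι ≫
      (t j).left.isoOpensRange.inv) (by
        show _ = W.hom
        rw [← Over.w (t j), ← Category.assoc, ← e, Category.assoc, Over.w (t i)]
        rfl)
    have h := congrArg (fun ν => (tpt ν).left) (hβ i j W p q (Over.OverMorphism.ext e))
    rw [tpt_res, tpt_res] at h
    exact (Category.assoc _ _ _).symm.trans (h.trans (Category.assoc _ _ _))
  obtain ⟨g, hg'⟩ : ∃ g : T.left ⟶ A.left,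
      ∀ i, (t i).left.opensRange.ι ≫ g = (t i).left.isoOpensRange.inv ≫ (tpt (β i)).left :=
    ⟨𝒰.glueMorphisms (fun i => (t i).left.isoOpensRange.inv ≫ (tpt (β i)).left) hglue,
      fun i => 𝒰.ι_glueMorphisms _ _ i⟩
  have hg : ∀ i, (t i).left ≫ g = (tpt (β i)).left := fun i => by
    conv_lhs => rw [← Scheme.Hom.isoOpensRange_hom_ι (t i).left]
    rw [Category.assoc, hg', Iso.hom_inv_id_assoc]
  let x : T ⟶ A := Over.homMk g (Scheme.Cover.hom_ext 𝒰 _ _ fun i => by
    show (t i).left.opensRange.ι ≫ g ≫ A.hom = (t i).left.opensRange.ι ≫ T.hom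
    rw [← cancel_epi (t i).left.isoOpensRange.hom, reassoc_of% Scheme.Hom.isoOpensRange_hom_ι,
      reassoc_of% Scheme.Hom.isoOpensRange_hom_ι, reassoc_of% hg i, Over.w, Over.w])
  have hx : ∀ i, t i ≫ x = tpt (β i) := fun i => Over.OverMorphism.ext (hg i)
  -- morphisms with prescribed restrictions
  have key : ∀ (y : T ⟶ A) (ν : ∀ i, ThetaGrp.thetaPts A L (U i)), (∀ i, ThetaGrp.IsOverPt (ν i) (t i ≫ y)) →
      (∀ (i j : κ) (W : Over (Spec (CommRingCat.of k))) (p : W ⟶ U i) (q : W ⟶ U j),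
        p ≫ t i = q ≫ t j → res p (ν i) = res q (ν j)) →
      ∃ ψ : ThetaGrp.thetaObj A L T ⟶ ThetaGrp.thetaObj A L T, ψ.base = (ThetaGrp.transl A y).left ∧
        ∀ i, ThetaGrp.bcLift A L (t i) ≫ ψ = (ν i).1.hom ≫ ThetaGrp.bcLift A L (t i) := by
    intro y ν hy hν
    let b : CoGrothendieck ThetaGrp.modPF.{u} := ThetaGrp.thetaObj A L T
    let h := (ThetaGrp.transl A y).left
    let N := (Scheme.Modules.pullback h).obj b.fiber
    haveI : Coh.IsQCoh b.fiber := AmpleLib.isQCoh_of_isInvertible (PicLoc.isInvertible_pullback _ hL)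
    haveI : Coh.IsQCoh N := AmpleLib.isQCoh_of_isInvertible (PicLoc.isInvertible_pullback _ (PicLoc.isInvertible_pullback _ hL))
    let cN : (CoGrothendieck.domainCartesianLift b.fiber h : CoGrothendieck ThetaGrp.modPF.{u}) ⟶ b :=
      CoGrothendieck.cartesianLift (F := ThetaGrp.modPF.{u}) b.fiber h
    haveI : IsIso cN.fiber := inferInstanceAs (IsIso (𝟙 _))
    let v : ∀ i, ThetaGrp.thetaObj A L (U i) ⟶
        CoGrothendieck.domainCartesianLift (F := ThetaGrp.modPF.{u}) b.fiber (A ◁ t i).left := fun i =>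
      (CoGrothendieck.ι ThetaGrp.modPF _).map (ThetaGrp.bcLift A L (t i)).fiber
    haveI : ∀ i, IsIso (v i) := fun i => @Functor.map_isIso _ _ _ _ _ _ _ _ (isIso_bcLift_fiber L (t i))
    have hv : ∀ i, v i ≫ CoGrothendieck.cartesianLift (F := ThetaGrp.modPF.{u}) b.fiber (A ◁ t i).left =
        ThetaGrp.bcLift A L (t i) := fun i => factor (ThetaGrp.bcLift A L (t i))
    have hvb : ∀ i, (inv (v i)).base = 𝟙 _ := fun i => by
      have h1 : (inv (v i) ≫ v i).base = 𝟙 _ := by rw [IsIso.inv_hom_id]; rfl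
      rw [CoGrothendieck.categoryStruct_comp_base, show (v i).base = 𝟙 _ from rfl] at h1
      exact (Category.comp_id _).symm.trans h1
    have hα : ∀ i, ∃ α : (Scheme.Modules.pullback (A ◁ t i).left).obj b.fiber ⟶
        (Scheme.Modules.pullback (A ◁ t i).left).obj N,
        homOver (F := ThetaGrp.modPF.{u}) (A ◁ t i).left α ≫ cN =
          inv (v i) ≫ (ν i).1.hom ≫ ThetaGrp.bcLift A L (t i) := fun i => by
      obtain ⟨χ, hχb, hχ⟩ := exists_lift_of_fiber (F := ThetaGrp.modPF.{u}) cN (inv (v i) ≫ (ν i).1.hom ≫ ThetaGrp.bcLift A L (t i))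
        (A ◁ t i).left (by
          rw [CoGrothendieck.categoryStruct_comp_base, CoGrothendieck.categoryStruct_comp_base, hvb, hy i]
          refine (Category.id_comp _).trans ?_
          show (ThetaGrp.transl A (t i ≫ y)).left ≫ (A ◁ t i).left = (A ◁ t i).left ≫ h
          rw [← Over.comp_left, ← Over.comp_left, transl_whisker])
      obtain ⟨χb, α⟩ := χ
      subst hχb
      exact ⟨α, hχ⟩
    choose α hα using hα
    obtain ⟨φ, hφ⟩ := exists_map_eq_family (F := ThetaGrp.modPF.{u}) (fun i => (A ◁ t i).left) (N := N)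
      (fun z => (Desc19b.QDesc.toDescentData_map_bijective (cov_whisker t hcov)).2 z) α (by
        intro i j e π₁ π₂ hπ
        refine hom_ext_of_fiber (F := ThetaGrp.modPF.{u}) cN (congrArg (fun z => z.base) hπ) ?_
        refine (Category.assoc _ _ _).trans (((congrArg (π₁ ≫ ·) (hα i)).trans ?_).trans
          ((Category.assoc _ _ _).trans (congrArg (π₂ ≫ ·) (hα j))).symm)
        let ρ₁ := π₁ ≫ inv (v i)
        let ρ₂ := π₂ ≫ inv (v j)
        have hρ : ρ₁ ≫ ThetaGrp.bcLift A L (t i) = ρ₂ ≫ ThetaGrp.bcLift A L (t j) := by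
          simp only [ρ₁, ρ₂, Category.assoc]
          rw [← hv i, ← hv j, IsIso.inv_hom_id_assoc, IsIso.inv_hom_id_assoc]
          exact hπ
        refine (Category.assoc _ _ _).symm.trans (Eq.trans ?_ (Category.assoc _ _ _))
        show ρ₁ ≫ _ = ρ₂ ≫ _
        have hb : ρ₁.base ≫ (A ◁ t i).left = ρ₂.base ≫ (A ◁ t j).left := congrArg (fun z => z.base) hρ
        let W : Over (Spec (CommRingCat.of k)) := Over.mk (ρ₁.base ≫ (A ⊗ U i).hom)
        let a₁ : W ⟶ A ⊗ U i := Over.homMk ρ₁.base rfl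
        let a₂ : W ⟶ A ⊗ U j := Over.homMk ρ₂.base (by
          show _ = ρ₁.base ≫ (A ⊗ U i).hom
          rw [← Over.w (A ◁ t i), ← Category.assoc, hb, Category.assoc, Over.w])
        have ha : a₁ ≫ (A ◁ t i) = a₂ ≫ (A ◁ t j) := Over.OverMorphism.ext hb
        let p := a₁ ≫ snd A (U i)
        let q := a₂ ≫ snd A (U j)
        have hpq : p ≫ t i = q ≫ t j := by
          have := congrArg (· ≫ snd A T) ha
          simpa [p, q] using this
        have hfst : a₁ ≫ fst A (U i) = a₂ ≫ fst A (U j) := by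
          have := congrArg (· ≫ fst A T) ha
          simpa using this
        let w : W ⟶ A ⊗ W := lift (a₁ ≫ fst A (U i)) (𝟙 W)
        have hw₁ : w ≫ (A ◁ p) = a₁ := by
          refine CartesianMonoidalCategory.hom_ext _ _ ?_ ?_ <;> simp [w, p]
        have hw₂ : w ≫ (A ◁ q) = a₂ := by
          refine CartesianMonoidalCategory.hom_ext _ _ ?_ ?_ <;> simp [w, q, hfst]
        obtain ⟨σ, hσb, hσ⟩ := exists_lift_of_fiber (F := ThetaGrp.modPF.{u}) (ThetaGrp.bcLift A L p) ρ₁ w.left
          (congrArg (fun z => z.left) hw₁).symm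
        have hσ' : σ ≫ ThetaGrp.bcLift A L q = ρ₂ := by
          refine hom_ext_of_fiber (F := ThetaGrp.modPF.{u}) (ThetaGrp.bcLift A L (t j)) ?_ ?_
          · rw [CoGrothendieck.categoryStruct_comp_base, hσb]
            exact congrArg (fun z => z.left) hw₂
          · rw [Category.assoc, ← bcLift_comp, ← hpq, bcLift_comp, reassoc_of% hσ, hρ]
        rw [← hσ, ← hσ', Category.assoc, Category.assoc, ← reassoc_of% (res_bc p (ν i)),
          ← reassoc_of% (res_bc q (ν j)), ← bcLift_comp, ← bcLift_comp, hν i j W p q hpq, hpq])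
    refine ⟨(CoGrothendieck.ι ThetaGrp.modPF b.base).map φ ≫ cN, Category.id_comp _, fun i => ?_⟩
    have h3 : CoGrothendieck.cartesianLift (F := ThetaGrp.modPF.{u}) b.fiber (A ◁ t i).left ≫
        (CoGrothendieck.ι ThetaGrp.modPF b.base).map φ = homOver (A ◁ t i).left (α i) :=
      (cartesianLift_comp_ι _ φ).trans (congrArg (homOver (A ◁ t i).left) (hφ i))
    refine (congrArg (· ≫ _) (hv i).symm).trans ?_
    refine (Category.assoc _ _ _).trans ((congrArg (v i ≫ ·) ((Category.assoc _ _ _).symm.trans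
      ((congrArg (· ≫ cN) h3).trans (hα i)))).trans ?_)
    rw [IsIso.hom_inv_id_assoc]
  obtain ⟨ψ, hψb, hψ⟩ := key x β (fun i => by rw [hx]; exact isOverPt_tpt _) hβ
  obtain ⟨ψ', hψ'b, hψ'⟩ := key x⁻¹ (fun i => (β i)⁻¹)
    (fun i => by rw [GrpObj.comp_inv, hx]; exact isOverPt_inv (isOverPt_tpt _)) (fun i j W p q h => by
      have e := hβ i j W p q h
      refine inv_injective ?_
      have hr : ∀ {U' : Over (Spec (CommRingCat.of k))} (s : W ⟶ U') (a : ThetaGrp.thetaPts A L U'),
          (res s a⁻¹)⁻¹ = res s a := fun s a =>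
        inv_eq_of_mul_eq_one_left (by
          rw [← res_mul, mul_inv_cancel]
          exact left_eq_mul.1 ((congrArg (res s) (_root_.mul_one (1 : ThetaGrp.thetaPts A L _)).symm).trans (res_mul s 1 1)))
      rw [hr, hr, e])
  have hid : ∀ (φ φ' : ThetaGrp.thetaObj A L T ⟶ ThetaGrp.thetaObj A L T) (ν ν' : ∀ i, ThetaGrp.thetaPts A L (U i)),
      φ.base ≫ φ'.base = 𝟙 _ → (∀ i, ν' i * ν i = 1) →
      (∀ i, ThetaGrp.bcLift A L (t i) ≫ φ = (ν i).1.hom ≫ ThetaGrp.bcLift A L (t i)) →
      (∀ i, ThetaGrp.bcLift A L (t i) ≫ φ' = (ν' i).1.hom ≫ ThetaGrp.bcLift A L (t i)) → φ ≫ φ' = 𝟙 _ := by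
    intro φ φ' ν ν' hb hν h h'
    refine hom_ext_cover t hcov hL hb fun i => ?_
    rw [reassoc_of% h i, h' i, ← Category.assoc, ← mul_hom, hν]
    exact (Category.id_comp _).trans (Category.comp_id _).symm
  have hb : ∀ z : T ⟶ A, (ThetaGrp.transl A z).left ≫ (ThetaGrp.transl A z⁻¹).left = 𝟙 _ := fun z => by
    rw [← Over.comp_left, ← ThetaGrp.transl_mul, mul_inv_cancel, ThetaGrp.transl_one]; rfl
  let e : ThetaGrp.thetaObj A L T ≅ ThetaGrp.thetaObj A L T :=
    ⟨ψ, ψ', hid ψ ψ' β (fun i => (β i)⁻¹) (by rw [hψb, hψ'b]; exact hb x) (fun i => inv_mul_cancel _) hψ hψ',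
      hid ψ' ψ (fun i => (β i)⁻¹) β (by rw [hψb, hψ'b]; simpa using hb x⁻¹) (fun i => mul_inv_cancel _) hψ' hψ⟩
  exact ⟨⟨e, x, hψb⟩, fun i =>
    (eq_res (show ThetaGrp.IsBaseChange (β i) (t i) ⟨e, x, hψb⟩ from (hψ i).symm)).symm⟩

end glue

end Groth.Agent.ThetaLib
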