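import Groth.Agent.ThetaLib.PerpRank
import Groth.Agent.AbCubeLib.SymmetricEnd
import Groth.Agent.AbCubeLib.MulDegree
import Groth.Agent.AbCubeLib.DenseTorsion
import Groth.Agent.UnipStruct.Group
import Groth.Agent.AbCubeLib.Complement

/-!
# Preimages, kernels and `K([n]^* M)`
-/

set_option autoImplicit false
set_option backward.isDefEq.respectTransparency.types false
set_option linter.style.haveILetI false
set_option linter.unusedSectionVars false
set_option maxHeartbeats 800000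

universe u

open CategoryTheory CategoryTheory.Limits MonoidalCategory CartesianMonoidalCategory MonObj AlgebraicGeometry
open Groth.Agent.PicLib

namespace Groth.Agent.ThetaLib

variable {k : Type u} [Field k] {A B : Over (Spec (CommRingCat.of k))}

/-- Subschemes with the same points have the same rank. -/
theorem rk_eq_of_points {P P' X : Over (Spec (CommRingCat.of k))} [IsFinite P'.hom] (i : P ⟶ X) (i' : P' ⟶ X)
    [Mono i] [Mono i']
    (h : ∀ (T : Over (Spec (CommRingCat.of k))) (x : T ⟶ X), (∃ y, y ≫ i = x) ↔ ∃ y, y ≫ i' = x) :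
    IsFinite P.hom ∧ rk P = rk P' := by
  obtain ⟨a, ha⟩ := (h P i).1 ⟨𝟙 P, Category.id_comp i⟩
  obtain ⟨b, hb⟩ := (h P' i').2 ⟨𝟙 P', Category.id_comp i'⟩
  let e : P ≅ P' := ⟨a, b, by rw [← cancel_mono i, Category.assoc, hb, ha, Category.id_comp],
    by rw [← cancel_mono i', Category.assoc, ha, hb, Category.id_comp]⟩
  haveI : IsIso e.hom.left := inferInstanceAs (IsIso ((Over.forget _).mapIso e).hom)
  exact ⟨by rw [← Over.w e.hom]; infer_instance, rk_congr e⟩

variable [GrpObj A] [GrpObj B]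

theorem mono_kerι (f : A ⟶ B) [IsMonHom f] : Mono (UnipStruct.kerι f) :=
  AlgGrpLib.kernel_mono (UnipStruct.isKernel_kerι f)

theorem exists_kerι_iff (f : A ⟶ B) [IsMonHom f] {T : Over (Spec (CommRingCat.of k))} (x : T ⟶ A) :
    (∃ y, y ≫ UnipStruct.kerι f = x) ↔ x ≫ f = 1 :=
  ⟨fun ⟨y, hy⟩ => hy ▸ UnipStruct.kerι_comp f y, fun h => AlgGrpLib.exists_lift_kernel (UnipStruct.isKernel_kerι f) h⟩

theorem isFinite_kerObj (f : A ⟶ B) [IsMonHom f] [IsFinite f.left] : IsFinite (UnipStruct.kerObj f).hom := by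
  have := MorphismProperty.of_isPullback (P := @IsFinite)
    (IsPullback.map (Over.forget _) (UnipStruct.isKernel_kerι f)) ‹IsFinite f.left›
  simpa [Over.toUnit_left] using this

theorem rk_pos_of_grp (N : Over (Spec (CommRingCat.of k))) [GrpObj N] [IsFinite N.hom] : 1 ≤ rk N :=
  rk_pos (η[N].left (IsLocalRing.closedPoint k))

theorem rk_kerObj (f : A ⟶ B) [IsMonHom f] [IsFinite f.left] [Flat f.left] {n : ℕ}
    (h : ∀ y, Scheme.Hom.finrank f.left y = n) : rk (UnipStruct.kerObj f) = n := by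
  haveI := isFinite_kerObj f
  have sq := IsPullback.map (Over.forget _) (UnipStruct.isKernel_kerι f)
  haveI : Flat ((Over.forget (Spec (CommRingCat.of k))).map f) := ‹Flat f.left›
  haveI : IsFinite ((Over.forget (Spec (CommRingCat.of k))).map f) := ‹IsFinite f.left›
  have e := Scheme.Hom.finrank_of_isPullback _ _ _ _ sq (IsLocalRing.closedPoint k)
  refine Eq.trans ?_ (e.trans (h _))
  show rk _ = Scheme.Hom.finrank (toUnit (UnipStruct.kerObj f)).left _
  rw [Over.toUnit_left]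
  rfl

/-- The preimage of a subgroup scheme under an isogeny. -/
theorem exists_preimage (f : A ⟶ B) [IsMonHom f] [IsFinite f.left] [Surjective f.left] [Flat f.left]
    {H : Over (Spec (CommRingCat.of k))} [GrpObj H] (iH : H ⟶ B) [IsMonHom iH] [IsClosedImmersion iH.left] :
    ∃ (P : Over (Spec (CommRingCat.of k))) (_ : GrpObj P) (iP : P ⟶ A) (p : P ⟶ H),
      IsMonHom iP ∧ IsClosedImmersion iP.left ∧ IsMonHom p ∧ Surjective p.left ∧ Flat p.left ∧ IsFinite p.left ∧
      (∀ (T : Over (Spec (CommRingCat.of k))) (x : T ⟶ A), (∃ y, y ≫ iP = x) ↔ ∃ z, z ≫ iH = x ≫ f) ∧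
      (IsFinite H.hom → IsFinite P.hom ∧ rk P = rk (UnipStruct.kerObj f) * rk H) := by
  haveI : Mono iH := Over.mono_of_mono_left iH
  let P := pullback f iH
  let iP : P ⟶ A := pullback.fst f iH
  let p : P ⟶ H := pullback.snd f iH
  have sq : IsPullback iP p f iH := IsPullback.of_hasPullback f iH
  have sql := sq.map (Over.forget _)
  haveI : IsClosedImmersion iP.left :=
    MorphismProperty.of_isPullback (P := @IsClosedImmersion) sql.flip ‹IsClosedImmersion iH.left›
  haveI : Surjective p.left := MorphismProperty.of_isPullback (P := @Surjective) sql ‹Surjective f.left›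
  haveI : Flat p.left := MorphismProperty.of_isPullback (P := @Flat) sql ‹Flat f.left›
  haveI : IsFinite p.left := MorphismProperty.of_isPullback (P := @IsFinite) sql ‹IsFinite f.left›
  haveI : Mono iP := Over.mono_of_mono_left iP
  have hpts : ∀ (T : Over (Spec (CommRingCat.of k))) (x : T ⟶ A), (∃ y, y ≫ iP = x) ↔ ∃ z, z ≫ iH = x ≫ f :=
    fun T x => ⟨fun ⟨y, hy⟩ => ⟨y ≫ p, by rw [Category.assoc, ← sq.w, ← Category.assoc, hy]⟩,
      fun ⟨z, hz⟩ => ⟨sq.lift x z hz.symm, sq.lift_fst _ _ _⟩⟩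
  obtain ⟨gP, hiP⟩ := AlgGrpLib.exists_grpObj_of_mono iP
    ((hpts _ 1).2 ⟨1, by rw [MonObj.one_comp, MonObj.one_comp]⟩)
    ((hpts _ _).2 ⟨(fst P P ≫ p) * (snd P P ≫ p), by
      rw [MonObj.mul_comp, MonObj.mul_comp, Category.assoc, Category.assoc, Category.assoc, Category.assoc, sq.w]⟩)
    ((hpts _ _).2 ⟨p⁻¹, by rw [GrpObj.inv_comp, GrpObj.inv_comp, sq.w]⟩)
  haveI hp : IsMonHom p := WittGrp.isMonHom_of_comp_mul p
    (by rw [← cancel_mono iH, Category.assoc, ← sq.w, MonObj.one_comp, MonObj.one_comp])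
    (fun T x y => by
      rw [← cancel_mono iH, Category.assoc, MonObj.mul_comp _ _ iH, Category.assoc, Category.assoc, ← sq.w,
        MonObj.mul_comp _ _ (iP ≫ f)])
  refine ⟨P, gP, iP, p, hiP, inferInstance, hp, inferInstance, inferInstance, inferInstance, hpts, fun hH => ?_⟩
  haveI : IsFinite P.hom := by rw [← Over.w p]; infer_instance
  obtain ⟨j, hj⟩ := (hpts _ (UnipStruct.kerι f)).2 ⟨1, by
    rw [MonObj.one_comp, AlgGrpLib.kernel_comp (UnipStruct.isKernel_kerι f)]⟩
  haveI := mono_kerι f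
  haveI : Mono (j ≫ iP) := by rw [hj]; infer_instance
  haveI : Mono j := mono_of_mono j iP
  have hk : AlgGrp.IsKernel j p := AlgGrpLib.isKernel_of_points j p
    (by rw [← cancel_mono iH, Category.assoc, ← sq.w, ← Category.assoc, hj,
      AlgGrpLib.kernel_comp (UnipStruct.isKernel_kerι f), MonObj.one_comp])
    fun T g hg => by
      obtain ⟨n, hn⟩ := (exists_kerι_iff f (g ≫ iP)).2 (by
        rw [Category.assoc, sq.w, ← Category.assoc, hg, MonObj.one_comp])
      exact ⟨n, by rw [← cancel_mono iP, Category.assoc, hj, hn]⟩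
  exact ⟨inferInstance, (rk_eq_mul_of_kernel p j hk).2⟩

variable [IsCommMonObj A] [IsCommMonObj B] [IsProper A.hom] [GeometricallyIntegral A.hom] [IsProper B.hom]
  [GeometricallyIntegral B.hom]

/-- The rank of the kernel is multiplicative. -/
theorem rk_kerObj_comp (s : B ⟶ A) (f : A ⟶ B) [IsMonHom s] [IsMonHom f] [IsFinite s.left] [Surjective s.left]
    [IsFinite f.left] [Flat s.left] :
    rk (UnipStruct.kerObj (s ≫ f)) = rk (UnipStruct.kerObj s) * rk (UnipStruct.kerObj f) := by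
  haveI := isFinite_kerObj f
  haveI := UnipStruct.isClosedImmersion_kerι f
  obtain ⟨P, gP, iP, p, _, _, _, _, _, _, hpts, hrk⟩ := exists_preimage s (UnipStruct.kerι f)
  obtain ⟨hPfin, hP⟩ := hrk inferInstance
  haveI := hPfin
  haveI : Mono iP := Over.mono_of_mono_left iP
  haveI := mono_kerι (s ≫ f)
  rw [← hP]
  refine (rk_eq_of_points (UnipStruct.kerι (s ≫ f)) iP fun T x => ?_).2
  rw [exists_kerι_iff, hpts, exists_kerι_iff, Category.assoc]

theorem pair2_pow_left (a : PicM A.left) {T : Over (Spec (CommRingCat.of k))} (f g : T ⟶ A) (n : ℕ) :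
    AbCubeLib.pair2 a (f ^ n) g = n • AbCubeLib.pair2 a f g := by
  induction n with
  | zero => rw [pow_zero, zero_smul, AbCubeLib.pair2_one_left]
  | succ n ih => rw [pow_succ, AbCubeLib.pair2_mul_left, ih, succ_nsmul]

theorem pair2_pow_right (a : PicM A.left) {T : Over (Spec (CommRingCat.of k))} (f g : T ⟶ A) (n : ℕ) :
    AbCubeLib.pair2 a f (g ^ n) = n • AbCubeLib.pair2 a f g := by
  rw [AbCubeLib.pair2_comm, pair2_pow_left, AbCubeLib.pair2_comm]

theorem pair2_pb (φ : A ⟶ B) [IsMonHom φ] (b : PicM B.left) {T : Over (Spec (CommRingCat.of k))} (f g : T ⟶ A) :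
    AbCubeLib.pair2 (AbCubeLib.pb φ b) f g = AbCubeLib.pair2 b (f ≫ φ) (g ≫ φ) := by
  have h : ∀ e : T ⟶ A, AbCubeLib.pbV (AbCubeLib.pb φ b) e = AbCubeLib.pbV b (e ≫ φ) := fun e => by
    apply Additive.toMul.injective
    refine Units.ext ?_
    rw [AbCubeLib.pbV_val, AbCubeLib.pbV_val, AbCubeLib.pb_pb]
  rw [AbCubeLib.pair2, AbCubeLib.pair2, h, h, h, MonObj.mul_comp]

/-- The points of `K(L)` through the biadditive pairing of the class. -/
theorem mem_KL_iff {L : A.left.Modules} (hL : PicF.IsInvertible L) {K : Over (Spec (CommRingCat.of k))} {iK : K ⟶ A}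
    (hK : ThetaGrp.IsKL A L iK) {T : Over (Spec (CommRingCat.of k))} (x : T ⟶ A) :
    (∃ y, y ≫ iK = x) ↔ AbCubeLib.pair2 (PicM.of hL) (fst A T) (snd A T ≫ x) = 0 := by
  have h0 : AbCubeLib.pair2 (PicM.of hL) (fst A T) (snd A T ≫ x) = 0 ↔
      AbCubeLib.pb (fst A T * (snd A T ≫ x)) (PicM.of hL) =
        AbCubeLib.pb (fst A T) (PicM.of hL) * AbCubeLib.pb (snd A T ≫ x) (PicM.of hL) := by
    rw [AbCubeLib.pair2, sub_sub, sub_eq_zero, ← AbCubeLib.pbV_val, ← AbCubeLib.pbV_val, ← AbCubeLib.pbV_val,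
      ← Units.val_mul, ← toMul_add, ← Units.ext_iff]
    exact Additive.toMul.injective.eq_iff.symm
  have h1 : AbCubeLib.pb (snd A T ≫ x) (PicM.of hL) = PicM.pull (snd A T).left (PicM.pull x.left (PicM.of hL)) := by
    rw [PicM.pull_pull, ← Over.comp_left]
  rw [KLLib.factors_iff hK hL, h0, h1]
  exact ⟨fun ⟨m, hm⟩ => KLLib.eq_pull hm ▸ hm, fun h => ⟨_, h⟩⟩

/-- `K(L)` depends only on the class of `L`. -/
theorem isKL_of_eq {L L' : A.left.Modules} (hL : PicF.IsInvertible L) (hL' : PicF.IsInvertible L')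
    (e : PicM.of hL = PicM.of hL') {K : Over (Spec (CommRingCat.of k))} {iK : K ⟶ A} (hK : ThetaGrp.IsKL A L iK) :
    ThetaGrp.IsKL A L' iK := by
  obtain ⟨K', iK', hK'⟩ := exists_isKL A hL'
  exact ⟨hK.closed, fun T z => by rw [hK'.univ, mem_KL_iff hL' hK', mem_KL_iff hL hK, e]⟩

omit [GrpObj A] [IsCommMonObj A] [IsProper A.hom] [GeometricallyIntegral A.hom] in
/-- The rank of the preimage of `K(M)` under multiplication by `n`: `K([n]^* M)`. -/
theorem rk_KL_pow {M : B.left.Modules} (hM : PicF.IsInvertible M) {KM : Over (Spec (CommRingCat.of k))} {iM : KM ⟶ B}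
    (hKM : ThetaGrp.IsKL B M iM) [IsFinite KM.hom] {n : ℕ} (hn : 0 < n) {g : ℕ}
    (hg : topologicalKrullDim B.left = g) {K' : Over (Spec (CommRingCat.of k))} {iK' : K' ⟶ B}
    (hK' : ThetaGrp.IsKL B ((Scheme.Modules.pullback ((𝟙 B) ^ n).left).obj M) iK') :
    IsFinite K'.hom ∧ rk K' = (n * n) ^ (2 * g) * rk KM := by
  have hnn : 0 < n * n := Nat.mul_pos hn hn
  haveI := AbCubeLib.isFinite_pow (A := B) hnn
  haveI := AbCubeLib.flat_pow (A := B) hnn
  haveI := AbCubeLib.surjective_pow (A := B) hnn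
  haveI : IsMonHom ((𝟙 B) ^ (n * n)) := AbCubeLib.isMonHom_npow (𝟙 B) _
  haveI : IsMonHom ((𝟙 B) ^ n) := AbCubeLib.isMonHom_npow (𝟙 B) _
  obtain ⟨gKM, hiM⟩ := exists_grpObj_KL hM hKM
  haveI := hKM.closed
  haveI := hK'.closed
  obtain ⟨P, gP, iP, p, _, _, _, _, _, _, hpts, hrk⟩ := exists_preimage ((𝟙 B) ^ (n * n)) iM
  obtain ⟨hPfin, hP⟩ := hrk inferInstance
  haveI := hPfin
  rw [← rk_kerObj ((𝟙 B) ^ (n * n)) (AbCubeLib.finrank_pow hnn hg), ← hP]
  haveI : Mono iP := Over.mono_of_mono_left iP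
  haveI : Mono iK' := Over.mono_of_mono_left iK'
  refine rk_eq_of_points iK' iP fun T x => ?_
  rw [hpts, mem_KL_iff hM hKM, mem_KL_iff (PicLoc.isInvertible_pullback _ hM) hK', ← PicM.pull_of _ hM]
  refine Eq.congr ?_ rfl
  show AbCubeLib.pair2 (AbCubeLib.pb ((𝟙 B) ^ n) (PicM.of hM)) _ _ = _
  rw [pair2_pb, MonObj.comp_pow, MonObj.comp_pow, MonObj.comp_pow, Category.comp_id, Category.comp_id,
    Category.comp_id, MonObj.comp_pow, pair2_pow_left, pair2_pow_right, pair2_pow_right, mul_nsmul]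

end Groth.Agent.ThetaLib
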