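import Groth.Agent.ThetaLib.CommPairing
import Groth.Agent.AbDualLib.KernelDual

/-!
# The commutator pairing as a bicharacter
-/

set_option autoImplicit false
set_option backward.isDefEq.respectTransparency.types false
set_option linter.style.haveILetI false
set_option linter.unusedSectionVars false
set_option maxHeartbeats 800000

universe u

open CategoryTheory CategoryTheory.Limits MonoidalCategory CartesianMonoidalCategory MonObj AlgebraicGeometry
open CoactBr
open scoped TensorProduct

namespace Groth.Agent.ThetaLib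

variable {k : Type u} [Field k] {A : Over (Spec (CommRingCat.of k))} [GrpObj A] {L : A.left.Modules}
  [IsProper A.hom] [GeometricallyIntegral A.hom] [IsCommMonObj A]
  {R S : Type u} [CommRing R] [CommRing S] [HopfAlgebra k R] [HopfAlgebra k S]

/-- A commutative finite group scheme has cocommutative coordinate ring. -/
theorem isCocomm_of_mul_comm
    (h : ∀ {T : Over (Spec (CommRingCat.of k))} (a b : T ⟶ sp k R), a * b = b * a) : Coalgebra.IsCocomm k R := by
  refine ⟨LinearMap.ext fun x => ?_⟩
  have e := h (pt (Algebra.TensorProduct.includeLeft : R →ₐ[k] R ⊗[k] R)) (pt Algebra.TensorProduct.includeRight)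
  rw [pt_mul_pt, pt_mul_pt] at e
  have e' := DFunLike.congr_fun (pt_injective e) x
  simp only [Algebra.TensorProduct.lift_includeLeft_includeRight, AlgHom.comp_apply, AlgHom.id_apply,
    Bialgebra.comulAlgHom_apply] at e'
  have hc : ∀ z : R ⊗[k] R, (Algebra.TensorProduct.lift (Algebra.TensorProduct.includeRight : R →ₐ[k] R ⊗[k] R)
      Algebra.TensorProduct.includeLeft (fun _ _ => .all ..)) z = TensorProduct.comm k R R z := fun z => by
    induction z with
    | zero => simp
    | tmul a b => simp
    | add x y hx hy => simp only [map_add, hx, hy]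
  exact (hc _).symm.trans e'.symm

variable (hL : PicF.IsInvertible L) (σN : ThetaGrp.thetaPts A L (sp k R)) (σK : ThetaGrp.thetaPts A L (sp k S))

/-- The value of the pairing on a pair of points. -/
noncomputable def eVal {T : Type u} [CommRing T] [Algebra k T] (φ : R →ₐ[k] T) (ψ : S →ₐ[k] T) : T :=
  AbDualLib.evSp (k := k) T (ePair hL σN σK (pt φ) (pt ψ) :)

theorem eVal_comp {T T' : Type u} [CommRing T] [Algebra k T] [CommRing T'] [Algebra k T'] (χ : T →ₐ[k] T')
    (φ : R →ₐ[k] T) (ψ : S →ₐ[k] T) : eVal hL σN σK (χ.comp φ) (χ.comp ψ) = χ (eVal hL σN σK φ ψ) := by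
  rw [eVal, eVal, pt_comp, pt_comp, ePair_res]
  exact AbDualLib.evSp_pt χ _

/-- The element of `R ⊗ S` of the pairing. -/
noncomputable def eEl : R ⊗[k] S :=
  eVal hL σN σK Algebra.TensorProduct.includeLeft Algebra.TensorProduct.includeRight

theorem eVal_eq {T : Type u} [CommRing T] [Algebra k T] (φ : R →ₐ[k] T) (ψ : S →ₐ[k] T) :
    eVal hL σN σK φ ψ = Algebra.TensorProduct.productMap φ ψ (eEl hL σN σK) := by
  rw [eEl, ← eVal_comp, Algebra.TensorProduct.productMap_left, Algebra.TensorProduct.productMap_right]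

theorem map_eEl {R' S' : Type u} [CommRing R'] [CommRing S'] [Algebra k R'] [Algebra k S'] (φ : R →ₐ[k] R')
    (ψ : S →ₐ[k] S') : Algebra.TensorProduct.map φ ψ (eEl hL σN σK) =
      eVal hL σN σK ((Algebra.TensorProduct.includeLeft : R' →ₐ[k] R' ⊗[k] S').comp φ)
        (Algebra.TensorProduct.includeRight.comp ψ) := by
  rw [AbDualLib.map_eq_productMap, eVal_eq]

variable {iN : sp k R ⟶ A} [IsMonHom iN] (hσN : tpt σN = iN) {iS : sp k S ⟶ A} [IsMonHom iS] (hσK : tpt σK = iS)

include hσN hσK in
theorem isBichar_eEl : AbDualLib.IsBichar (eEl hL σN σK) := by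
  refine ⟨?_, ?_, ?_, ?_⟩
  · rw [map_eEl, map_eEl, map_eEl, eVal, eVal, eVal, pt_comp, ← HopfLib.SpPoints.pt_includeLeft_mul_includeRight,
      MonObj.comp_mul, ePair_mul_left hL σN σK iN hσN, Units.val_mul, map_mul, ← pt_comp, ← pt_comp]
  · rw [map_eEl, eVal]
    have e : pt ((Algebra.TensorProduct.includeLeft : k →ₐ[k] k ⊗[k] S).comp (Bialgebra.counitAlgHom k R)) = 1 := by
      rw [one_eq_pt]
      congr 1
    rw [e, ePair_one_left hL σN σK iN hσN, Units.val_one, map_one]
  · rw [map_eEl, map_eEl, map_eEl, eVal, eVal, eVal, pt_comp (Bialgebra.comulAlgHom k S), ← HopfLib.SpPoints.pt_includeLeft_mul_includeRight,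
      MonObj.comp_mul, ePair_mul_right hL σN σK iS hσK, Units.val_mul, map_mul, ← pt_comp, ← pt_comp]
  · rw [map_eEl, eVal]
    have e : pt ((Algebra.TensorProduct.includeRight : k →ₐ[k] R ⊗[k] k).comp (Bialgebra.counitAlgHom k S)) = 1 := by
      rw [one_eq_pt]
      congr 1
      exact congrArg (fun z => AlgHom.comp z (Bialgebra.counitAlgHom k S)) (Subsingleton.elim _ _)
    rw [e, ePair_one_right hL σN σK iS hσK, Units.val_one, map_one]

variable [FiniteDimensional k R] [Coalgebra.IsCocomm k R]

include hσN hσK in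
/-- The kernel of the homomorphism to the Cartier dual consists of the orthogonal points. -/
theorem comp_toDual_eq_one_iff (hU : AbDualLib.IsBichar (eEl hL σN σK)) {T : Type u} [CommRing T] [Algebra k T]
    (h : S →ₐ[k] T) :
    pt h ≫ pt (hU.toDual : CartDual.D k R →ₐ[k] S) = 1 ↔ ThetaGrp.IsPerpPt L iN (pt h ≫ iS) := by
  rw [← pt_comp, one_eq_pt, pt_injective.eq_iff, isPerpPt_iff hL σN σK hσN hσK]
  let U := eEl hL σN σK
  have hev : eVal hL σN σK (Algebra.TensorProduct.includeLeft : R →ₐ[k] R ⊗[k] T)
      (Algebra.TensorProduct.includeRight.comp h) = Algebra.TensorProduct.map (AlgHom.id k R) h U := by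
    rw [map_eEl, AlgHom.comp_id]
  have hdu1 : ∀ a : R →ₗ[k] k, AbDualLib.du a (1 : R ⊗[k] T) = algebraMap k T (a 1) := fun a => by
    rw [Algebra.TensorProduct.one_def, AbDualLib.du_tmul, Algebra.algebraMap_eq_smul_one]
  have key : (h.comp (hU.toDual : CartDual.D k R →ₐ[k] S) =
      (Algebra.ofId k T).comp (Bialgebra.counitAlgHom k (CartDual.D k R))) ↔
        Algebra.TensorProduct.map (AlgHom.id k R) h U = 1 := by
    constructor
    · intro e
      let b := Module.finBasis k R
      have h1 : (1 : R ⊗[k] T) = ∑ j, b j ⊗ₜ AbDualLib.du (b.coord j) (1 : R ⊗[k] T) := by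
        have := AbDualLib.map_eq_sum_du b (Algebra.ofId k T) (1 : R ⊗[k] k)
        rw [map_one] at this
        refine this.trans (Finset.sum_congr rfl fun j _ => congrArg _ ?_)
        rw [hdu1, Algebra.TensorProduct.one_def, AbDualLib.du_tmul]
        simp
      rw [AbDualLib.map_eq_sum_du b, h1]
      refine Finset.sum_congr rfl fun j _ => congrArg _ ?_
      rw [hdu1]
      exact DFunLike.congr_fun e (WithConv.toConv (b.coord j))
    · intro e
      refine AlgHom.ext fun a => ?_
      show h (AbDualLib.du a.ofConv U) = algebraMap k T (a 1)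
      rw [← AbDualLib.du_map_right, e]
      exact hdu1 a.ofConv
  rw [key]
  constructor
  · intro e W t a
    haveI := Misc15.AffinePoints.isIso_Q (R := k) R T
    let l := lift a t ≫ CategoryTheory.inv (Misc15.AffinePoints.Q (R := k) R T)
    have hl : l ≫ Misc15.AffinePoints.Q (R := k) R T = lift a t := by
      rw [Category.assoc, IsIso.inv_hom_id, Category.comp_id]
    have ha : l ≫ pt (Algebra.TensorProduct.includeLeft : R →ₐ[k] R ⊗[k] T) = a := by
      have := congrArg (· ≫ fst _ _) hl
      simpa using this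
    have hb : l ≫ pt (Algebra.TensorProduct.includeRight : T →ₐ[k] R ⊗[k] T) = t := by
      have := congrArg (· ≫ snd _ _) hl
      simpa using this
    have e' : ePair hL σN σK (pt (Algebra.TensorProduct.includeLeft : R →ₐ[k] R ⊗[k] T))
        (pt (Algebra.TensorProduct.includeRight.comp h)) = 1 :=
      Units.ext (AbDualLib.evSp_injective (k := k) _ ((hev.trans e).trans (map_one _).symm))
    have e2 : ePair hL σN σK a (t ≫ pt h) =
        ePair hL σN σK (l ≫ pt (Algebra.TensorProduct.includeLeft : R →ₐ[k] R ⊗[k] T))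
          (l ≫ (pt (Algebra.TensorProduct.includeRight : T →ₐ[k] R ⊗[k] T) ≫ pt h)) := by
      rw [ha, ← Category.assoc, hb]
    rw [e2, ← pt_comp, ePair_res, e', map_one]
  · intro e
    rw [← hev, eVal, pt_comp, e _ (pt (Algebra.TensorProduct.includeRight : T →ₐ[k] R ⊗[k] T)), Units.val_one, map_one]

end Groth.Agent.ThetaLib
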