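import Groth.Agent.ThetaLib.PerpBichar
import Groth.Agent.ThetaLib.FiniteRank
import Groth.Agent.AlgGrpLib.SubGrpMono
import Groth.Agent.AlgGrpLib.KernelGrp

/-!
# The orthogonal of a finite subgroup of `K(L)` and its rank
-/

set_option autoImplicit false
set_option backward.isDefEq.respectTransparency.types false
set_option linter.style.haveILetI false
set_option linter.unusedSectionVars false
set_option maxHeartbeats 800000

universe u

open CategoryTheory CategoryTheory.Limits MonoidalCategory CartesianMonoidalCategory MonObj AlgebraicGeometry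
open CoactBr

namespace Groth.Agent.ThetaLib

variable {k : Type u} [Field k] {A : Over (Spec (CommRingCat.of k))} [GrpObj A] [IsProper A.hom]
  [GeometricallyIntegral A.hom] [IsCommMonObj A] {L : A.left.Modules}

/-- `K(L)` is a subgroup scheme. -/
theorem exists_grpObj_KL (hL : PicF.IsInvertible L) {K : Over (Spec (CommRingCat.of k))} {iK : K ⟶ A}
    (hK : ThetaGrp.IsKL A L iK) : ∃ _ : GrpObj K, IsMonHom iK := by
  haveI := mono_iK hK
  refine AlgGrpLib.exists_grpObj_of_mono iK ((KLLib.factors_iff hK hL 1).2 ⟨1, KLLib.translates_one hL⟩) ?_ ?_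
  · obtain ⟨m₁, h₁⟩ := (KLLib.factors_iff hK hL (fst K K ≫ iK)).1 ⟨fst K K, rfl⟩
    obtain ⟨m₂, h₂⟩ := (KLLib.factors_iff hK hL (snd K K ≫ iK)).1 ⟨snd K K, rfl⟩
    exact (KLLib.factors_iff hK hL _).2 ⟨_, KLLib.translates_mul h₁ h₂⟩
  · obtain ⟨m, h⟩ := (KLLib.factors_iff hK hL iK).1 ⟨𝟙 K, Category.id_comp iK⟩
    exact (KLLib.factors_iff hK hL _).2 ⟨_, KLLib.translates_inv h⟩

theorem discreteTopology_of_isFinite (X : Over (Spec (CommRingCat.of k))) [IsFinite X.hom] :
    DiscreteTopology X.left := by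
  obtain ⟨R, _, _, hR, ⟨e⟩⟩ := exists_algebra_model X
  haveI : IsArtinianRing R := isArtinian_of_tower k (inferInstance : IsArtinian k R)
  haveI : DiscreteTopology (sp k R).left := inferInstanceAs (DiscreteTopology (PrimeSpectrum R))
  let h : (sp k R).left ≃ₜ X.left := Scheme.homeoOfIso ((Over.forget _).mapIso e)
  exact h.discreteTopology

/-- Over a finite scheme every point of `K(L)` lifts to the theta group. -/
theorem exists_lift_univ (hL : PicF.IsInvertible L) {K : Over (Spec (CommRingCat.of k))} {iK : K ⟶ A}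
    (hK : ThetaGrp.IsKL A L iK) {N : Over (Spec (CommRingCat.of k))} [IsFinite N.hom] (i : N ⟶ A)
    (hy : ∃ y, y ≫ iK = i) : ∃ σ : ThetaGrp.thetaPts A L N, tpt σ = i := by
  haveI := discreteTopology_of_isFinite N
  exact exists_pt_of_discrete hL hK hy

theorem isPerpPt_res {N T W : Over (Spec (CommRingCat.of k))} {iN : N ⟶ A} {x : T ⟶ A}
    (h : ThetaGrp.IsPerpPt L iN x) (t : W ⟶ T) : ThetaGrp.IsPerpPt L iN (t ≫ x) :=
  fun T' f y β₁ β₂ h₁ h₂ => h T' (f ≫ t) y β₁ β₂ (by rwa [Category.assoc]) h₂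

theorem isPerpPt_iso_comp_iff {N N' T : Over (Spec (CommRingCat.of k))} (e : N' ⟶ N) [IsIso e] (iN : N ⟶ A)
    (x : T ⟶ A) : ThetaGrp.IsPerpPt L (e ≫ iN) x ↔ ThetaGrp.IsPerpPt L iN x :=
  ⟨fun h T' f y β₁ β₂ h₁ h₂ => h T' f (y ≫ CategoryTheory.inv e) β₁ β₂ h₁
      (by rw [Category.assoc, IsIso.inv_hom_id_assoc]; exact h₂),
    fun h T' f y β₁ β₂ h₁ h₂ => h T' f (y ≫ e) β₁ β₂ h₁ (by rw [Category.assoc]; exact h₂)⟩

section

variable {R S : Type u} [CommRing R] [CommRing S] [HopfAlgebra k R] [HopfAlgebra k S]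
  [FiniteDimensional k R] [FiniteDimensional k S]

/-- The orthogonal in affine models. -/
theorem exists_perp_spec (hL : PicF.IsInvertible L) (iN : sp k R ⟶ A) [IsMonHom iN] [Mono iN]
    (iS : sp k S ⟶ A) [IsMonHom iS] [IsClosedImmersion iS.left] (σN : ThetaGrp.thetaPts A L (sp k R)) (hσN : tpt σN = iN)
    (σK : ThetaGrp.thetaPts A L (sp k S)) (hσK : tpt σK = iS) :
    ∃ (P : Over (Spec (CommRingCat.of k))) (_ : GrpObj P) (iP : P ⟶ A),
      IsMonHom iP ∧ IsClosedImmersion iP.left ∧ IsFinite P.hom ∧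
      (∀ (T : Over (Spec (CommRingCat.of k))) (x : T ⟶ A), (∃ y : T ⟶ P, y ≫ iP = x) ↔
        ((∃ y : T ⟶ sp k S, y ≫ iS = x) ∧ ThetaGrp.IsPerpPt L iN x)) ∧
      rk (sp k S) ≤ rk P * rk (sp k R) := by
  haveI : Coalgebra.IsCocomm k R := isCocomm_of_mul_comm fun a b => by
    rw [← cancel_mono iN, MonObj.mul_comp, MonObj.mul_comp, mul_comm]
  have hU := isBichar_eEl hL σN σK hσN hσK
  let v : sp k S ⟶ sp k (CartDual.D k R) := pt (hU.toDual : CartDual.D k R →ₐ[k] S)
  haveI hv : IsMonHom v := HopfLib.SpPoints.isMonHom_pt (hU.toDual : CartDual.D k R →ₐ[k] S)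
    (AlgHom.ext fun a => LinearMap.congr_fun (CoalgHomClass.counit_comp hU.toDual) a)
    (AlgHom.ext fun a => (LinearMap.congr_fun (CoalgHomClass.map_comp_comul hU.toDual) a).symm)
  haveI : IsFinite (sp k S).hom :=
    (IsFinite.SpecMap_iff (CommRingCat.ofHom (algebraMap k S))).2 (RingHom.finite_algebraMap.2 inferInstance)
  haveI : IsFinite (sp k (CartDual.D k R)).hom :=
    (IsFinite.SpecMap_iff (CommRingCat.ofHom (algebraMap k (CartDual.D k R)))).2
      (RingHom.finite_algebraMap.2 inferInstance)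
  let P := pullback v η[sp k (CartDual.D k R)]
  let i₀ : P ⟶ sp k S := pullback.fst v η[sp k (CartDual.D k R)]
  have hk : AlgGrp.IsKernel i₀ v := by
    have h := IsPullback.of_hasPullback v η[sp k (CartDual.D k R)]
    rwa [toUnit_unique (pullback.snd v η[sp k (CartDual.D k R)]) (toUnit P)] at h
  obtain ⟨gP, hi₀⟩ := AlgGrpLib.exists_grpObj_kernel v i₀ hk
  haveI : IsClosedImmersion η[sp k (CartDual.D k R)].left := by
    haveI : IsClosedImmersion (η[sp k (CartDual.D k R)].left ≫ (sp k (CartDual.D k R)).hom) := by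
      rw [Over.w]; exact inferInstanceAs (IsClosedImmersion (𝟙 (Spec (CommRingCat.of k))))
    exact IsClosedImmersion.of_comp _ (sp k (CartDual.D k R)).hom
  haveI : IsClosedImmersion i₀.left :=
    MorphismProperty.of_isPullback (P := @IsClosedImmersion) (IsPullback.map (Over.forget _) hk).flip
      ‹IsClosedImmersion η[sp k (CartDual.D k R)].left›
  have hciP : IsClosedImmersion (i₀ ≫ iS).left := by rw [Over.comp_left]; infer_instance
  haveI : IsFinite P.hom := by rw [← Over.w i₀]; infer_instance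
  haveI : Mono iS := Over.mono_of_mono_left iS
  refine ⟨P, gP, i₀ ≫ iS, inferInstance, hciP, inferInstance, fun T x => ?_, ?_⟩
  · constructor
    · rintro ⟨y, rfl⟩
      refine ⟨⟨y ≫ i₀, Category.assoc _ _ _⟩, isPerpPt_res ?_ y⟩
      haveI : IsAffine P.left := isAffine_of_isAffineHom P.hom
      obtain ⟨R', _, _, ⟨e⟩⟩ := Groth.Agent.Misc15.AffinePoints.exists_sp (R := k) P
      obtain ⟨φ, hφ⟩ := Groth.Agent.Misc15.AffinePoints.pt_surjective (e.hom ≫ i₀)
      have h1 : pt φ ≫ v = 1 := by rw [hφ, Category.assoc, AlgGrpLib.kernel_comp hk, MonObj.comp_one]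
      have h2 := (comp_toDual_eq_one_iff hL σN σK hσN hσK hU φ).1 h1
      rw [hφ] at h2
      have h3 := isPerpPt_res h2 e.inv
      rwa [Category.assoc, e.inv_hom_id_assoc] at h3
    · rintro ⟨⟨y, rfl⟩, hperp⟩
      have h1 : y ≫ v = 1 := by
        refine Over.OverMorphism.ext (Scheme.Cover.hom_ext T.left.affineCover _ _ fun j => ?_)
        let W : Over (Spec (CommRingCat.of k)) := Over.mk (T.left.affineCover.f j ≫ T.hom)
        let w : W ⟶ T := Over.homMk (T.left.affineCover.f j)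
        haveI : IsAffine W.left := inferInstanceAs (IsAffine (T.left.affineCover.X j))
        obtain ⟨R', _, _, ⟨e⟩⟩ := Groth.Agent.Misc15.AffinePoints.exists_sp (R := k) W
        obtain ⟨φ, hφ⟩ := Groth.Agent.Misc15.AffinePoints.pt_surjective (e.hom ≫ w ≫ y)
        have h2 : pt φ ≫ v = 1 := by
          refine (comp_toDual_eq_one_iff hL σN σK hσN hσK hU φ).2 ?_
          rw [hφ, Category.assoc, Category.assoc]
          exact isPerpPt_res (isPerpPt_res hperp w) e.hom
        have h3 : w ≫ (y ≫ v) = w ≫ 1 := by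
          rw [← cancel_epi e.hom, MonObj.comp_one, MonObj.comp_one, ← h2, hφ]
          simp only [Category.assoc]
        exact congrArg (fun f => f.left) h3
      obtain ⟨z, hz⟩ := AlgGrpLib.exists_lift_kernel hk h1
      exact ⟨z, by rw [← Category.assoc, hz]⟩
  · refine (rk_le_mul_of_hom v i₀ hk).trans (Nat.mul_le_mul_left _ (le_of_eq ?_))
    rw [rk_spec, rk_spec]
    exact (CartDual.toDual k R).finrank_eq.trans Subspace.dual_finrank_eq

end

/-- The orthogonal of a finite subgroup scheme of a finite `K(L)`: a subgroup scheme, of rank at least the quotient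
of the ranks. -/
theorem exists_perp (hL : PicF.IsInvertible L) {K : Over (Spec (CommRingCat.of k))} {iK : K ⟶ A}
    (hK : ThetaGrp.IsKL A L iK) [IsFinite K.hom] {N : Over (Spec (CommRingCat.of k))} [GrpObj N] [IsFinite N.hom]
    (iN : N ⟶ A) [IsMonHom iN] [Mono iN] (hN : ∃ y, y ≫ iK = iN) :
    ∃ (P : Over (Spec (CommRingCat.of k))) (_ : GrpObj P) (iP : P ⟶ A),
      IsMonHom iP ∧ IsClosedImmersion iP.left ∧ IsFinite P.hom ∧
      (∀ (T : Over (Spec (CommRingCat.of k))) (x : T ⟶ A), (∃ y : T ⟶ P, y ≫ iP = x) ↔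
        ((∃ y : T ⟶ K, y ≫ iK = x) ∧ ThetaGrp.IsPerpPt L iN x)) ∧
      rk K ≤ rk P * rk N := by
  obtain ⟨gK, hiK⟩ := exists_grpObj_KL hL hK
  haveI := hK.closed
  haveI : IsAffine N.left := isAffine_of_isAffineHom N.hom
  haveI : IsAffine K.left := isAffine_of_isAffineHom K.hom
  obtain ⟨R, _, _, e, _, _⟩ := HopfQuot.exists_spec (k := k) N
  obtain ⟨S, _, _, e', _, _⟩ := HopfQuot.exists_spec (k := k) K
  haveI : IsIso e.left := inferInstanceAs (IsIso ((Over.forget _).map e))
  haveI : IsIso e'.left := inferInstanceAs (IsIso ((Over.forget _).map e'))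
  haveI hf1 : IsFinite (sp k R).hom := by rw [← Over.w e]; infer_instance
  haveI hf2 : IsFinite (sp k S).hom := by rw [← Over.w e']; infer_instance
  haveI : Module.Finite k R :=
    RingHom.finite_algebraMap.1 ((IsFinite.SpecMap_iff (CommRingCat.ofHom (algebraMap k R))).1 hf1)
  haveI : Module.Finite k S :=
    RingHom.finite_algebraMap.1 ((IsFinite.SpecMap_iff (CommRingCat.ofHom (algebraMap k S))).1 hf2)
  obtain ⟨y, hy⟩ := hN
  obtain ⟨σN, hσN⟩ := exists_lift_univ hL hK (e ≫ iN) ⟨e ≫ y, by rw [Category.assoc, hy]⟩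
  obtain ⟨σK, hσK⟩ := exists_lift_univ hL hK (e' ≫ iK) ⟨e', rfl⟩
  haveI : IsClosedImmersion (e' ≫ iK).left := by rw [Over.comp_left]; infer_instance
  obtain ⟨P, gP, iP, h1, h2, h3, h4, h5⟩ := exists_perp_spec hL (e ≫ iN) (e' ≫ iK) σN hσN σK hσK
  refine ⟨P, gP, iP, h1, h2, h3, fun T x => (h4 T x).trans (and_congr ?_ (isPerpPt_iso_comp_iff e iN x)), ?_⟩
  · exact ⟨fun ⟨z, hz⟩ => ⟨z ≫ e', by rw [Category.assoc, hz]⟩,
      fun ⟨z, hz⟩ => ⟨z ≫ CategoryTheory.inv e', by rw [Category.assoc, IsIso.inv_hom_id_assoc, hz]⟩⟩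
  · exact le_of_eq_of_le (rk_congr (asIso e')).symm (h5.trans (le_of_eq (congrArg _ (rk_congr (asIso e)))))

end Groth.Agent.ThetaLib
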