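import Groth.Agent.ThetaLib.GluePts
import Groth.Agent.ThetaLib.Commutator

/-!
# The scalar points of the theta group
-/

set_option autoImplicit false
set_option backward.isDefEq.respectTransparency.types false
set_option linter.style.haveILetI false
set_option linter.unusedSectionVars false

universe u

open CategoryTheory CategoryTheory.Limits MonoidalCategory CartesianMonoidalCategory MonObj AlgebraicGeometry Opposite
open Pseudofunctor Bicategory
open Groth.Agent.EulerLib

namespace Groth.Agent.ThetaLib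

theorem scal_comp (a : CoGrothendieck ThetaGrp.modPF.{u}) (r r' : Γ(a.base, ⊤)) :
    scal a r ≫ scal a r' = scal a (r' * r) := by
  have h : smulMod a.fiber r ≫ smulMod a.fiber r' = smulMod a.fiber (r' * r) := by
    refine Scheme.Modules.hom_ext _ _ fun V => ConcreteCategory.hom_ext _ _ fun x => ?_
    show (smulMod a.fiber r').app V ((smulMod a.fiber r).app V x) = (smulMod a.fiber (r' * r)).app V x
    rw [smulMod_app', smulMod_app', smulMod_app', map_mul]
    exact smul_smul _ _ _
  exact ((CoGrothendieck.ι ThetaGrp.modPF a.base).map_comp _ _).symm.trans (congrArg _ h)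

variable {k : Type u} [Field k] {A T W : Over (Spec (CommRingCat.of k))} [GrpObj A] {L : A.left.Modules}

theorem scalT_comp (r r' : Γ(T.left, ⊤)) : scalT L T r ≫ scalT L T r' = scalT L T (r' * r) := by
  rw [scalT, scalT, scalT, scal_comp, map_mul]

/-- The scalar point of a unit. -/
noncomputable def scalPt (L : A.left.Modules) (r : Γ(T.left, ⊤)ˣ) : ThetaGrp.thetaPts A L T :=
  ⟨⟨scalT L T r, scalT L T (r⁻¹ : Γ(T.left, ⊤)ˣ), by rw [scalT_comp, Units.inv_mul, scalT_one],
    by rw [scalT_comp, Units.mul_inv, scalT_one]⟩, 1, by rw [ThetaGrp.transl_one]; rfl⟩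

theorem scalPt_hom (r : Γ(T.left, ⊤)ˣ) : (scalPt L r).1.hom = scalT L T r := rfl

theorem isOverPt_scalPt (r : Γ(T.left, ⊤)ˣ) : ThetaGrp.IsOverPt (scalPt L r) (1 : T ⟶ A) := by
  rw [ThetaGrp.IsOverPt, ThetaGrp.transl_one]
  rfl

theorem tpt_scalPt (r : Γ(T.left, ⊤)ˣ) : tpt (scalPt L r) = 1 := tpt_eq (isOverPt_scalPt r)

theorem res_scalPt (t : W ⟶ T) (r : Γ(T.left, ⊤)ˣ) :
    res t (scalPt L r) = scalPt L (Units.map t.left.appTop.hom.toMonoidHom r) := by
  refine (eq_res ?_).symm
  exact (comp_scalT (ThetaGrp.bcLift A L t) t (congrArg (fun z => z.left) (whiskerLeft_snd A t)) r).symm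

theorem scalPt_injective (hL : PicF.IsInvertible L) {r r' : Γ(T.left, ⊤)ˣ} (h : scalPt L r = scalPt L r') : r = r' :=
  Units.ext (scalT_injective hL (congrArg (fun z => z.1.hom) h))

theorem tpt_mul (α β : ThetaGrp.thetaPts A L T) : tpt (α * β) = tpt β * tpt α :=
  tpt_eq (isOverPt_mul (isOverPt_tpt α) (isOverPt_tpt β))

theorem tpt_inv (α : ThetaGrp.thetaPts A L T) : tpt α⁻¹ = (tpt α)⁻¹ := tpt_eq (isOverPt_inv (isOverPt_tpt α))

section proper

variable [IsProper A.hom] [GeometricallyIntegral A.hom]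

theorem exists_eq_scalPt (hL : PicF.IsInvertible L) {c : ThetaGrp.thetaPts A L T} (hc : tpt c = 1) :
    ∃ r, c = scalPt L r := by
  have hb : c.1.hom.base = 𝟙 _ := by
    have h := isOverPt_tpt c
    rw [hc, ThetaGrp.IsOverPt, ThetaGrp.transl_one] at h
    exact h
  have hb' : c⁻¹.1.hom.base = 𝟙 _ := by
    have h := isOverPt_tpt c⁻¹
    rw [tpt_inv, hc, inv_one, ThetaGrp.IsOverPt, ThetaGrp.transl_one] at h
    exact h
  obtain ⟨s, hs⟩ := exists_eq_scal (PicLoc.isInvertible_pullback _ hL) c.1.hom hb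
  obtain ⟨s', hs'⟩ := exists_eq_scal (PicLoc.isInvertible_pullback _ hL) c⁻¹.1.hom hb'
  let e := (lift (1 : T ⟶ A) (𝟙 T)).left.appTop
  have h1 : s' * s = 1 := by
    refine scal_injective (PicLoc.isInvertible_pullback _ hL) ?_
    rw [← scal_comp, ← hs, ← hs', scal_one, ← mul_hom, inv_mul_cancel]
    rfl
  refine ⟨⟨e s, e s', by rw [← map_mul, mul_comm, h1, map_one], by rw [← map_mul, h1, map_one]⟩, pts_hom_ext ?_⟩
  rw [scalPt_hom, hs, scalT]
  exact congrArg (scal _) (appTop_snd_eq s).symm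

end proper

end Groth.Agent.ThetaLib
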